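import Mathlib

/-! Fixed-point-free automorphisms of order three; two-Engel groups. -/

set_option autoImplicit false
set_option linter.style.haveILetI false

namespace H31.FpfThree

open scoped commutatorElement

section RingLemma

variable {R : Type*} [Ring R]

theorem ring_aux (p q : R) (hp : p * p = 0) (hq : q * q = 0)
    (hr : (p + q + p * q) * (p + q + p * q) = 0) :
    q * p = -(p * q) ∧ (1 + p) * (1 + q) * (1 - p) * (1 - q) = 1 + (p * q + p * q) := by
  have hexp : p * q + q * p + q * p * q + p * q * p + p * q * p * q = 0 := by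
    have h' : (p + q + p * q) * (p + q + p * q) = p * p + q * q + (p * p) * q + p * (q * q) +
        (p * q + q * p + q * p * q + p * q * p + p * q * p * q) := by noncomm_ring
    rw [h', hp, hq] at hr
    simpa using hr
  have hpqpq : p * q * p + p * q * p * q = 0 := by
    have h' : p * q * p + p * q * p * q =
        p * (p * q + q * p + q * p * q + p * q * p + p * q * p * q) -
          (p * p) * (q + q * p + q * p * q) := by noncomm_ring
    rw [h', hexp, hp, mul_zero, zero_mul, sub_zero]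
  have hpqp : p * q * p = 0 := by
    have h' : p * q * p * q = (p * q * p + p * q * p * q) * q - p * q * p * (q * q) := by noncomm_ring
    rw [hpqpq, hq, zero_mul, mul_zero, sub_zero] at h'
    rwa [h', add_zero] at hpqpq
  have hqpq : q * p * q = 0 := by
    have h' : q * p * q = (p * q + q * p + q * p * q + p * q * p + p * q * p * q) * q
        - (p + q * p + p * q * p) * (q * q) - (p * q * p) * q := by noncomm_ring
    rw [h', hexp, hq, hpqp]; simp
  have hanti : q * p = -(p * q) := by
    rw [hpqp, hqpq, zero_mul, add_zero, add_zero, add_zero] at hexp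
    exact eq_neg_of_add_eq_zero_right hexp
  refine ⟨hanti, ?_⟩
  have h' : (1 + p) * (1 + q) * (1 - p) * (1 - q) = 1 + (p * q - q * p) - p * p - q * q
      + q * p * q - p * q * p + (p * p) * q - p * (q * q) + p * q * p * q := by noncomm_ring
  rw [h', hp, hq, hpqp, hqpq, zero_mul, mul_zero, hanti]
  simp

end RingLemma

section Engel

variable {G : Type*} [Group G]

theorem engel_aux (hE : ∀ x g : G, Commute x (g * x * g⁻¹)) (g h x : G) :
    ⁅h, ⁅g, x⁆⁆ = ⁅g, ⁅h, x⁆⁆⁻¹ ∧ ⁅g, ⁅x, h⁆⁆ = ⁅g, ⁅h, x⁆⁆⁻¹ ∧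
      ⁅⁅g, h⁆, x⁆ = ⁅g, ⁅h, x⁆⁆ * ⁅g, ⁅h, x⁆⁆ := by
  classical
  set S : Set G := Set.range (fun w : G => w * x * w⁻¹) with hS
  set A := Subgroup.normalClosure ({x} : Set G) with hA
  have hconj : ∀ u v : G, Commute (u * x * u⁻¹) (v * x * v⁻¹) := by
    intro u v
    have h1 := (hE x (u⁻¹ * v)).map (MulAut.conj u).toMonoidHom
    simp only [MulEquiv.coe_toMonoidHom, MulAut.conj_apply] at h1
    convert h1 using 1
    group
  have hAc : ∀ a ∈ A, ∀ b ∈ A, Commute a b := by
    intro a ha b hb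
    have hle : A ≤ Subgroup.centralizer (Group.conjugatesOfSet ({x} : Set G)) := by
      rw [hA, Subgroup.normalClosure, Subgroup.closure_le]
      intro u hu
      rw [SetLike.mem_coe, Subgroup.mem_centralizer_iff]
      intro v hv
      obtain ⟨x1, hx1, hu⟩ := Group.mem_conjugatesOfSet_iff.mp hu
      obtain ⟨x2, hx2, hv⟩ := Group.mem_conjugatesOfSet_iff.mp hv
      rw [Set.mem_singleton_iff.mp hx1] at hu
      rw [Set.mem_singleton_iff.mp hx2] at hv
      obtain ⟨c, rfl⟩ := isConj_iff.mp hu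
      obtain ⟨d, rfl⟩ := isConj_iff.mp hv
      exact (hconj d c).eq
    have hle2 : A ≤ Subgroup.centralizer (A : Set G) := by
      rw [hA, Subgroup.normalClosure, Subgroup.centralizer_closure]
      exact hle
    exact ((Subgroup.mem_centralizer_iff.mp (hle2 ha)) b hb).symm
  haveI hAn : A.Normal := Subgroup.normalClosure_normal
  letI : CommGroup A :=
    { (inferInstance : Group A) with mul_comm := fun a b => Subtype.ext (hAc _ a.2 _ b.2) }
  let ρ : G → AddMonoid.End (Additive A) := fun w =>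
    MonoidHom.toAdditive ((MulAut.conjNormal w : MulAut A).toMonoidHom)
  have hρ : ∀ (w : G) (a : A), ((Additive.toMul (ρ w (Additive.ofMul a)) : A) : G) = w * a * w⁻¹ :=
    fun w a => MulAut.conjNormal_apply w a
  have hρmul : ∀ u v, ρ (u * v) = ρ u * ρ v := by
    intro u v
    refine AddMonoidHom.ext fun a => ?_
    apply Additive.toMul.injective
    apply Subtype.ext
    show (((MulAut.conjNormal (u * v) : MulAut A) (Additive.toMul a) : A) : G) =
      (((MulAut.conjNormal u : MulAut A) ((MulAut.conjNormal v : MulAut A) (Additive.toMul a)) : A) : G)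
    rw [map_mul, MulAut.mul_apply]
  have hρone : ρ 1 = 1 := by
    refine AddMonoidHom.ext fun a => ?_
    apply Additive.toMul.injective
    show (MulAut.conjNormal (1 : G) : MulAut A) (Additive.toMul a) = Additive.toMul a
    rw [map_one]; rfl
  have hsq : ∀ w, (ρ w - 1) * (ρ w - 1) = 0 := by
    intro w
    refine AddMonoidHom.ext fun a => ?_
    obtain ⟨a, rfl⟩ := Additive.ofMul.surjective a
    set b : A := (MulAut.conjNormal w : MulAut A) a * a⁻¹ with hb
    have hfix : (MulAut.conjNormal w : MulAut A) b = b := by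
      apply Subtype.ext
      rw [MulAut.conjNormal_apply, hb, Subgroup.coe_mul, Subgroup.coe_inv, MulAut.conjNormal_apply]
      have h1 : Commute w ((a : G) * w⁻¹ * (a : G)⁻¹) := Commute.inv_left (hE w⁻¹ a) |> fun h => by simpa using h
      have h2 : Commute w (w * ((a : G) * w⁻¹ * (a : G)⁻¹)) := (Commute.refl w).mul_right h1
      rw [show w * (a : G) * w⁻¹ * (a : G)⁻¹ = w * ((a : G) * w⁻¹ * (a : G)⁻¹) by group, h2.eq, mul_inv_cancel_right]
    show (ρ w - 1) ((ρ w - 1) (Additive.ofMul a)) = 0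
    have hstep : (ρ w - 1) (Additive.ofMul a) = Additive.ofMul b := by
      show ρ w (Additive.ofMul a) - Additive.ofMul a = Additive.ofMul b
      rw [hb]
      show Additive.ofMul ((MulAut.conjNormal w : MulAut A) a) - Additive.ofMul a = _
      rw [← ofMul_div, div_eq_mul_inv]
    rw [hstep]
    show Additive.ofMul ((MulAut.conjNormal w : MulAut A) b) - Additive.ofMul b = 0
    rw [hfix, sub_self]
  set p := ρ g - 1 with hp
  set q := ρ h - 1 with hq
  have hg1 : ρ g = 1 + p := (add_sub_cancel _ _).symm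
  have hh1 : ρ h = 1 + q := (add_sub_cancel _ _).symm
  have hr : (p + q + p * q) * (p + q + p * q) = 0 := by
    have : p + q + p * q = ρ (g * h) - 1 := by
      rw [hρmul, hg1, hh1, add_mul, mul_add, mul_add]; simp only [mul_one, one_mul]; abel
    rw [this]; exact hsq _
  obtain ⟨hanti, hprod⟩ := ring_aux p q (hsq g) (hsq h) hr
  have hinv : ∀ w, ρ w * (1 - (ρ w - 1)) = 1 := fun w => by
    have h0 : ρ w * (1 - (ρ w - 1)) = (1 + (ρ w - 1)) * (1 - (ρ w - 1)) := by rw [add_sub_cancel]
    rw [h0, add_mul, one_mul, mul_sub, mul_one, hsq, sub_zero]; abel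
  have hρinv : ∀ w, ρ w⁻¹ = 1 - (ρ w - 1) := fun w => by
    calc ρ w⁻¹ = ρ w⁻¹ * (ρ w * (1 - (ρ w - 1))) := by rw [hinv, mul_one]
      _ = ρ (w⁻¹ * w) * (1 - (ρ w - 1)) := by rw [hρmul, mul_assoc]
      _ = 1 - (ρ w - 1) := by rw [inv_mul_cancel, hρone, one_mul]
  have hcomm : ρ ⁅g, h⁆ - 1 = p * q + p * q := by
    rw [commutatorElement_def, hρmul, hρmul, hρmul, hρinv, hρinv, ← hp, ← hq, hg1, hh1, hprod, add_sub_cancel_left]
  -- evaluation at `x`
  have hxA : x ∈ A := Subgroup.subset_normalClosure rfl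
  have hD : ∀ (w : G) (a : A), ((Additive.toMul ((ρ w - 1) (Additive.ofMul a)) : A) : G) = ⁅w, (a : G)⁆ := by
    intro w a
    show (((MulAut.conjNormal w : MulAut A) a / a : A) : G) = _
    rw [div_eq_mul_inv, Subgroup.coe_mul, Subgroup.coe_inv, MulAut.conjNormal_apply, commutatorElement_def]
  set X : Additive A := Additive.ofMul ⟨x, hxA⟩ with hX
  have e1 : ((Additive.toMul ((p * q) X) : A) : G) = ⁅g, ⁅h, x⁆⁆ := by
    show ((Additive.toMul ((ρ g - 1) ((ρ h - 1) X)) : A) : G) = _
    have := hD g (Additive.toMul ((ρ h - 1) X))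
    rw [ofMul_toMul] at this
    rw [this, hX, hD]
  have e2 : ⁅⁅g, h⁆, x⁆ = ⁅g, ⁅h, x⁆⁆ * ⁅g, ⁅h, x⁆⁆ := by
    have := hD ⁅g, h⁆ ⟨x, hxA⟩
    rw [← hX, hcomm] at this
    rw [← this, ← e1]
    rfl
  refine ⟨?_, ?_, e2⟩
  · have h1 : ((Additive.toMul ((q * p) X) : A) : G) = ⁅h, ⁅g, x⁆⁆ := by
      show ((Additive.toMul ((ρ h - 1) ((ρ g - 1) X)) : A) : G) = _
      have := hD h (Additive.toMul ((ρ g - 1) X))
      rw [ofMul_toMul] at this
      rw [this, hX, hD]
    rw [← h1, ← e1, hanti]; rfl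
  · have hm : ⁅h, x⁆ ∈ A := by
      rw [commutatorElement_def]
      exact A.mul_mem (hAn.conj_mem x hxA h) (A.inv_mem hxA)
    rw [← commutatorElement_inv h x]
    have h1 := hD g (⟨⁅h, x⁆, hm⟩ : A)⁻¹
    have h2 := hD g (⟨⁅h, x⁆, hm⟩ : A)
    rw [ofMul_inv, map_neg] at h1
    rw [Subgroup.coe_inv] at h1
    rw [← h1, ← h2]; rfl

/-- In a two-Engel group all triple commutators have order dividing three. -/
theorem triple_pow_three (hE : ∀ x g : G, Commute x (g * x * g⁻¹)) (g h x : G) :
    ⁅g, ⁅h, x⁆⁆ ^ 3 = 1 := by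
  obtain ⟨-, hb, hc⟩ := engel_aux hE g h x
  obtain ⟨ha, -, -⟩ := engel_aux hE g x h
  have h1 : ⁅⁅g, h⁆, x⁆ = ⁅g, ⁅h, x⁆⁆⁻¹ := by
    rw [← commutatorElement_inv x ⁅g, h⁆, ha, hb, inv_inv]
  rw [hc] at h1
  rw [pow_succ, pow_two, h1, inv_mul_cancel]

/-- A fixed-point-free automorphism of order three forces class at most two away from three. -/
theorem commutator_mem_center_of_fpf [Finite G] (α : MulAut G) (h3 : α ^ 3 = 1)
    (hf : ∀ x, α x = x → x = 1) (htor : ∀ x : G, x ^ 3 = 1 → x = 1) (a b : G) :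
    ⁅a, b⁆ ∈ Subgroup.center G := by
  have hα3 : ∀ x, α (α (α x)) = x := fun x => by
    have := DFunLike.congr_fun h3 x
    simpa [pow_succ, MulAut.mul_apply] using this
  have hsurj : ∀ β : MulAut G, (∀ x, β x = x → x = 1) → ∀ y, ∃ x, x⁻¹ * β x = y := by
    intro β hβ
    refine Finite.injective_iff_surjective.mp fun v w h => ?_
    have h1 : β (v * w⁻¹) = v * w⁻¹ := by
      have h2 : β v = v * w⁻¹ * β w := by rw [mul_assoc, ← h]; simp
      rw [map_mul, map_inv, h2, mul_inv_cancel_right]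
    exact mul_inv_eq_one.mp (hβ _ h1)
  have hcomm : ∀ β : MulAut G, (∀ x, β (β (β x)) = x) → (∀ x, β x = x → x = 1) → ∀ x, Commute x (β x) := by
    intro β hβ3 hβ x
    obtain ⟨y, hy⟩ := hsurj β hβ x
    obtain ⟨z, hz⟩ := hsurj β hβ x⁻¹
    have h1 : x * β x * β (β x) = 1 := by
      rw [← hy]; simp only [map_mul, map_inv, hβ3]; group
    have h2 : x⁻¹ * β x⁻¹ * β (β x⁻¹) = 1 := by
      rw [← hz]; simp only [map_mul, map_inv, hβ3]; group
    rw [map_inv, map_inv] at h2
    have h4 : β (β x) = (x * β x)⁻¹ := eq_inv_of_mul_eq_one_right h1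
    rw [h4, inv_inv] at h2
    show x * β x = β x * x
    have h5 := congrArg (fun t => β x * x * t) h2
    simp only [mul_one] at h5
    rw [← h5]; group
  have hall : ∀ β : MulAut G, (∀ x, β (β (β x)) = x) → (∀ x, β x = x → x = 1) →
      ∀ x g, Commute x (g * β x * g⁻¹) := by
    intro β hβ3 hβ x g
    obtain ⟨y, hy⟩ := hsurj β hβ g
    have h1 := (hcomm β hβ3 hβ (y * x * y⁻¹)).map (MulAut.conj y⁻¹).toMonoidHom
    simp only [MulEquiv.coe_toMonoidHom, MulAut.conj_apply, inv_inv] at h1
    rw [← hy]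
    convert h1 using 1
    · group
    · simp only [map_mul, map_inv]; group
  have hE : ∀ x g : G, Commute x (g * x * g⁻¹) := by
    intro x g
    have h1 := hall α hα3 hf
    have hα2 : ∀ v, (α * α) v = α (α v) := fun v => rfl
    have h2 := hall (α * α) (fun v => by simp only [hα2, hα3]) (fun v hv => by
      rw [hα2] at hv
      apply hf
      calc α v = α (α (α v)) := by rw [hv]
        _ = v := hα3 v)
    have k1 : Commute (g * x * g⁻¹) (α x) := by
      have := (h1 x g⁻¹).map (MulAut.conj g).toMonoidHom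
      simp only [MulEquiv.coe_toMonoidHom, MulAut.conj_apply] at this
      convert this using 1
      group
    have k2 : Commute (g * x * g⁻¹) (α (α x)) := by
      have := (h2 x g⁻¹).map (MulAut.conj g).toMonoidHom
      simp only [MulEquiv.coe_toMonoidHom, MulAut.conj_apply, hα2] at this
      convert this using 1
      group
    obtain ⟨y, hy⟩ := hsurj α hf x
    have hx : x = (α x * α (α x))⁻¹ := by
      refine eq_inv_of_mul_eq_one_left ?_
      rw [← hy]; simp only [map_mul, map_inv, hα3]; group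
    rw [hx] at ⊢
    exact ((k1.mul_right k2).inv_right).symm |> fun h => by rw [← hx]; rwa [← hx] at h
  rw [Subgroup.mem_center_iff]
  intro c
  exact commutatorElement_eq_one_iff_mul_comm.mp (htor _ (triple_pow_three hE c a b))

end Engel

theorem orbit_prod {G : Type*} [Group G] [Finite G] (α : MulAut G) (h3 : α ^ 3 = 1) (hf : ∀ x, α x = x → x = 1) (y : G) :
    y * α y * (α ^ 2) y = 1 := by
  have hinj : Function.Injective (fun x => x⁻¹ * α x) := by
    intro v w h
    have h2 : α v = v * w⁻¹ * α w := by rw [mul_assoc, ← show v⁻¹ * α v = w⁻¹ * α w from h]; simp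
    have h1 : α (v * w⁻¹) = v * w⁻¹ := by rw [map_mul, map_inv, h2, mul_inv_cancel_right]
    exact mul_inv_eq_one.mp (hf _ h1)
  obtain ⟨x, rfl⟩ := Finite.injective_iff_surjective.mp hinj y
  have hα3 : α (α (α x)) = x := by
    have := DFunLike.congr_fun h3 x
    simpa [pow_succ, MulAut.mul_apply] using this
  simp only [pow_two, MulAut.mul_apply, map_mul, map_inv, hα3]
  group

end H31.FpfThree
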