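import Cfsg.Agent.H31.EightCore
import Cfsg.Agent.H30.SelfCentralizing
import Cfsg.Agent.H30.ExtraspecialTwo

/-! Tools: quaternion pairs, 2-groups with inverted cyclic subgroup of index 2, odd automorphisms. -/

set_option autoImplicit false
set_option linter.style.haveILetI false
set_option linter.unusedSectionVars false

namespace H31.Eight

open scoped commutatorElement

universe u

variable {X : Type u} [Group X] [Finite X]

/-- Two noncommuting elements of order four with the same square generate a quaternion group. -/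
theorem q8_of_pair {a b z : X} (hz1 : z ≠ 1) (hzz : z * z = 1) (ha : a * a = z) (hb : b * b = z)
    (hcm : ⁅b, a⁆ = z) :
    Nonempty (↥(Subgroup.closure ({a, b} : Set X)) ≃* QuaternionGroup 2) ∧
      Nat.card ↥(Subgroup.closure ({a, b} : Set X)) = 8 := by
  have hai : a⁻¹ = z * a := by
    refine inv_eq_of_mul_eq_one_left ?_
    rw [mul_assoc, ha, hzz]
  have hba : b * a = a⁻¹ * b := by
    rw [hai, mul_assoc, ← hcm, commutatorElement_def]; group
  have h4 : a ^ (2 * 2) = 1 := by rw [pow_mul, pow_two a, ha, pow_two, hzz]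
  set f := H37.quaternionHom a b h4 (by rw [hb, pow_two, ha]) hba with hf
  have hfa : ∀ i, f (.a i) = a ^ i.val := H37.quaternionHom_a _ _ _ _ _
  have hfx : ∀ i, f (.xa i) = b * a ^ i.val := H37.quaternionHom_xa _ _ _ _ _
  have hrange : f.range = Subgroup.closure ({a, b} : Set X) := by
    refine le_antisymm ?_ ((Subgroup.closure_le _).mpr ?_)
    · rintro _ ⟨g, rfl⟩
      have hA : a ∈ Subgroup.closure ({a, b} : Set X) := Subgroup.subset_closure (Or.inl rfl)
      have hB : b ∈ Subgroup.closure ({a, b} : Set X) := Subgroup.subset_closure (Or.inr rfl)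
      cases g with
      | a i => rw [hfa]; exact Subgroup.pow_mem _ hA _
      | xa i => rw [hfx]; exact Subgroup.mul_mem _ hB (Subgroup.pow_mem _ hA _)
    · rintro x (rfl | rfl)
      · refine ⟨.a 1, ?_⟩
        rw [hfa]
        exact pow_one x
      · refine ⟨.xa 0, ?_⟩
        rw [hfx]
        simp
  have hanb : ∀ i : ℕ, b ≠ a ^ i := by
    intro i e
    apply hz1
    rw [← hcm, e, commutatorElement_eq_one_iff_mul_comm]
    exact (Commute.pow_self a i).eq
  have ha4 : orderOf a = 4 := orderOf_eq_four ha hz1 hzz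
  have hinj : Function.Injective f := by
    rw [← MonoidHom.ker_eq_bot_iff, eq_bot_iff]
    intro g hg
    rw [MonoidHom.mem_ker] at hg
    cases g with
    | a i =>
      rw [hfa, ← orderOf_dvd_iff_pow_eq_one, ha4] at hg
      have h0 : i.val = 0 := Nat.eq_zero_of_dvd_of_lt hg i.val_lt
      rw [ZMod.val_eq_zero] at h0
      rw [h0, Subgroup.mem_bot]; rfl
    | xa i =>
      rw [hfx] at hg
      exfalso
      apply hanb (3 * i.val)
      rw [eq_inv_of_mul_eq_one_left hg]
      refine inv_eq_of_mul_eq_one_right ?_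
      rw [← pow_add, ← orderOf_dvd_iff_pow_eq_one, ha4]
      omega
  have e := (MonoidHom.ofInjective hinj).trans (MulEquiv.subgroupCongr hrange)
  refine ⟨⟨e.symm⟩, ?_⟩
  rw [← Nat.card_congr e.toEquiv, Nat.card_eq_fintype_card]
  decide

/-- Either two noncommuting elements square to `z`, or the elements which are not involutions commute. -/
theorem pair_or_comm {z : X} (hsq : ∀ y : X, y * y = 1 ∨ y * y = z)
    (hcm : ∀ a b : X, ⁅a, b⁆ = 1 ∨ ⁅a, b⁆ = z) :
    (∃ a b : X, a * a = z ∧ b * b = z ∧ ⁅b, a⁆ = z) ∨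
      IsMulCommutative (Subgroup.closure {x : X | x * x ≠ 1}) := by
  by_cases h : ∃ a b : X, a * a = z ∧ b * b = z ∧ ⁅b, a⁆ = z
  · exact Or.inl h
  · refine Or.inr (Subgroup.isMulCommutative_closure fun x hx y hy => ?_)
    refine (commutatorElement_eq_one_iff_mul_comm.mp ((hcm y x).resolve_right fun e => ?_)).symm
    exact h ⟨x, y, (hsq x).resolve_left hx, (hsq y).resolve_left hy, e⟩

theorem closure_nonInvolution_char : (Subgroup.closure {x : X | x * x ≠ 1}).Characteristic := by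
  refine Subgroup.characteristic_iff_map_le.mpr fun φ => ?_
  rw [MonoidHom.map_closure, Subgroup.closure_le]
  rintro _ ⟨x, hx, rfl⟩
  refine Subgroup.subset_closure ?_
  show φ x * φ x ≠ 1
  rw [← map_mul]
  exact fun e => hx ((map_eq_one_iff φ φ.injective).mp e)

/-- An odd power of an automorphism preserving a cyclic 2-subgroup fixes it. -/
theorem fix_cyclic {f : MulAut X} {n m : ℕ} (hn : Odd n) (hfn : f ^ n = 1) {u : X} (hu : orderOf u = 2 ^ m)
    (hf : f u ∈ Subgroup.zpowers u) : f u = u := by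
  obtain ⟨s, hs⟩ : ∃ s : ℕ, u ^ s = f u := H30.exists_npow_of_mem_zpowers hf
  have hit : ∀ k : ℕ, (f ^ k) u = u ^ s ^ k := by
    intro k
    induction k with
    | zero => simp
    | succ k ih => rw [pow_succ, MulAut.mul_apply, ← hs, map_pow, ih, ← pow_mul, ← pow_succ]
  rcases Nat.eq_zero_or_pos m with rfl | hm
  · rw [pow_zero, orderOf_eq_one_iff] at hu
    rw [hu, map_one]
  haveI : NeZero (2 ^ m) := ⟨by positivity⟩
  have h1 : (s : ZMod (2 ^ m)) ^ n = 1 := by
    have h := hit n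
    rw [hfn, MulAut.one_apply] at h
    have h' : u ^ 1 = u ^ s ^ n := by rw [pow_one]; exact h
    rw [H30.pow_eq_pow_iff_int, hu] at h'
    have := (ZMod.intCast_eq_intCast_iff_dvd_sub ((s ^ n : ℕ) : ℤ) ((1 : ℕ) : ℤ) (2 ^ m)).mpr h'
    push_cast at this
    exact this
  have hn0 : n ≠ 0 := fun h => by subst h; simp at hn
  have hunit : IsUnit (s : ZMod (2 ^ m)) :=
    (isUnit_pow_iff hn0).mp (h1.symm ▸ isUnit_one)
  obtain ⟨v, hv⟩ := hunit
  have hv1 : v ^ n = 1 := Units.ext (by rw [Units.val_pow_eq_pow_val, hv, h1, Units.val_one])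
  have hcard : Nat.card (ZMod (2 ^ m))ˣ = 2 ^ (m - 1) := by
    rw [Nat.card_eq_fintype_card, ZMod.card_units_eq_totient, Nat.totient_prime_pow Nat.prime_two hm]
    norm_num
  have hv2 : orderOf v = 1 := by
    refine Nat.eq_one_of_dvd_coprimes (Nat.Coprime.pow_right (m - 1) (Nat.coprime_two_right.mpr hn))
      (orderOf_dvd_of_pow_eq_one hv1) ?_
    rw [← hcard]
    exact orderOf_dvd_natCard v
  rw [orderOf_eq_one_iff] at hv2
  rw [hv2, Units.val_one] at hv
  rw [← hs]
  conv_rhs => rw [← pow_one u]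
  rw [H30.pow_eq_pow_iff_int, hu]
  rw [← ZMod.intCast_eq_intCast_iff_dvd_sub]
  push_cast
  exact hv

/-- An automorphism of odd order trivial on a subgroup of index two is trivial. -/
theorem fix_index_two {f : MulAut X} {n : ℕ} (hn : Odd n) (hfn : f ^ n = 1) (h2 : IsPGroup 2 X)
    {H : Subgroup X} (hH : H.index = 2) (hfix : ∀ h ∈ H, f h = h) : f = 1 := by
  ext x
  by_cases hx : x ∈ H
  · exact hfix x hx
  have hfx : x⁻¹ * f x ∈ H := by
    rw [Subgroup.mul_mem_iff_of_index_two hH, inv_mem_iff]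
    refine iff_of_false hx fun h => hx ?_
    have := hfix _ h
    rw [EmbeddingLike.apply_eq_iff_eq] at this
    rwa [this] at h
  set t := x⁻¹ * f x with ht
  have hit : ∀ k : ℕ, (f ^ k) x = x * t ^ k := by
    intro k
    induction k with
    | zero => simp
    | succ k ih =>
      rw [pow_succ', MulAut.mul_apply, ih, map_mul, map_pow, hfix t hfx, show f x = x * t by rw [ht]; group,
        mul_assoc, ← pow_succ']
  have h := hit n
  rw [hfn, MulAut.one_apply, left_eq_mul] at h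
  haveI : Fact (Nat.Prime 2) := ⟨Nat.prime_two⟩
  obtain ⟨k, hk⟩ := IsPGroup.iff_orderOf.mp h2 t
  have ht1 : orderOf t = 1 :=
    Nat.eq_one_of_dvd_coprimes (Nat.Coprime.pow_right k (Nat.coprime_two_right.mpr hn))
      (orderOf_dvd_of_pow_eq_one h) (hk ▸ dvd_rfl)
  rw [orderOf_eq_one_iff] at ht1
  rw [MulAut.one_apply, show f x = x * t by rw [ht]; group, ht1, mul_one]

section InvCyclic

variable {u x : X} {r m : ℕ}

theorem inv_conj_outside (hidx : (Subgroup.zpowers u).index = 2) (hx : x ∉ Subgroup.zpowers u)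
    (hr : x * u * x⁻¹ = u ^ r) {g : X} (hg : g ∉ Subgroup.zpowers u) : g * u * g⁻¹ = u ^ r := by
  have hmem : g * x⁻¹ ∈ Subgroup.zpowers u := by
    rw [Subgroup.mul_mem_iff_of_index_two hidx, inv_mem_iff]
    exact iff_of_false hg hx
  obtain ⟨i, hi⟩ := Subgroup.mem_zpowers_iff.mp hmem
  rw [show g = u ^ i * x by rw [hi, inv_mul_cancel_right],
    show u ^ i * x * u * (u ^ i * x)⁻¹ = u ^ i * (x * u * x⁻¹) * (u ^ i)⁻¹ by group, hr,
    (((Commute.refl u).zpow_left i).pow_right r).eq, mul_inv_cancel_right]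

/-- Outside `⟨u⟩` only squares of order at most two are centralised. -/
theorem inv_fix (hidx : (Subgroup.zpowers u).index = 2) (hx : x ∉ Subgroup.zpowers u) (hm : 1 ≤ m)
    (hu : orderOf u = 2 ^ m) (hr : x * u * x⁻¹ = u ^ r) (hr4 : r % 4 = 3) {g w : X}
    (hg : g ∉ Subgroup.zpowers u) (hw : w ∈ Subgroup.zpowers u) (hc : Commute g w) : w * w = 1 := by
  obtain ⟨j, rfl⟩ := H30.exists_npow_of_mem_zpowers hw
  have h : u ^ (r * j) = u ^ j := by
    rw [pow_mul, ← inv_conj_outside hidx hx hr hg, conj_pow, hc.eq, mul_inv_cancel_right]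
  obtain ⟨c, hc'⟩ : ∃ c, r = 2 * (2 * c + 1) + 1 := ⟨r / 4, by omega⟩
  rw [hc', add_mul, one_mul, pow_add, mul_eq_right, ← orderOf_dvd_iff_pow_eq_one, hu] at h
  rw [← pow_add, ← orderOf_dvd_iff_pow_eq_one, hu, ← two_mul]
  refine (Nat.Coprime.pow_left _ (Nat.coprime_two_left.mpr (odd_two_mul_add_one c))).dvd_of_dvd_mul_left ?_
  rwa [show (2 * c + 1) * (2 * j) = 2 * (2 * c + 1) * j by ring]

theorem inv_outside_four (hidx : (Subgroup.zpowers u).index = 2) (hx : x ∉ Subgroup.zpowers u) (hm : 1 ≤ m)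
    (hu : orderOf u = 2 ^ m) (hr : x * u * x⁻¹ = u ^ r) (hr4 : r % 4 = 3) {g : X}
    (hg : g ∉ Subgroup.zpowers u) : g ^ 4 = 1 := by
  have h := inv_fix hidx hx hm hu hr hr4 hg
    (show g * g ∈ Subgroup.zpowers u from Subgroup.mul_self_mem_of_index_two hidx g)
    ((Commute.refl g).mul_right (Commute.refl g))
  rwa [show g ^ 4 = (g * g) * (g * g) by simp only [pow_succ, pow_zero, one_mul, mul_assoc]]

theorem inv_not_comm (hidx : (Subgroup.zpowers u).index = 2) (hx : x ∉ Subgroup.zpowers u)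
    (hu : orderOf u = 2 ^ m) (hm : 3 ≤ m) (hr : x * u * x⁻¹ = u ^ r) (hr4 : r % 4 = 3) :
    u * u ∈ (commutator X : Subgroup X) ∧ ¬ Commute x (u * u) := by
  refine ⟨?_, fun h => ?_⟩
  · have h1 : ⁅x, u⁆ ∈ commutator X :=
      Subgroup.commutator_mem_commutator (Subgroup.mem_top x) (Subgroup.mem_top u)
    obtain ⟨k, hk⟩ : ∃ k, r = 2 * (2 * k + 1) + 1 := ⟨r / 4, by omega⟩
    rw [commutatorElement_def, hr, hk, pow_succ, mul_inv_cancel_right] at h1
    obtain ⟨t, ht⟩ := Nat.exists_mul_mod_eq_one_of_coprime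
      (Nat.Coprime.pow_right m (Nat.coprime_two_right.mpr (odd_two_mul_add_one k)))
      (Nat.one_lt_two_pow (by omega))
    have := Subgroup.pow_mem _ h1 t
    rwa [← pow_mul, mul_assoc, pow_mul, pow_two, ← pow_mod_orderOf (u * u),
      show ((2 * k + 1) * t) % orderOf (u * u) = 1 by
        rw [← Nat.mod_mod_of_dvd _ (show orderOf (u * u) ∣ 2 ^ m by
          rw [← hu, ← pow_two]; exact orderOf_pow_dvd 2), ht.2, Nat.mod_eq_of_lt]
        have : orderOf (u * u) ≠ 1 := by
          rw [Ne, orderOf_eq_one_iff, ← pow_two, ← orderOf_dvd_iff_pow_eq_one, hu]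
          intro hd
          have := Nat.le_of_dvd (by norm_num) hd
          have : 2 ^ 3 ≤ 2 ^ m := Nat.pow_le_pow_right (by norm_num) hm
          omega
        have := orderOf_pos (u * u)
        omega, pow_one] at this
  · have h' := inv_fix hidx hx (by omega) hu hr hr4 hx
      (Subgroup.mul_mem _ (Subgroup.mem_zpowers u) (Subgroup.mem_zpowers u)) h
    rw [← pow_two, ← pow_two, ← pow_mul, ← orderOf_dvd_iff_pow_eq_one, hu] at h'
    have := Nat.le_of_dvd (by norm_num) h'
    have : 2 ^ 3 ≤ 2 ^ m := Nat.pow_le_pow_right (by norm_num) hm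
    omega

end InvCyclic

theorem not_good_inv (h : H30.IsInvCyclicTwo X) : ¬ Good (⊤ : Subgroup X) := by
  obtain ⟨u, x, r, m, hu, hm, hidx, hx, hr, hr4⟩ := h
  rintro ⟨A, -, hA, hnc, h8⟩
  obtain ⟨g, hg, hgu⟩ : ∃ g ∈ A, g ∉ Subgroup.zpowers u := by
    by_contra hno
    push Not at hno
    exact hnc (isCyclic_of_injective (Subgroup.inclusion (show A ≤ Subgroup.zpowers u from hno))
      (Subgroup.inclusion_injective _))
  have hsq : ∀ w ∈ A ⊓ Subgroup.zpowers u, w * w = 1 := fun w hw =>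
    inv_fix hidx hx (by omega) hu hr hr4 hgu hw.2 (comm_subgroup hA hg hw.1)
  have h2 : Nat.card ↥(A ⊓ Subgroup.zpowers u) ≤ 2 := by
    haveI : IsCyclic ↥(A ⊓ Subgroup.zpowers u) :=
      isCyclic_of_injective (Subgroup.inclusion (inf_le_right : A ⊓ Subgroup.zpowers u ≤ _))
        (Subgroup.inclusion_injective _)
    rw [← IsCyclic.exponent_eq_card]
    refine Nat.le_of_dvd (by norm_num) (Monoid.exponent_dvd_of_forall_pow_eq_one fun w => Subtype.ext ?_)
    rw [pow_two]
    exact hsq w w.2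
  have h1 := ((Subgroup.zpowers u).subgroupOf A).card_mul_index
  rw [Nat.card_congr (Subgroup.subgroupOfEquivOfLe (show A ⊓ Subgroup.zpowers u ≤ A from inf_le_left)).toEquiv.symm]
    at h2
  rw [Subgroup.inf_subgroupOf_left] at h2
  have h3 : (Subgroup.zpowers u).relIndex A ≤ 2 := by
    rw [← hidx, ← Subgroup.relIndex_top_right]
    exact Subgroup.relIndex_le_of_le_right le_top (by rw [Subgroup.relIndex_top_right, hidx]; norm_num)
  rw [h8] at h1
  have : ((Subgroup.zpowers u).subgroupOf A).index ≤ 2 := h3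
  nlinarith [Nat.mul_le_mul h2 this]

theorem isInvCyclicTwo_of_forms (h2 : IsPGroup 2 X) (h16 : 16 ≤ Nat.card X)
    (h : (∃ m : ℕ, Nonempty (X ≃* DihedralGroup m)) ∨ (∃ m : ℕ, Nonempty (X ≃* QuaternionGroup m)) ∨
      Cfsg.IsQuasiDihedral X) :
    ∃ (u x : X) (r m : ℕ), orderOf u = 2 ^ m ∧ 3 ≤ m ∧ (Subgroup.zpowers u).index = 2 ∧ x ∉ Subgroup.zpowers u ∧
      x * u * x⁻¹ = u ^ r ∧ r % 4 = 3 := by
  haveI : Fact (Nat.Prime 2) := ⟨Nat.prime_two⟩
  obtain ⟨j, hj⟩ := IsPGroup.iff_card.mp h2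
  have hj4 : 4 ≤ j := by
    by_contra hlt
    have : 2 ^ j ≤ 2 ^ 3 := Nat.pow_le_pow_right (by norm_num) (by omega)
    omega
  have hidx : ∀ u : X, orderOf u = 2 ^ (j - 1) → (Subgroup.zpowers u).index = 2 := by
    intro u hu
    have h1 := (Subgroup.zpowers u).card_mul_index
    rw [Nat.card_zpowers, hu, hj, show 2 ^ j = 2 ^ (j - 1) * 2 by rw [← pow_succ]; congr 1; omega] at h1
    exact Nat.eq_of_mul_eq_mul_left (by positivity) h1
  have hnot : ∀ (u x : X) (r : ℕ), orderOf u = 2 ^ (j - 1) → x * u * x⁻¹ = u ^ r → r % 4 = 3 →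
      x ∉ Subgroup.zpowers u := by
    intro u x r hu hr hr4 hxu
    obtain ⟨i, rfl⟩ := Subgroup.mem_zpowers_iff.mp hxu
    rw [((Commute.refl u).zpow_left i).eq, mul_inv_cancel_right] at hr
    have h' : u ^ r = u ^ 1 := by rw [pow_one]; exact hr.symm
    rw [H30.pow_eq_pow_iff_int, hu] at h'
    have h4 : (4 : ℤ) ∣ (r : ℤ) - 1 := by
      refine dvd_trans ?_ h'
      exact Int.natCast_dvd_natCast.mpr (Nat.pow_dvd_pow 2 (show 2 ≤ j - 1 by omega))
    omega
  have hpow : 2 ^ j = 2 * 2 ^ (j - 1) := by rw [← pow_succ']; congr 1; omega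
  have h8 : 8 ∣ 2 ^ (j - 1) := show 2 ^ 3 ∣ _ from Nat.pow_dvd_pow 2 (by omega)
  have h8pos : 8 ≤ 2 ^ (j - 1) := Nat.le_of_dvd (by positivity) h8
  rcases h with ⟨n, ⟨e⟩⟩ | ⟨n, ⟨e⟩⟩ | ⟨n, hn3, hcard, u, x, hu, -, hr⟩
  · have hn : n = 2 ^ (j - 1) := by
      have := Nat.card_congr e.toEquiv
      rw [hj, DihedralGroup.nat_card, hpow] at this
      omega
    haveI : NeZero n := ⟨by omega⟩
    have hu : orderOf (e.symm (.r 1)) = 2 ^ (j - 1) := by
      rw [MulEquiv.orderOf_eq, DihedralGroup.orderOf_r_one, hn]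
    have hr : e.symm (.sr 0) * e.symm (.r 1) * (e.symm (.sr 0))⁻¹ = e.symm (.r 1) ^ (n - 1) := by
      rw [← map_inv, ← map_mul, ← map_mul, ← map_pow, DihedralGroup.r_one_pow, DihedralGroup.inv_sr,
        DihedralGroup.sr_mul_r, DihedralGroup.sr_mul_sr, Nat.cast_sub (by omega), ZMod.natCast_self]
      simp
    have hr4 : (n - 1) % 4 = 3 := by omega
    exact ⟨_, _, n - 1, j - 1, hu, by omega, hidx _ hu, hnot _ _ _ hu hr hr4, hr, hr4⟩
  · have hn0 : n ≠ 0 := by
      rintro rfl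
      haveI := Nat.finite_of_card_ne_zero (α := QuaternionGroup 0)
        (by rw [← Nat.card_congr e.toEquiv, hj]; positivity)
      haveI : Infinite (ZMod (2 * 0)) := inferInstanceAs (Infinite ℤ)
      exact not_injective_infinite_finite (QuaternionGroup.a : ZMod (2 * 0) → QuaternionGroup 0)
        fun _ _ h => QuaternionGroup.a.inj h
    haveI : NeZero n := ⟨hn0⟩
    have hn : 2 * n = 2 ^ (j - 1) := by
      have := Nat.card_congr e.toEquiv
      rw [hj, Nat.card_eq_fintype_card, QuaternionGroup.card, hpow] at this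
      omega
    have hu : orderOf (e.symm (.a 1)) = 2 ^ (j - 1) := by
      rw [MulEquiv.orderOf_eq, QuaternionGroup.orderOf_a_one, hn]
    have hr : e.symm (.xa 0) * e.symm (.a 1) * (e.symm (.xa 0))⁻¹ = e.symm (.a 1) ^ (2 * n - 1) := by
      rw [← map_mul, ← map_inv, ← map_mul, ← map_pow, QuaternionGroup.a_one_pow]
      congr 1
      rw [mul_inv_eq_iff_eq_mul, QuaternionGroup.xa_mul_a, QuaternionGroup.a_mul_xa, Nat.cast_sub (by omega), ZMod.natCast_self]
      simp
    have hr4 : (2 * n - 1) % 4 = 3 := by omega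
    exact ⟨_, _, _, j - 1, hu, by omega, hidx _ hu, hnot _ _ _ hu hr hr4, hr, hr4⟩
  · rw [hj] at hcard
    obtain rfl : j = n + 1 := Nat.pow_right_injective le_rfl hcard
    have hr4 : (2 ^ (n - 1) - 1) % 4 = 3 := by
      have h4 : 4 ∣ 2 ^ (n - 1) := show 2 ^ 2 ∣ _ from Nat.pow_dvd_pow 2 (by omega)
      have : 0 < 2 ^ (n - 1) := by positivity
      omega
    rw [show n + 1 - 1 = n by omega] at hidx hnot
    exact ⟨u, x, _, n, hu, hn3, hidx _ hu, hnot _ _ _ hu hr hr4, hr, hr4⟩

end H31.Eight
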