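import Mathlib
import Cfsg.Prelude.Def_Transfer
import Cfsg.Agent.H6.Commutator
import Cfsg.Agent.H67.DQHom
import Cfsg.Agent.H35.Basic
import Cfsg.Agent.H31.RankBound

/-! Dedekind: groups all of whose subgroups are normal. -/

set_option autoImplicit false

namespace H31.Hamilton

open Subgroup
open scoped commutatorElement

variable {G : Type*} [Group G] [Finite G]

/-- All subgroups are normal. -/
def AllNormal (G : Type*) [Group G] : Prop := ∀ H : Subgroup G, H.Normal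

omit [Finite G] in
theorem conj_mem_zpowers (hn : AllNormal G) (a g : G) : g * a * g⁻¹ ∈ zpowers a :=
  (hn (zpowers a)).conj_mem a (mem_zpowers a) g

omit [Finite G] in
theorem commutator_mem_zpowers (hn : AllNormal G) (a b : G) : ⁅a, b⁆ ∈ zpowers a ∧ ⁅a, b⁆ ∈ zpowers b := by
  constructor
  · rw [show ⁅a, b⁆ = a * (b * a⁻¹ * b⁻¹) by simp only [commutatorElement_def]; group]
    exact mul_mem (mem_zpowers a) ((hn (zpowers a)).conj_mem _ (inv_mem (mem_zpowers a)) b)
  · rw [commutatorElement_def]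
    exact mul_mem (conj_mem_zpowers hn b a) (inv_mem (mem_zpowers b))

omit [Finite G] in
theorem commute_commutator (hn : AllNormal G) (a b : G) :
    Commute ⁅a, b⁆ a ∧ Commute ⁅a, b⁆ b := by
  constructor
  · obtain ⟨i, hi⟩ := mem_zpowers_iff.mp (commutator_mem_zpowers hn a b).1
    rw [← hi]; exact (Commute.refl a).zpow_left i
  · obtain ⟨i, hi⟩ := mem_zpowers_iff.mp (commutator_mem_zpowers hn a b).2
    rw [← hi]; exact (Commute.refl b).zpow_left i

theorem eq_zpow_of_prime (a c : G) {p r : ℕ} (hp : p.Prime) (ha : orderOf a = p ^ (r + 1))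
    (hc : c ∈ zpowers a) (hcp : c ^ p = 1) : ∃ t : ℤ, c = a ^ ((p : ℤ) ^ r * t) := by
  obtain ⟨i, rfl⟩ := mem_zpowers_iff.mp hc
  have h1 : a ^ (i * (p : ℤ)) = 1 := by rw [zpow_mul, zpow_natCast]; exact hcp
  rw [← orderOf_dvd_iff_zpow_eq_one, ha, pow_succ, Nat.cast_mul, Nat.cast_pow] at h1
  obtain ⟨t, ht⟩ := Int.dvd_of_mul_dvd_mul_right (by exact_mod_cast hp.ne_zero) h1
  exact ⟨t, by rw [ht]⟩

/-- A shortest non-commuting pair of `p`-elements is a quaternion pair. -/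
theorem minimal_pair (hn : AllNormal G) {p : ℕ} [Fact p.Prime] {a b : G} {r s : ℕ} (hsr : s ≤ r)
    (ha : orderOf a = p ^ (r + 1)) (hb : orderOf b = p ^ (s + 1)) (hab : a * b ≠ b * a)
    (hmin : ∀ x y : G, (∃ k, x ^ p ^ k = 1) → (∃ k, y ^ p ^ k = 1) → x * y ≠ y * x →
      orderOf a + orderOf b ≤ orderOf x + orderOf y) :
    p = 2 ∧ orderOf a = 4 ∧ orderOf b = 4 ∧ b * b = a * a ∧ b * a * b⁻¹ = a⁻¹ := by
  have hp : p.Prime := Fact.out
  obtain ⟨hcA, hcB⟩ := commutator_mem_zpowers hn a b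
  obtain ⟨hca, hcb⟩ := commute_commutator hn a b
  have hpa : orderOf (a ^ p) < orderOf a := by
    rw [orderOf_pow, ha, Nat.gcd_eq_right (dvd_pow_self p (Nat.succ_ne_zero r))]
    exact Nat.div_lt_self (pow_pos hp.pos _) hp.one_lt
  have hcomm : a ^ p * b = b * a ^ p := by
    by_contra h
    have := hmin (a ^ p) b ⟨r + 1, by rw [← pow_mul, mul_comm, pow_mul, ← ha, pow_orderOf_eq_one, one_pow]⟩
      ⟨s + 1, by rw [← hb, pow_orderOf_eq_one]⟩ h
    omega
  have hcp : ⁅a, b⁆ ^ p = 1 := by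
    rw [← H6.commutator_pow_left hca.symm, commutatorElement_eq_one_iff_mul_comm]
    exact hcomm
  have hc1 : ⁅a, b⁆ ≠ 1 := fun h => hab (commutatorElement_eq_one_iff_mul_comm.mp h)
  obtain ⟨t, ht⟩ := eq_zpow_of_prime a _ hp ha hcA hcp
  obtain ⟨u, hu⟩ := eq_zpow_of_prime b _ hp hb hcB hcp
  have hs : s ≠ 0 := by
    rintro rfl
    apply hab
    have hb' : b ∈ zpowers ⁅a, b⁆ := by
      have h1 : zpowers ⁅a, b⁆ = zpowers b := by
        refine eq_of_le_of_card_ge (zpowers_le.mpr hcB) ?_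
        rw [Nat.card_zpowers, Nat.card_zpowers, hb, orderOf_eq_prime hcp hc1, zero_add, pow_one]
      rw [h1]; exact mem_zpowers b
    obtain ⟨i, hi⟩ := mem_zpowers_iff.mp hb'
    have h2 : Commute a b := by rw [← hi]; exact hca.symm.zpow_right i
    exact h2.eq
  obtain ⟨u', hu'⟩ : ∃ u' : ℤ, (p : ℤ) ∣ u * u' - 1 := by
    have hd : ¬ (p : ℤ) ∣ u := by
      rintro ⟨w, rfl⟩
      apply hc1
      rw [hu, ← mul_assoc, ← pow_succ, zpow_mul, ← Nat.cast_pow, zpow_natCast, ← hb, pow_orderOf_eq_one, one_zpow]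
    obtain ⟨x, y, hxy⟩ := ((Nat.prime_iff_prime_int.mp hp).coprime_iff_not_dvd).mpr hd
    exact ⟨y, -x, by linear_combination hxy⟩
  have hbc : b ^ ((p : ℤ) ^ s) = ⁅a, b⁆ ^ u' := by
    obtain ⟨w, hw⟩ := hu'
    rw [hu, ← zpow_mul, show (p : ℤ) ^ s * u * u' = (p : ℤ) ^ s + (p : ℤ) ^ (s + 1) * w by rw [pow_succ]; linear_combination (p : ℤ) ^ s * hw,
      zpow_add, zpow_mul b ((p : ℤ) ^ (s + 1)), ← Nat.cast_pow (n := s + 1), zpow_natCast, ← hb, pow_orderOf_eq_one, one_zpow, mul_one]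
  set m : ℤ := (p : ℤ) ^ (r - s) * (t * u') with hm
  have hrs : (p : ℤ) ^ r = (p : ℤ) ^ (r - s) * (p : ℤ) ^ s := by rw [← pow_add, Nat.sub_add_cancel hsr]
  have hb's : b ^ ((p : ℤ) ^ s) = a ^ (m * (p : ℤ) ^ s) := by
    rw [hbc, ht, ← zpow_mul]
    congr 1
    rw [hm]
    linear_combination t * u' * hrs
  obtain ⟨h1, h2⟩ := commute_commutator hn b (a ^ (-m))
  have hcoef : ¬ (p = 2 ∧ r = 1 ∧ s = 1) → ⁅b, a ^ (-m)⁆ ^ ((p ^ s).choose 2) = 1 := by
    intro hne
    by_cases hcase : p ∣ (p ^ s).choose 2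
    · obtain ⟨w, hw⟩ := hcase
      have : ⁅b, a ^ (-m)⁆ ^ p = 1 := by
        rw [← H6.commutator_pow_right h2.symm, commutatorElement_eq_one_iff_mul_comm, ← zpow_natCast, ← zpow_mul, mul_comm, zpow_mul, zpow_natCast]
        exact ((show Commute (a ^ p) b from hcomm).zpow_left (-m)).eq.symm
      rw [hw, pow_mul, this, one_pow]
    · obtain ⟨rfl, rfl⟩ : p = 2 ∧ s = 1 := by
        by_contra h
        apply hcase
        refine hp.dvd_choose_pow two_ne_zero fun h2 => h ?_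
        have h3 : p = 2 := (Nat.prime_dvd_prime_iff_eq hp Nat.prime_two).mp (h2 ▸ dvd_pow_self p hs)
        subst h3
        exact ⟨rfl, Nat.pow_right_injective le_rfl (h2.symm.trans (pow_one 2).symm)⟩
      obtain ⟨w, hw⟩ : (2 : ℤ) ∣ m := Dvd.dvd.mul_right (dvd_pow_self 2 (by omega)) _
      have : ⁅b, a ^ (-m)⁆ = 1 := by
        rw [commutatorElement_eq_one_iff_mul_comm, hw, show -(2 * w) = ((2 : ℕ) : ℤ) * (-w) by push_cast; ring, zpow_mul, zpow_natCast]
        exact ((show Commute (a ^ 2) b from hcomm).zpow_left (-w)).eq.symm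
      rw [this, one_pow]
  by_cases hcase : p = 2 ∧ r = 1 ∧ s = 1
  · obtain ⟨rfl, rfl, rfl⟩ := hcase
    have hc : ∀ (x : G) (w : ℤ), orderOf x = 2 ^ (1 + 1) → ⁅a, b⁆ = x ^ (((2 : ℕ) : ℤ) ^ 1 * w) → ⁅a, b⁆ = x * x := by
      intro x w hx hw
      rcases Int.even_or_odd' w with ⟨v, rfl | rfl⟩
      · exfalso; apply hc1
        rw [hw, show ((2 : ℕ) : ℤ) ^ 1 * (2 * v) = ((2 ^ (1 + 1) : ℕ) : ℤ) * v by push_cast; ring, zpow_mul, zpow_natCast, ← hx, pow_orderOf_eq_one, one_zpow]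
      · rw [hw, show ((2 : ℕ) : ℤ) ^ 1 * (2 * v + 1) = ((2 ^ (1 + 1) : ℕ) : ℤ) * v + ((2 : ℕ) : ℤ) by push_cast; ring,
          zpow_add, zpow_mul, zpow_natCast, zpow_natCast, ← hx, pow_orderOf_eq_one, one_zpow, one_mul, pow_two]
    have hA := hc a t ha ht
    have hB := hc b u hb hu
    refine ⟨rfl, by rw [ha]; norm_num, by rw [hb]; norm_num, hB.symm.trans hA, ?_⟩
    have h3 : b * a * b⁻¹ = ⁅a, b⁆⁻¹ * a := by simp only [commutatorElement_def]; group
    rw [h3, hA]
    group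
  · exfalso
    set b' := a ^ (-m) * b with hb'
    have hpow : b' ^ p ^ s = 1 := by
      rw [hb', H6.mul_pow_of_commute_commutator h2 h1, hcoef hcase, mul_one, ← zpow_natCast, ← zpow_natCast b, ← zpow_mul,
        Nat.cast_pow, hb's, ← zpow_add, show -m * (p : ℤ) ^ s + m * (p : ℤ) ^ s = 0 by ring, zpow_zero]
    have hne : a * b' ≠ b' * a := by
      intro h
      apply hab
      have h4 := ((Commute.refl a).zpow_right m).mul_right (show Commute a b' from h)
      rwa [hb', ← mul_assoc, ← zpow_add, add_neg_cancel, zpow_zero, one_mul] at h4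
    have h5 := hmin a b' ⟨r + 1, by rw [← ha, pow_orderOf_eq_one]⟩ ⟨s, hpow⟩ hne
    have h6 := Nat.le_of_dvd (pow_pos hp.pos s) (orderOf_dvd_of_pow_eq_one hpow)
    have h7 : p ^ s < p ^ (s + 1) := Nat.pow_lt_pow_right hp.one_lt (by omega)
    omega

/-- Non-commuting `p`-elements give a quaternion pair. -/
theorem exists_quaternion_pair (hn : AllNormal G) {p : ℕ} [Fact p.Prime] {x y : G} (hx : ∃ k, x ^ p ^ k = 1)
    (hy : ∃ k, y ^ p ^ k = 1) (hxy : x * y ≠ y * x) :
    p = 2 ∧ ∃ a b : G, orderOf a = 4 ∧ orderOf b = 4 ∧ b * b = a * a ∧ b * a * b⁻¹ = a⁻¹ := by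
  have hp : p.Prime := Fact.out
  obtain ⟨⟨a, b⟩, ⟨ha, hb, hab⟩, hmin⟩ := Set.exists_min_image
    {z : G × G | (∃ k, z.1 ^ p ^ k = 1) ∧ (∃ k, z.2 ^ p ^ k = 1) ∧ z.1 * z.2 ≠ z.2 * z.1}
    (fun z => orderOf z.1 + orderOf z.2) (Set.toFinite _) ⟨(x, y), hx, hy, hxy⟩
  simp only at ha hb hab hmin
  have key : ∀ a : G, (∃ k, a ^ p ^ k = 1) → a ≠ 1 → ∃ r, orderOf a = p ^ (r + 1) := by
    rintro a ⟨k, hk⟩ hne
    obtain ⟨i, -, hi⟩ := (Nat.dvd_prime_pow hp).mp (orderOf_dvd_of_pow_eq_one hk)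
    rcases i with _ | i
    · exact absurd (orderOf_eq_one_iff.mp (hi.trans (pow_zero p))) hne
    · exact ⟨i, hi⟩
  obtain ⟨r, hr⟩ := key a ha (fun h => hab (by simp [h]))
  obtain ⟨s, hs⟩ := key b hb (fun h => hab (by simp [h]))
  have hmin' : ∀ x y : G, (∃ k, x ^ p ^ k = 1) → (∃ k, y ^ p ^ k = 1) → x * y ≠ y * x →
      orderOf a + orderOf b ≤ orderOf x + orderOf y := fun x y h1 h2 h3 => hmin (x, y) ⟨h1, h2, h3⟩
  rcases le_total s r with h | h
  · obtain ⟨h1, h2⟩ := minimal_pair hn h hr hs hab hmin'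
    exact ⟨h1, a, b, h2⟩
  · obtain ⟨h1, h2⟩ := minimal_pair hn h hs hr (Ne.symm hab) (fun x y hx hy hne => by
      rw [add_comm]; exact hmin' x y hx hy hne)
    exact ⟨h1, b, a, h2⟩

theorem commute_of_coprime (hn : AllNormal G) {x y : G} (h : (orderOf x).Coprime (orderOf y)) : x * y = y * x := by
  rw [← commutatorElement_eq_one_iff_mul_comm]
  obtain ⟨h1, h2⟩ := commutator_mem_zpowers hn x y
  rw [mem_zpowers_iff] at h1 h2
  obtain ⟨i, hi⟩ := h1
  obtain ⟨j, hj⟩ := h2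
  rw [← orderOf_eq_one_iff]
  exact Nat.eq_one_of_dvd_coprimes h
    (orderOf_dvd_of_pow_eq_one (by rw [← hi, ← zpow_natCast, ← zpow_mul, mul_comm, zpow_mul, zpow_natCast, pow_orderOf_eq_one, one_zpow]))
    (orderOf_dvd_of_pow_eq_one (by rw [← hj, ← zpow_natCast, ← zpow_mul, mul_comm, zpow_mul, zpow_natCast, pow_orderOf_eq_one, one_zpow]))

theorem commute_of_odd (hn : AllNormal G) {p : ℕ} [Fact p.Prime] (hp : p ≠ 2) {x y : G}
    (hx : ∃ k, orderOf x = p ^ k) : x * y = y * x := by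
  have htop : centralizer ({x} : Set G) = ⊤ := by
    refine H35.eq_top_of_prime_pow_mem _ fun q b z hq hz => ?_
    rw [mem_centralizer_singleton_iff]
    obtain ⟨k, hk⟩ := hx
    by_cases hqp : q = p
    · subst hqp
      by_contra h
      exact hp (exists_quaternion_pair hn (p := q) ⟨b, by rw [← hz, pow_orderOf_eq_one]⟩ ⟨k, by rw [← hk, pow_orderOf_eq_one]⟩ h).1
    · exact commute_of_coprime hn (by
        rw [hk, hz]
        exact ((Nat.coprime_primes hq Fact.out).mpr hqp).pow b k)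
  exact (mem_centralizer_singleton_iff.mp (htop ▸ mem_top y : y ∈ centralizer ({x} : Set G))).symm

theorem odd_mem_center (hn : AllNormal G) {x : G} (hx : Odd (orderOf x)) : x ∈ center G := by
  set H := center G ⊓ zpowers x with hH
  have htop : H.subgroupOf (zpowers x) = ⊤ := by
    refine H35.eq_top_of_prime_pow_mem _ fun q b z hq hz => ?_
    haveI := Fact.mk hq
    refine ⟨mem_center_iff.mpr fun y => ?_, z.2⟩
    rcases Nat.eq_zero_or_pos b with rfl | hb
    · rw [orderOf_eq_one_iff.mp (hz.trans (pow_zero q))]; simp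
    have hq2 : q ≠ 2 := by
      rintro rfl
      have h1 : orderOf (z : G) ∣ orderOf x := by
        rw [← Nat.card_zpowers x, orderOf_coe]; exact _root_.orderOf_dvd_natCard z
      rw [orderOf_coe, hz] at h1
      exact absurd (hx.of_dvd_nat ((dvd_pow_self 2 hb.ne').trans h1)) (by decide)
    exact (commute_of_odd hn hq2 ⟨b, (Subgroup.orderOf_coe z).trans hz⟩).symm
  exact ((subgroupOf_eq_top.mp htop) (mem_zpowers x)).1

theorem hamiltonian (hn : AllNormal G) (hna : ¬ IsMulCommutative G) :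
    ∃ Q E A : Subgroup G, Nonempty (Q ≃* QuaternionGroup 2) ∧ Cfsg.IsElementaryAbelian 2 E ∧ IsMulCommutative A ∧
      Odd (Nat.card A) ∧ E ⊓ A = ⊥ ∧ Q ⊓ (E ⊔ A) = ⊥ ∧ Q ⊔ (E ⊔ A) = ⊤ := by
  haveI : Fact (Nat.Prime 2) := ⟨Nat.prime_two⟩
  obtain ⟨S⟩ : Nonempty (Sylow 2 G) := inferInstance
  haveI hSn : (S : Subgroup G).Normal := hn _
  -- odd part
  obtain ⟨A, hA⟩ : ∃ A : Subgroup G, ∀ x, x ∈ A ↔ Odd (orderOf x) := ⟨
    { carrier := {x | Odd (orderOf x)}
      one_mem' := by simp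
      mul_mem' := fun {a b} ha hb => by
        exact (ha.mul hb).of_dvd_nat ((show Commute a b from mem_center_iff.mp (odd_mem_center hn hb) a).orderOf_mul_dvd_mul_orderOf)
      inv_mem' := fun {a} ha => by simpa using ha }, fun x => Iff.rfl⟩
  have hsplit : (S : Subgroup G) ⊔ A = ⊤ := H35.eq_top_of_prime_pow_mem _ fun q b z hq hz => by
    by_cases h2 : q = 2
    · subst h2
      have hp : IsPGroup 2 (zpowers z) := IsPGroup.of_card (n := b) (by rw [Nat.card_zpowers, hz])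
      obtain ⟨T, hT⟩ := hp.exists_le_sylow
      obtain ⟨g, rfl⟩ := MulAction.exists_smul_eq G S T
      exact mem_sup_left (by rw [Sylow.smul_eq_of_normal] at hT; exact hT (mem_zpowers z))
    · exact mem_sup_right ((hA z).mpr (by rw [hz]; exact (hq.odd_of_ne_two h2).pow))
  have hAodd : Odd (Nat.card A) := by
    rw [← Nat.not_even_iff_odd, even_iff_two_dvd]
    intro h
    obtain ⟨z, hz⟩ := exists_prime_orderOf_dvd_card' 2 h
    have := (hA (z : G)).mp z.2
    rw [orderOf_coe, hz] at this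
    exact absurd this (by decide)
  have hAc : A ≤ center G := fun x hx => odd_mem_center hn ((hA x).mp hx)
  -- quaternion pair
  obtain ⟨x, y, hxy⟩ : ∃ x ∈ (S : Subgroup G), ∃ y ∈ (S : Subgroup G), x * y ≠ y * x := by
    by_contra h
    push Not at h
    apply hna
    have hS : (S : Subgroup G) ≤ center G := by
      intro x hx
      rw [mem_center_iff]
      intro y
      have hle : (S : Subgroup G) ⊔ A ≤ centralizer ({x} : Set G) := sup_le
        (fun z hz => mem_centralizer_singleton_iff.mpr (h z hz x hx))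
        (fun z hz => mem_centralizer_singleton_iff.mpr ((mem_center_iff.mp (hAc hz) x).symm))
      exact mem_centralizer_singleton_iff.mp (hle (hsplit ▸ mem_top y))
    have htop : center G = ⊤ := eq_top_iff.mpr (hsplit ▸ sup_le hS hAc)
    exact IsMulCommutative.of_comm fun a b => (mem_center_iff.mp (htop ▸ mem_top a : a ∈ center G) b).symm
  obtain ⟨hxS, y, hyS, hxy⟩ : x ∈ (S : Subgroup G) ∧ ∃ y ∈ (S : Subgroup G), x * y ≠ y * x := ⟨y, hxy⟩
  have h2el : ∀ z ∈ (S : Subgroup G), ∃ k, z ^ 2 ^ k = 1 := fun z hz => by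
    obtain ⟨k, hk⟩ := S.isPGroup' ⟨z, hz⟩
    exact ⟨k, congrArg Subtype.val hk⟩
  obtain ⟨-, a, b, hao, hbo, hbb, hab⟩ := exists_quaternion_pair hn (h2el x hxS) (h2el y hyS) hxy
  have hmemS : ∀ z : G, (∃ k, orderOf z ∣ 2 ^ k) → z ∈ (S : Subgroup G) := by
    rintro z ⟨k, hk⟩
    obtain ⟨i, -, hi⟩ := (Nat.dvd_prime_pow Nat.prime_two).mp hk
    have hp : IsPGroup 2 (zpowers z) := IsPGroup.of_card (n := i) (by rw [Nat.card_zpowers, hi])
    obtain ⟨T, hT⟩ := hp.exists_le_sylow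
    obtain ⟨g, rfl⟩ := MulAction.exists_smul_eq G S T
    rw [Sylow.smul_eq_of_normal] at hT
    exact hT (mem_zpowers z)
  have haS : a ∈ (S : Subgroup G) := hmemS a ⟨2, by rw [hao]; norm_num⟩
  have hbS : b ∈ (S : Subgroup G) := hmemS b ⟨2, by rw [hbo]; norm_num⟩
  have ha4 : a ^ 4 = 1 := hao ▸ pow_orderOf_eq_one a
  have hb4 : b ^ 4 = 1 := hbo ▸ pow_orderOf_eq_one b
  have ha2 : a * a ≠ 1 := fun h => by
    have := orderOf_dvd_of_pow_eq_one ((pow_two a).trans h)
    rw [hao] at this; norm_num at this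
  have hbA : b ∉ zpowers a := by
    intro h
    obtain ⟨i, rfl⟩ := mem_zpowers_iff.mp h
    have h1 : a ^ i * a * (a ^ i)⁻¹ = a := by group
    rw [h1, eq_inv_iff_mul_eq_one] at hab
    exact ha2 hab
  obtain ⟨eQ⟩ := H67.quat_iso (k := 2) a b (by rw [pow_two]; exact hbb) hab (by rw [hao]) hbA
  set Q := closure ({a, b} : Set G) with hQ
  have hQS : Q ≤ (S : Subgroup G) := (closure_le _).mpr (Set.insert_subset_iff.mpr ⟨haS, Set.singleton_subset_iff.mpr hbS⟩)
  set C := (S : Subgroup G) ⊓ centralizer ({a, b} : Set G) with hC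
  have hCab : ∀ z ∈ C, a * z = z * a ∧ b * z = z * b := fun z hz =>
    ⟨hz.2 a (by simp), hz.2 b (by simp)⟩
  have ha3 : a⁻¹ = a ^ 3 := inv_eq_of_mul_eq_one_right (by rw [← pow_succ']; exact ha4)
  -- x with order four cannot lie in C
  have hno4 : ∀ z ∈ C, orderOf z ≠ 4 := by
    intro z hz hz4
    obtain ⟨hza, hzb⟩ := hCab z hz
    have hc : b * (z * a) * b⁻¹ = z * a⁻¹ := by
      rw [← hab, ← mul_assoc b, hzb]; group
    obtain ⟨i, hi⟩ := mem_zpowers_iff.mp (conj_mem_zpowers hn (z * a) b)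
    rw [hc] at hi
    have hcomm : Commute z a := hza.symm
    have hzz : z * z ≠ 1 := fun h => by
      have := orderOf_dvd_of_pow_eq_one ((pow_two z).trans h)
      rw [hz4] at this; norm_num at this
    have hpow4 : (z * a) ^ (4 : ℤ) = 1 := by
      rw [zpow_ofNat, hcomm.mul_pow, ha4, ← hz4, pow_orderOf_eq_one, one_mul]
    have hi' : (z * a) ^ (i % 4) = z * a⁻¹ := by
      rw [← hi]
      conv_rhs => rw [← Int.mul_ediv_add_emod i 4, zpow_add, zpow_mul, hpow4, one_zpow, one_mul]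
    have h1 := Int.emod_nonneg i (show (4 : ℤ) ≠ 0 by norm_num)
    have h2 := Int.emod_lt_of_pos i (show (0 : ℤ) < 4 by norm_num)
    have hneq : z * a⁻¹ ≠ z * a := fun h => ha2 (by
      have h3 := mul_left_cancel h
      rw [inv_eq_iff_mul_eq_one] at h3
      exact h3)
    interval_cases h3 : i % 4
    · rw [zpow_zero] at hi'
      have hza' : z = a := by rw [← mul_inv_eq_one]; exact hi'.symm
      exact ha2 (by
        have h4 := hzb
        rw [hza', ← mul_inv_eq_iff_eq_mul, hab] at h4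
        rwa [inv_eq_iff_mul_eq_one] at h4)
    · rw [zpow_one] at hi'
      exact hneq hi'.symm
    · rw [zpow_ofNat, hcomm.mul_pow, pow_two, pow_two, mul_assoc] at hi'
      have h4 := mul_left_cancel hi'
      rw [eq_inv_iff_mul_eq_one, mul_assoc, show a * a * a = a ^ 3 by simp [pow_succ], ← ha3] at h4
      have hza' : z = a := by rwa [mul_inv_eq_one] at h4
      exact ha2 (by
        have h5 := hzb
        rw [hza', ← mul_inv_eq_iff_eq_mul, hab] at h5
        rwa [inv_eq_iff_mul_eq_one] at h5)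
    · rw [zpow_ofNat, hcomm.mul_pow, ← ha3] at hi'
      have h4 := mul_right_cancel hi'
      rw [pow_succ, mul_eq_right] at h4
      exact hzz ((pow_two z).symm.trans h4)
  have hC2 : ∀ z ∈ C, z * z = 1 := by
    intro z hz
    obtain ⟨k, hk⟩ := h2el z hz.1
    obtain ⟨i, -, hi⟩ := (Nat.dvd_prime_pow Nat.prime_two).mp (orderOf_dvd_of_pow_eq_one hk)
    by_contra hne
    have hi2 : 2 ≤ i := by
      by_contra h
      apply hne
      rw [← pow_two, ← orderOf_dvd_iff_pow_eq_one, hi]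
      calc 2 ^ i ∣ 2 ^ 1 := pow_dvd_pow 2 (by omega)
        _ = 2 := pow_one 2
    refine hno4 (z ^ (2 ^ (i - 2))) (C.pow_mem hz _) ?_
    rw [orderOf_pow, hi, Nat.gcd_eq_right (pow_dvd_pow 2 (by omega)), Nat.pow_div (by omega) (by norm_num), show i - (i - 2) = 2 by omega]
  letI : CommGroup C := { (inferInstance : Group C) with
    mul_comm := fun u v => by
      have h : ∀ w : C, w⁻¹ = w := fun w => inv_eq_of_mul_eq_one_right (Subtype.ext (hC2 w w.2))
      rw [← h (u * v), mul_inv_rev, h, h] }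
  have hcC : a * a ∈ C := by
    refine ⟨mul_mem haS haS, fun w hw => ?_⟩
    rcases hw with rfl | rfl
    · group
    · rw [← hbb]; group
  obtain ⟨M, -, hcM, hMi⟩ := H31.RankBound.exists_index_two (V := C) (fun v => Subtype.ext (by rw [SubgroupClass.coe_pow, pow_two]; exact hC2 v v.2)) ⊥
    (x := ⟨a * a, hcC⟩) (by rw [mem_bot]; exact fun h => ha2 (congrArg Subtype.val h))
  set E := M.map C.subtype with hE
  have hEle : E ≤ C := map_subtype_le M
  refine ⟨Q, E, A, ⟨eQ⟩, ⟨IsMulCommutative.of_comm ?_, ?_⟩, IsMulCommutative.of_comm fun u v => Subtype.ext (mem_center_iff.mp (hAc v.2) u), hAodd, ?_, ?_, ?_⟩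
  · rintro ⟨_, u, hu, rfl⟩ ⟨_, v, hv, rfl⟩
    exact Subtype.ext (congrArg (fun w : C => (w : G)) (mul_comm u v))
  · intro u hu
    rw [pow_two]; exact hC2 u (hEle hu)
  · rw [eq_bot_iff]
    rintro u ⟨hu1, hu2⟩
    have hodd := (hA u).mp hu2
    have h2 := orderOf_dvd_of_pow_eq_one ((pow_two u).trans (hC2 u (hEle hu1)))
    rcases (Nat.dvd_prime Nat.prime_two).mp h2 with h | h
    · exact orderOf_eq_one_iff.mp h
    · rw [h] at hodd; exact absurd hodd (by decide)
  · rw [eq_bot_iff]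
    rintro u ⟨huQ, huEA⟩
    haveI : A.Normal := hn A
    obtain ⟨e, he, v, hv, rfl⟩ := mem_sup_of_normal_right.mp huEA
    have hvS : v ∈ (S : Subgroup G) := by
      have := (S : Subgroup G).mul_mem ((S : Subgroup G).inv_mem (hEle he).1) (hQS huQ)
      rwa [inv_mul_cancel_left] at this
    have hv1 : v = 1 := by
      obtain ⟨k, hk⟩ := h2el v hvS
      obtain ⟨i, -, hi⟩ := (Nat.dvd_prime_pow Nat.prime_two).mp (orderOf_dvd_of_pow_eq_one hk)
      have hodd := (hA v).mp hv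
      rcases i with _ | i
      · exact orderOf_eq_one_iff.mp (hi.trans (pow_zero 2))
      · rw [hi] at hodd
        exact absurd (hodd.of_dvd_nat (dvd_pow_self 2 (Nat.succ_ne_zero i))) (by decide)
    subst hv1
    rw [mul_one] at huQ ⊢
    obtain ⟨w, hw, rfl⟩ := he
    have hwc := hCab (w : G) w.2
    obtain ⟨q, hq⟩ : ∃ q : QuaternionGroup 2, ((eQ.symm q : Q) : G) = w := ⟨eQ ⟨w, huQ⟩, by rw [MulEquiv.symm_apply_apply]⟩
    have hz : ∀ g : Q, g * eQ.symm q = eQ.symm q * g := by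
      have hle : Q ≤ centralizer ({(w : G)} : Set G) := by
        rw [hQ, closure_le]
        rintro g (rfl | rfl)
        · exact mem_centralizer_singleton_iff.mpr hwc.1
        · exact mem_centralizer_singleton_iff.mpr hwc.2
      intro g
      apply Subtype.ext
      show (g : G) * _ = _ * (g : G)
      rw [hq]
      exact mem_centralizer_singleton_iff.mp (hle g.2)
    have hdec : ∀ q : QuaternionGroup 2, (∀ g, g * q = q * g) → q = 1 ∨ q = QuaternionGroup.a 2 := by decide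
    have hq' := hdec q (fun g => eQ.symm.injective (by rw [map_mul, map_mul]; exact hz (eQ.symm g)))
    rcases hq' with rfl | rfl
    · rw [map_one, OneMemClass.coe_one] at hq
      rw [mem_bot]; exact hq.symm
    · exfalso
      apply hcM
      have hsq : ∀ g : QuaternionGroup 2, g * g = 1 ∨ g * g = QuaternionGroup.a 2 := by decide
      rcases hsq (eQ ⟨a, subset_closure (by simp)⟩) with h | h
      · rw [← map_mul, MulEquiv.map_eq_one_iff] at h
        exact absurd (congrArg Subtype.val h) ha2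
      · rw [← h, map_mul, MulEquiv.symm_apply_apply] at hq
        have : (⟨a * a, hcC⟩ : C) = w := Subtype.ext hq
        rwa [this]
  · rw [eq_top_iff, ← hsplit]
    refine sup_le (fun z hz => ?_) (le_sup_right.trans le_sup_right)
    -- reduce z into C
    have step1 : ∀ g ∈ (S : Subgroup G), ∀ w : G, orderOf w = 4 → w ∈ (S : Subgroup G) → g * w * g⁻¹ = w ∨ g * w * g⁻¹ = w⁻¹ := by
      intro g _ w hw _
      obtain ⟨i, hi⟩ := mem_zpowers_iff.mp (conj_mem_zpowers hn w g)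
      have hw4 : w ^ (4 : ℤ) = 1 := by rw [zpow_ofNat, ← hw, pow_orderOf_eq_one]
      have hi' : w ^ (i % 4) = g * w * g⁻¹ := by
        rw [← hi]
        conv_rhs => rw [← Int.mul_ediv_add_emod i 4, zpow_add, zpow_mul, hw4, one_zpow, one_mul]
      have hord : orderOf (g * w * g⁻¹) = 4 := by
        rw [← hw]; exact orderOf_injective (MulAut.conj g).toMonoidHom (MulAut.conj g).injective w
      have h1 := Int.emod_nonneg i (show (4 : ℤ) ≠ 0 by norm_num)
      have h2 := Int.emod_lt_of_pos i (show (0 : ℤ) < 4 by norm_num)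
      interval_cases h3 : i % 4
      · rw [zpow_zero] at hi'; rw [← hi', orderOf_one] at hord; norm_num at hord
      · exact Or.inl (by rw [← hi', zpow_one])
      · rw [← hi', zpow_ofNat] at hord
        rw [orderOf_pow, hw] at hord; norm_num at hord
      · right
        rw [← hi', ← mul_eq_one_iff_eq_inv, ← zpow_add_one]
        exact hw4
    have hQE : ∀ w ∈ C, w ∈ Q ⊔ (E ⊔ A) := by
      intro w hw
      by_cases hwM : (⟨w, hw⟩ : C) ∈ M
      · exact mem_sup_right (mem_sup_left ⟨_, hwM, rfl⟩)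
      · have h1 : (⟨a * a, hcC⟩ : C) * ⟨w, hw⟩ ∈ M := by
          rw [mul_mem_iff_of_index_two hMi]; exact iff_of_false hcM hwM
        have h2 : a * a * (a * a * w) ∈ Q ⊔ (E ⊔ A) :=
          mul_mem (mem_sup_left (mul_mem (subset_closure (by simp)) (subset_closure (by simp))))
            (mem_sup_right (mem_sup_left ⟨_, h1, rfl⟩))
        rwa [← mul_assoc, hC2 (a * a) hcC, one_mul] at h2
    obtain ⟨z1, hz1, hz1a, hback1⟩ : ∃ z1 ∈ (S : Subgroup G), z1 * a * z1⁻¹ = a ∧ ∃ q ∈ Q, z = q * z1 := by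
      rcases step1 z hz a hao haS with h | h
      · exact ⟨z, hz, h, 1, one_mem _, (one_mul z).symm⟩
      · refine ⟨b * z, mul_mem hbS hz, ?_, b⁻¹, inv_mem (subset_closure (by simp)), (inv_mul_cancel_left b z).symm⟩
        rw [show b * z * a * (b * z)⁻¹ = b * (z * a * z⁻¹) * b⁻¹ by group, h, ← conj_inv, hab, inv_inv]
    obtain ⟨q1, hq1, rfl⟩ := hback1
    obtain ⟨z2, hz2, hz2a, hz2b, q2, hq2, rfl⟩ : ∃ z2 ∈ (S : Subgroup G), z2 * a * z2⁻¹ = a ∧ z2 * b * z2⁻¹ = b ∧ ∃ q ∈ Q, z1 = q * z2 := by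
      rcases step1 z1 hz1 b hbo hbS with h | h
      · exact ⟨z1, hz1, hz1a, h, 1, one_mem _, (one_mul z1).symm⟩
      · refine ⟨a * z1, mul_mem haS hz1, ?_, ?_, a⁻¹, inv_mem (subset_closure (by simp)), (inv_mul_cancel_left a z1).symm⟩
        · rw [show a * z1 * a * (a * z1)⁻¹ = a * (z1 * a * z1⁻¹) * a⁻¹ by group, hz1a, mul_inv_cancel_right]
        · rw [show a * z1 * b * (a * z1)⁻¹ = a * (z1 * b * z1⁻¹) * a⁻¹ by group, h, ← conj_inv]
          have h1 : a * b * a⁻¹ = (b * a * b⁻¹)⁻¹ * b * a⁻¹ := by rw [hab, inv_inv]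
          rw [h1, show (b * a * b⁻¹)⁻¹ * b * a⁻¹ = b * (a * a)⁻¹ by group, ← hbb]
          group
    have hzC : z2 ∈ C := ⟨hz2, fun w hw => by
      rcases hw with rfl | rfl
      · exact (mul_inv_eq_iff_eq_mul.mp hz2a).symm
      · exact (mul_inv_eq_iff_eq_mul.mp hz2b).symm⟩
    exact mul_mem (mem_sup_left hq1) (mul_mem (mem_sup_left hq2) (hQE z2 hzC))

end H31.Hamilton
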