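import Mathlib

/-!
Vaughan-Lee's breadth theorem in coset form (helper31): if `a` normalizes `M` and every element
`u ∈ aM` of a finite `p`-group has `|M : C_M(u)| ≤ p^b`, then `|⟨M, a⟩'| ≤ p^(b(b+1)/2)`.
-/

set_option autoImplicit false

namespace H31

namespace Breadth

open Subgroup
open scoped commutatorElement Pointwise

variable {G : Type*} [Group G]

/-- `0, 1, 3, 6, ...` -/
def tri : ℕ → ℕ
  | 0 => 0
  | n + 1 => tri n + (n + 1)

theorem two_tri (n : ℕ) : 2 * tri n = n * (n + 1) := by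
  induction n with
  | zero => rfl
  | succ n ih => rw [tri, Nat.mul_add, ih]; ring

theorem tri_eq (n : ℕ) : tri n = n * (n + 1) / 2 := by
  have := two_tri n
  omega

theorem tri_add (e r : ℕ) : tri e + (r * e + tri r) = tri (e + r) := by
  induction r with
  | zero => simp [tri]
  | succ r ih => rw [← Nat.add_assoc e r 1, tri, tri, ← ih]; ring

/-- The centralizer of an element. -/
abbrev cc (u : G) : Subgroup G := Subgroup.centralizer ({u} : Set G)

theorem rne {H K : Subgroup G} [Finite G] : H.relIndex K ≠ 0 :=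
  Subgroup.index_ne_zero_of_finite (H := H.subgroupOf K)

theorem mem_cc {u x : G} : x ∈ cc u ↔ u * x = x * u := by
  rw [Subgroup.mem_centralizer_singleton_iff]
  exact eq_comm

theorem comm_mul_right (u x y : G) : ⁅u, x * y⁆ = ⁅u, x⁆ * (x * ⁅u, y⁆ * x⁻¹) := by
  simp only [commutatorElement_def]; group

theorem comm_mul_left (g h x : G) : ⁅g * h, x⁆ = g * ⁅h, x⁆ * g⁻¹ * ⁅g, x⁆ := by
  simp only [commutatorElement_def]; group

theorem conj_comm (g u x : G) : g * ⁅u, x⁆ * g⁻¹ = ⁅g * u * g⁻¹, g * x * g⁻¹⁆ := by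
  simp only [commutatorElement_def]; group

theorem conj_mem {H : Subgroup G} {g x : G} (hg : g ∈ normalizer (H : Set G)) (hx : x ∈ H) :
    g * x * g⁻¹ ∈ H := (mem_normalizer_iff.mp hg x).mp hx

theorem conj_mem' {H : Subgroup G} {g x : G} (hg : g ∈ normalizer (H : Set G)) (hx : x ∈ H) :
    g⁻¹ * x * g ∈ H := by
  simpa using conj_mem (inv_mem hg) hx

theorem comm_mem {L : Subgroup G} {u x : G} (hu : u ∈ normalizer (L : Set G)) (hx : x ∈ L) :
    ⁅u, x⁆ ∈ L := L.mul_mem (conj_mem hu hx) (L.inv_mem hx)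

theorem mem_normalizer_of_comm [Finite G] {H : Subgroup G} {g : G} (h : ∀ x ∈ H, ⁅g, x⁆ ∈ H) :
    g ∈ normalizer (H : Set G) := by
  refine mem_normalizer_iff.mpr fun x => ⟨fun hx => ?_, fun hx => ?_⟩
  · simpa [commutatorElement_def] using H.mul_mem (h x hx) hx
  · let f : H → H := fun y => ⟨g * y * g⁻¹,
      by simpa [commutatorElement_def] using H.mul_mem (h y y.2) y.2⟩
    have hf : Function.Injective f := fun y z hyz => Subtype.ext
      (mul_left_cancel (mul_right_cancel (congrArg Subtype.val hyz)))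
    obtain ⟨y, hy⟩ := (Finite.injective_iff_surjective.mp hf) ⟨_, hx⟩
    have : (y : G) = x := by simpa [f] using congrArg Subtype.val hy
    exact this ▸ y.2

theorem le_normalizer_commutator [Finite G] {H : Subgroup G} :
    normalizer (H : Set G) ≤ normalizer ((⁅H, H⁆ : Subgroup G) : Set G) := by
  intro g hg
  refine mem_normalizer_of_comm fun x hx => ?_
  refine Subgroup.mul_mem _ ?_ (Subgroup.inv_mem _ hx)
  suffices h : ⁅H, H⁆ ≤ ⁅H, H⁆.comap (MulAut.conj g).toMonoidHom from h hx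
  rw [commutator_le]
  intro y hy z hz
  show g * ⁅y, z⁆ * g⁻¹ ∈ ⁅H, H⁆
  rw [conj_comm]
  exact commutator_mem_commutator (conj_mem hg hy) (conj_mem hg hz)

/-- Elements of `M` sent into `A` by `⁅v, ·⁆`. -/
def kerSub (v : G) (A M : Subgroup G) (h : M ≤ normalizer (A : Set G)) : Subgroup G where
  carrier := {x | x ∈ M ∧ ⁅v, x⁆ ∈ A}
  one_mem' := ⟨M.one_mem, by simp [commutatorElement_def]⟩
  mul_mem' := fun {x y} hx hy => ⟨M.mul_mem hx.1 hy.1, by
    rw [comm_mul_right]; exact A.mul_mem hx.2 (conj_mem (h hx.1) hy.2)⟩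
  inv_mem' := fun {x} hx => ⟨M.inv_mem hx.1, by
    rw [show ⁅v, x⁻¹⁆ = x⁻¹ * (⁅v, x⁆)⁻¹ * x by simp only [commutatorElement_def]; group]
    exact conj_mem' (h hx.1) (A.inv_mem hx.2)⟩

theorem kerSub_le {v : G} {A M : Subgroup G} {h : M ≤ normalizer (A : Set G)} :
    kerSub v A M h ≤ M := fun _ hx => hx.1

theorem mem_kerSub {v x : G} {A M : Subgroup G} {h : M ≤ normalizer (A : Set G)} :
    x ∈ kerSub v A M h ↔ x ∈ M ∧ ⁅v, x⁆ ∈ A := Iff.rfl

/-- Every element of `⟨L, u⟩'` is `l ⁅u, x⁆` with `l ∈ L'`, `x ∈ L`. -/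
theorem exists_eq_of_mem {L : Subgroup G} {u : G} (hu : u ∈ normalizer (L : Set G)) [Finite G] {w : G}
    (hw : w ∈ ⁅L ⊔ zpowers u, L ⊔ zpowers u⁆) : ∃ l ∈ ⁅L, L⁆, ∃ x ∈ L, w = l * ⁅u, x⁆ := by
  set D := ⁅L, L⁆ with hD
  have hLD : L ≤ normalizer (D : Set G) := Subgroup.le_normalizer.trans le_normalizer_commutator
  let J : Subgroup G :=
    { carrier := {w | ∃ l ∈ D, ∃ x ∈ L, w = l * ⁅u, x⁆}
      one_mem' := ⟨1, D.one_mem, 1, L.one_mem, by simp [commutatorElement_def]⟩
      mul_mem' := by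
        rintro _ _ ⟨l₁, hl₁, x, hx, rfl⟩ ⟨l₂, hl₂, y, hy, rfl⟩
        set c := ⁅u, x⁆ with hc
        set d := ⁅u, y⁆ with hd
        have hcL : c ∈ L := comm_mem hu hx
        have hdL : d ∈ L := comm_mem hu hy
        refine ⟨l₁ * (c * l₂ * c⁻¹) * (c * ⁅x, d⁆ * c⁻¹)⁻¹,
          D.mul_mem (D.mul_mem hl₁ (conj_mem (hLD hcL) hl₂))
            (D.inv_mem (conj_mem (hLD hcL) (commutator_mem_commutator hx hdL))),
          x * y, L.mul_mem hx hy, ?_⟩
        rw [comm_mul_right, ← hc, ← hd]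
        simp only [commutatorElement_def]
        group
      inv_mem' := by
        rintro _ ⟨l, hl, x, hx, rfl⟩
        set c := ⁅u, x⁆ with hc
        have hcL : c ∈ L := comm_mem hu hx
        refine ⟨c⁻¹ * l⁻¹ * c * (⁅x⁻¹, c⁻¹⁆)⁻¹,
          D.mul_mem (conj_mem' (hLD hcL) (D.inv_mem hl))
            (D.inv_mem (commutator_mem_commutator (L.inv_mem hx) (L.inv_mem hcL))),
          x⁻¹, L.inv_mem hx, ?_⟩
        rw [hc]
        simp only [commutatorElement_def]
        group }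
  have hDJ : D ≤ J := fun d hd => ⟨d, hd, 1, L.one_mem, by simp [commutatorElement_def]⟩
  have hcJ : ∀ x ∈ L, ⁅u, x⁆ ∈ J := fun x hx => ⟨1, D.one_mem, x, hx, (one_mul _).symm⟩
  have huD : u ∈ normalizer (D : Set G) := le_normalizer_commutator hu
  set K := L ⊔ zpowers u with hK
  have hKJ : K ≤ normalizer (J : Set G) := by
    refine sup_le (fun g hg => mem_normalizer_of_comm ?_)
      (zpowers_le.mpr (mem_normalizer_of_comm ?_))
    · rintro _ ⟨l, hl, x, hx, rfl⟩
      refine hDJ (commutator_mem_commutator hg ?_)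
      exact L.mul_mem (Subgroup.commutator_le_self L hl) (comm_mem hu hx)
    · rintro _ ⟨l, hl, x, hx, rfl⟩
      rw [comm_mul_right]
      exact J.mul_mem (hDJ (comm_mem huD hl))
        (J.mul_mem (J.mul_mem (hDJ hl) (hcJ _ (comm_mem hu hx))) (J.inv_mem (hDJ hl)))
  have key : ∀ h : G, (∀ y ∈ L, ⁅y, h⁆ ∈ J) → ⁅u, h⁆ ∈ J → ∀ g ∈ K, ⁅g, h⁆ ∈ J := by
    intro h h1 h2
    let Z : Subgroup G :=
      { carrier := {g | g ∈ K ∧ ⁅g, h⁆ ∈ J}
        one_mem' := ⟨K.one_mem, by simp [commutatorElement_def]⟩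
        mul_mem' := fun {g k} hg hk => ⟨K.mul_mem hg.1 hk.1, by
          rw [comm_mul_left]; exact J.mul_mem (conj_mem (hKJ hg.1) hk.2) hg.2⟩
        inv_mem' := fun {g} hg => ⟨K.inv_mem hg.1, by
          rw [show ⁅g⁻¹, h⁆ = g⁻¹ * (⁅g, h⁆)⁻¹ * g by simp only [commutatorElement_def]; group]
          exact conj_mem' (hKJ hg.1) (J.inv_mem hg.2)⟩ }
    have hKZ : K ≤ Z := sup_le (fun y hy => ⟨mem_sup_left hy, h1 y hy⟩)
      (zpowers_le.mpr ⟨mem_sup_right (mem_zpowers u), h2⟩)
    exact fun g hg => (hKZ hg).2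
  have flip : ∀ g h : G, ⁅g, h⁆ ∈ J → ⁅h, g⁆ ∈ J := fun g h hgh => by
    rw [← commutatorElement_inv]; exact J.inv_mem hgh
  have hL : ∀ y ∈ L, ∀ g ∈ K, ⁅g, y⁆ ∈ J := fun y hy => key y
    (fun z hz => hDJ (commutator_mem_commutator hz hy)) (hcJ y hy)
  have hU : ∀ g ∈ K, ⁅g, u⁆ ∈ J := key u (fun z hz => flip _ _ (hcJ z hz))
    (by simp [commutatorElement_def])
  have hle : ⁅K, K⁆ ≤ J := commutator_le.mpr fun g hg h hh => flip _ _
    (key g (fun y hy => flip _ _ (hL y hy g hg)) (flip _ _ (hU g hg)) h hh)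
  exact hle hw

/-- Counting the sets `A ⁅v, L⁆`. -/
theorem card_le_of_cover [Finite G] {W A S L : Subgroup G} {v : G} (hv : v ∈ normalizer (L : Set G))
    (hA : L ≤ normalizer (A : Set G)) (hS : ∀ s ∈ S, s ∈ L → ⁅v, s⁆ ∈ A)
    (hW : ∀ w ∈ W, ∃ l ∈ A, ∃ x ∈ L, w = l * ⁅v, x⁆) :
    Nat.card W ≤ Nat.card A * S.relIndex L := by
  have hq : S.relIndex L = Nat.card (L ⧸ S.subgroupOf L) := Subgroup.index_eq_card _
  rw [hq, ← Nat.card_prod]
  let g : A × (L ⧸ S.subgroupOf L) → G := fun t => (t.1 : G) * ⁅v, ((t.2.out : L) : G)⁆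
  have hmem : ∀ w : W, ∃ t, g t = w := by
    rintro ⟨w, hw⟩
    obtain ⟨l, hl, x, hx, rfl⟩ := hW w hw
    set q : L ⧸ S.subgroupOf L := QuotientGroup.mk ⟨x, hx⟩ with hq'
    obtain ⟨s, hs⟩ := QuotientGroup.mk_out_eq_mul (S.subgroupOf L) ⟨x, hx⟩
    have e : ((q.out : L) : G) = x * ((s : L) : G) := congrArg Subtype.val hs
    have hj := conj_mem (hA hx) (hS _ s.2 (s : L).2)
    have hj' := conj_mem (hA (comm_mem hv hx)) hj
    refine ⟨(⟨l * (⁅v, x⁆ * (x * ⁅v, ((s : L) : G)⁆ * x⁻¹) * ⁅v, x⁆⁻¹)⁻¹,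
      A.mul_mem hl (A.inv_mem hj')⟩, q), ?_⟩
    show _ * ⁅v, ((q.out : L) : G)⁆ = l * ⁅v, x⁆
    rw [e, comm_mul_right]
    group
  refine Nat.card_le_card_of_injective (fun w => (hmem w).choose) fun w₁ w₂ h => Subtype.ext ?_
  rw [← (hmem w₁).choose_spec, ← (hmem w₂).choose_spec]
  exact congrArg g h

variable {p : ℕ} [hp : Fact p.Prime] [Finite G]

omit hp in
/-- A nontrivial normal section is not covered by its commutator with a `p`-group. -/
theorem not_le_sup_commutator [Group.IsNilpotent G] {R M P : Subgroup G}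
    (hPR : P ≤ normalizer (R : Set G)) (hMR : ¬ M ≤ R) : ¬ M ≤ R ⊔ ⁅M, P⁆ := by
  intro h
  obtain ⟨c, hc⟩ := Subgroup.nilpotent_iff_lowerCentralSeries.1 (inferInstance : Group.IsNilpotent G)
  set γ := (⊤ : Subgroup G).lowerCentralSeries with hγ
  haveI : ∀ i, (γ i).Normal := fun i => inferInstance
  have hk : ∀ k, M ≤ R ⊔ γ k := by
    intro k
    induction k with
    | zero => exact le_sup_of_le_right (by simp [hγ])
    | succ k ih =>
      refine h.trans (sup_le le_sup_left ?_)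
      rw [commutator_le]
      intro m hm g hg
      obtain ⟨r, hr, c, hc, rfl⟩ := mem_sup_of_normal_right.mp (ih hm)
      rw [comm_mul_left]
      refine Subgroup.mul_mem _ (mem_sup_right ((inferInstance : (γ (k + 1)).Normal).conj_mem _ ?_ r)) ?_
      · exact commutator_mem_commutator (H₁ := γ k) (H₂ := ⊤) hc (Subgroup.mem_top g)
      · rw [← commutatorElement_inv]
        exact mem_sup_left (R.inv_mem (comm_mem (hPR hg) hr))
  exact hMR (by simpa [hc] using hk c)

/-- An invariant subgroup of index `p` above `R`, with trivial action on the factor. -/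
theorem exists_invariant_index (hG : IsPGroup p G) {R M P : Subgroup G} (hPR : P ≤ normalizer (R : Set G))
    (hPM : P ≤ normalizer (M : Set G)) (hRM : R ≤ M) (hne : ¬ M ≤ R) :
    ∃ N : Subgroup G, R ≤ N ∧ N ≤ M ∧ N.relIndex M = p ∧ P ≤ normalizer (N : Set G) ∧
      ∀ g ∈ P, ∀ m ∈ M, ⁅g, m⁆ ∈ N := by
  haveI := hG.isNilpotent
  set X := R ⊔ ⁅M, P⁆ with hX
  have hXM : X ≤ M := sup_le hRM (commutator_le.mpr fun m hm g hg => by
    rw [← commutatorElement_inv]; exact M.inv_mem (comm_mem (hPM hg) hm))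
  have hXne : X.subgroupOf M ≠ ⊤ := fun h => not_le_sup_commutator hPR hne (subgroupOf_eq_top.1 h)
  have hMp := hG.to_subgroup M
  obtain ⟨i, hi⟩ := IsPGroup.iff_card.1 hMp
  obtain ⟨j, hj⟩ := IsPGroup.iff_card.1 (hMp.to_subgroup (X.subgroupOf M))
  have hji : j < i := by
    have h1 : Nat.card (X.subgroupOf M) < Nat.card M := lt_of_le_of_ne
      (Subgroup.card_le_card_group _) fun h => hXne (Subgroup.eq_top_of_card_eq _ h)
    rw [hi, hj] at h1
    exact (Nat.pow_lt_pow_iff_right hp.out.one_lt).1 h1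
  obtain ⟨N', hN', hXN⟩ := Sylow.exists_subgroup_card_pow_prime_le (G := M) p
    (hi ▸ pow_dvd_pow p (Nat.sub_le i 1)) (X.subgroupOf M) hj (show j ≤ i - 1 by omega)
  refine ⟨N'.map M.subtype, ?_, map_subtype_le _, ?_, ?_, ?_⟩
  · exact fun r hr => ⟨⟨r, hRM hr⟩, hXN (mem_sup_left (T := ⁅M, P⁆) hr), rfl⟩
  · have e : (N'.map M.subtype).subgroupOf M = N' :=
      Subgroup.comap_map_eq_self_of_injective M.subtype_injective N'
    show ((N'.map M.subtype).subgroupOf M).index = p
    rw [e]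
    have h2 := N'.card_mul_index
    rw [hN', hi, ← pow_sub_one_mul (by omega : i ≠ 0) p] at h2
    exact Nat.eq_of_mul_eq_mul_left (pow_pos hp.out.pos _) h2
  · intro g hg
    refine mem_normalizer_of_comm fun x hx => ?_
    obtain ⟨y, -, rfl⟩ := hx
    refine ⟨⟨_, comm_mem (hPM hg) y.2⟩, hXN (mem_sup_right ?_), rfl⟩
    show ⁅g, (y : G)⁆ ∈ _
    rw [← commutatorElement_inv]
    exact Subgroup.inv_mem _ (commutator_mem_commutator y.2 hg)
  · intro g hg m hm
    refine ⟨⟨_, comm_mem (hPM hg) hm⟩, hXN (mem_sup_right ?_), rfl⟩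
    show ⁅g, m⁆ ∈ _
    rw [← commutatorElement_inv]
    exact Subgroup.inv_mem _ (commutator_mem_commutator hm hg)

theorem pow_mem_of_relIndex {N M : Subgroup G} (hN : M ≤ normalizer (N : Set G))
    (hidx : N.relIndex M = p) {h : G} (hh : h ∈ M) : h ^ p ∈ N := by
  haveI : (N.subgroupOf M).Normal := normal_subgroupOf_of_le_normalizer hN
  have h1 : (⟨h, hh⟩ : M) ^ (N.subgroupOf M).index ∈ N.subgroupOf M := Subgroup.pow_index_mem _ _
  rw [show (N.subgroupOf M).index = p from hidx] at h1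
  exact h1

theorem sup_zpowers_eq {N M : Subgroup G} (hNM : N ≤ M) (hidx : N.relIndex M = p) {h : G} (hh : h ∈ M)
    (hhN : h ∉ N) : N ⊔ zpowers h = M := by
  have hle : N ⊔ zpowers h ≤ M := sup_le hNM (zpowers_le.mpr hh)
  have h1 := relIndex_mul_relIndex N (N ⊔ zpowers h) M le_sup_left hle
  rw [hidx] at h1
  rcases hp.out.eq_one_or_self_of_dvd _ (Dvd.intro _ h1) with h2 | h2
  · exact absurd (relIndex_eq_one.mp h2 (mem_sup_right (mem_zpowers h))) hhN
  · rw [h2] at h1
    exact le_antisymm hle (relIndex_eq_one.mp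
      (Nat.eq_of_mul_eq_mul_left hp.out.pos (h1.trans (mul_one p).symm)))

omit hp in
theorem pow_mul_eq {N : Subgroup G} {M : Subgroup G} {a h : G} (hMN : M ≤ normalizer (N : Set G))
    (haN : a ∈ normalizer (N : Set G)) (hh : h ∈ M) (hc : ∀ m ∈ M, ⁅a⁻¹, m⁆ ∈ N) (n : ℕ) :
    ∃ m ∈ N, (a * h) ^ n = a ^ n * h ^ n * m := by
  induction n with
  | zero => exact ⟨1, N.one_mem, by simp⟩
  | succ n ih =>
    obtain ⟨m, hm, e⟩ := ih
    refine ⟨h⁻¹ * (((h ^ n)⁻¹ * ⁅a⁻¹, h ^ n⁆ * h ^ n) * (a⁻¹ * m * a)) * h,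
      conj_mem' (hMN hh) (N.mul_mem (conj_mem' (hMN (pow_mem hh n)) (hc _ (pow_mem hh n)))
        (conj_mem' haN hm)), ?_⟩
    rw [pow_succ, e, pow_succ a, pow_succ h]
    simp only [commutatorElement_def]
    group

/-- Passing to the index `p` overgroup `N ⟨a⟩` costs a factor `p`. -/
theorem relIndex_sup_le {N C : Subgroup G} {a : G} (haN : a ∈ normalizer (N : Set G)) {m : G}
    (hm : m ∈ N) (hC : a ^ p * m ∈ C) :
    C.relIndex (N ⊔ zpowers a) ≤ p * C.relIndex N := by
  set L := N ⊔ zpowers a with hL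
  have hNL : N ≤ L := le_sup_left
  have e1 : C.relIndex L = Nat.card (L ⧸ C.subgroupOf L) := Subgroup.index_eq_card _
  have e2 : C.relIndex N = Nat.card (N ⧸ C.subgroupOf N) := Subgroup.index_eq_card _
  rw [e1, e2, show p = Nat.card (Fin p) from (Nat.card_fin p).symm, ← Nat.card_prod]
  have hmk : ∀ (i : ℕ) (n : N), a ^ i * (n : G) ∈ L := fun i n =>
    L.mul_mem (mem_sup_right (npow_mem_zpowers a i)) (hNL n.2)
  refine Nat.card_le_card_of_surjective
    (fun t : Fin p × (N ⧸ C.subgroupOf N) =>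
      (QuotientGroup.mk (⟨a ^ (t.1 : ℕ) * ((t.2.out : N) : G), hmk _ _⟩ : L) : L ⧸ C.subgroupOf L)) ?_
  intro q
  induction q using QuotientGroup.induction_on with
  | H x =>
    obtain ⟨n, hn, y, hy, hxy⟩ := (Subgroup.mem_sup_of_normal_left (s := N.subgroupOf L)
      (t := (zpowers a).subgroupOf L) (x := x) (hs := normal_subgroupOf_of_le_normalizer
        (sup_le le_normalizer (zpowers_le.mpr haN)))).mp (by
      rw [← subgroupOf_sup le_sup_left le_sup_right, subgroupOf_self]; trivial)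
    obtain ⟨k, hk⟩ := Subgroup.mem_zpowers_iff.mp hy
    have hpos : (0 : ℤ) < p := by exact_mod_cast hp.out.pos
    obtain ⟨i, hi⟩ : ∃ i : Fin p, (i : ℤ) = k % p :=
      ⟨⟨(k % p).toNat, by have := Int.emod_lt_of_pos k hpos; omega⟩, by
        simp [Int.toNat_of_nonneg (Int.emod_nonneg k hpos.ne')]⟩
    -- `(a^p)^j = n' (a^p m)^j`
    have hwN : a ^ p * m ∈ normalizer (N : Set G) :=
      mul_mem (pow_mem haN p) (le_normalizer hm)
    have hpowN : ∀ j : ℕ, ∃ n' ∈ N, (a ^ p) ^ j = n' * (a ^ p * m) ^ j := by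
      intro j
      induction j with
      | zero => exact ⟨1, N.one_mem, by simp⟩
      | succ j ih =>
        obtain ⟨n', hn', e⟩ := ih
        refine ⟨n' * ((a ^ p * m) ^ (j + 1) * m⁻¹ * ((a ^ p * m) ^ (j + 1))⁻¹),
          N.mul_mem hn' (conj_mem (pow_mem hwN _) (N.inv_mem hm)), ?_⟩
        rw [pow_succ, e, pow_succ]
        group
    have hpow : ∀ j : ℤ, ∃ n' ∈ N, (a ^ p) ^ j = n' * (a ^ p * m) ^ j := by
      intro j
      obtain ⟨j', rfl | rfl⟩ := Int.eq_nat_or_neg j
      · simpa using hpowN j'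
      · obtain ⟨n', hn', e⟩ := hpowN j'
        refine ⟨((a ^ p * m) ^ j')⁻¹ * n'⁻¹ * (a ^ p * m) ^ j',
          conj_mem' (pow_mem hwN _) (N.inv_mem hn'), ?_⟩
        rw [zpow_neg, zpow_natCast, zpow_neg, zpow_natCast, e]
        group
    obtain ⟨n', hn', e⟩ := hpow (k / p)
    have hfin : a ^ (i : ℕ) * ((a ^ (i : ℕ))⁻¹ * (n : G) * a ^ (i : ℕ) * n') * (a ^ p * m) ^ (k / p)
        = x := by
      have hx : (x : G) = (n : G) * a ^ k := by rw [hk, ← hxy]; rfl
      rw [hx, show a ^ k = a ^ (i : ℕ) * (a ^ p) ^ (k / p) by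
        rw [← zpow_natCast a i, ← zpow_natCast a p, ← zpow_mul, ← zpow_add, hi, Int.emod_add_mul_ediv],
        e]
      group
    set n'' : N := ⟨(a ^ (i : ℕ))⁻¹ * (n : G) * a ^ (i : ℕ) * n',
      N.mul_mem (conj_mem' (pow_mem haN _) hn) hn'⟩ with hn''
    refine ⟨(i, QuotientGroup.mk n''), ?_⟩
    obtain ⟨s, hs⟩ := QuotientGroup.mk_out_eq_mul (C.subgroupOf N) n''
    rw [QuotientGroup.eq, mem_subgroupOf]
    show (a ^ (i : ℕ) * (((QuotientGroup.mk n'' : N ⧸ C.subgroupOf N).out : N) : G))⁻¹ * x ∈ C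
    rw [hs, ← hfin]
    show (a ^ (i : ℕ) * ((n'' : G) * ((s : N) : G)))⁻¹ * (a ^ (i : ℕ) * (n'' : G) * _) ∈ C
    rw [show (a ^ (i : ℕ) * ((n'' : G) * ((s : N) : G)))⁻¹ *
        (a ^ (i : ℕ) * (n'' : G) * (a ^ p * m) ^ (k / p)) =
          ((s : N) : G)⁻¹ * (a ^ p * m) ^ (k / p) by group]
    exact C.mul_mem (C.inv_mem s.2) (zpow_mem hC _)

/-- Building `⟨M, a⟩` up from `⟨R, a⟩` in steps of index `p`. -/
theorem chain (hG : IsPGroup p G) (a : G) (R K : Subgroup G) (e : ℕ) :
    ∀ (r : ℕ) (M : Subgroup G), R ≤ M → R.relIndex M = p ^ r → a ∈ normalizer (M : Set G) →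
      M ≤ normalizer (R : Set G) → a ∈ normalizer (R : Set G) →
      (∀ h ∈ M, (cc (a * h)).relIndex R ≤ p ^ e) →
      (∀ h ∈ M, h ∉ K → (cc (a * h)).relIndex R * p ≤ p ^ e) →
      ∀ σ : ℕ, σ ≤ r → p ^ σ ≤ K.relIndex M →
      Nat.card (⁅M ⊔ zpowers a, M ⊔ zpowers a⁆ : Subgroup G) * p ^ σ ≤
        Nat.card (⁅R ⊔ zpowers a, R ⊔ zpowers a⁆ : Subgroup G) * p ^ (r * e + tri r) := by
  intro r
  induction r with
  | zero =>
    intro M hRM hidx _ _ _ _ _ σ hσ _
    obtain rfl : σ = 0 := by omega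
    obtain rfl : M = R := le_antisymm (relIndex_eq_one.mp (by simpa using hidx)) hRM
    simp [tri]
  | succ r ih =>
    intro M hRM hidx haM hMR haR hall hgood σ hσ hK
    have hne : ¬ M ≤ R := fun h => by
      rw [relIndex_eq_one.mpr h] at hidx
      exact absurd hidx.symm (Nat.one_lt_pow r.succ_ne_zero hp.out.one_lt).ne'
    set P := M ⊔ zpowers a with hP
    have hPR : P ≤ normalizer (R : Set G) := sup_le hMR (zpowers_le.mpr haR)
    have hPM : P ≤ normalizer (M : Set G) := sup_le le_normalizer (zpowers_le.mpr haM)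
    obtain ⟨N, hRN, hNM, hNidx, hPN, htriv⟩ := exists_invariant_index hG hPR hPM hRM hne
    have haP : a ∈ P := mem_sup_right (mem_zpowers a)
    have hMP : M ≤ P := le_sup_left
    have haN : a ∈ normalizer (N : Set G) := hPN haP
    have hMN : M ≤ normalizer (N : Set G) := hMP.trans hPN
    have hidxN : R.relIndex N = p ^ r := by
      have h1 := relIndex_mul_relIndex R N M hRN hNM
      rw [hNidx, hidx, pow_succ] at h1
      exact Nat.eq_of_mul_eq_mul_right hp.out.pos h1
    -- choice of `h`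
    obtain ⟨h, hhM, hhN, hhK⟩ : ∃ h ∈ M, h ∉ N ∧ (0 < σ → h ∉ K) := by
      obtain ⟨x, hxM, hxN⟩ : ∃ x ∈ M, x ∉ N := SetLike.not_le_iff_exists.mp fun h => by
        rw [relIndex_eq_one.mpr h] at hNidx
        exact hp.out.one_lt.ne hNidx
      by_cases hσ0 : σ = 0
      · exact ⟨x, hxM, hxN, fun h => absurd hσ0 h.ne'⟩
      obtain ⟨y, hyM, hyK⟩ : ∃ y ∈ M, y ∉ K := SetLike.not_le_iff_exists.mp fun h => by
        rw [relIndex_eq_one.mpr h] at hK
        exact absurd hK (not_le.mpr (Nat.one_lt_pow hσ0 hp.out.one_lt))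
      by_cases hxK : x ∈ K
      · by_cases hyN : y ∈ N
        · exact ⟨x * y, M.mul_mem hxM hyM,
            fun h => hxN (by simpa using N.mul_mem h (N.inv_mem hyN)),
            fun _ h => hyK (by simpa using K.mul_mem (K.inv_mem hxK) h)⟩
        · exact ⟨y, hyM, hyN, fun _ => hyK⟩
      · exact ⟨x, hxM, hxN, fun _ => hxK⟩
    set u := a * h with hu
    set L := N ⊔ zpowers a with hL
    have hgen : L ⊔ zpowers u = P := by
      refine le_antisymm (sup_le (sup_le (hNM.trans hMP) (zpowers_le.mpr haP))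
        (zpowers_le.mpr (P.mul_mem haP (hMP hhM)))) (sup_le ?_ ?_)
      · refine (sup_zpowers_eq hNM hNidx hhM hhN).ge.trans (sup_le (le_sup_left.trans le_sup_left) ?_)
        rw [zpowers_le, show h = a⁻¹ * u by simp [hu]]
        exact Subgroup.mul_mem _ (Subgroup.inv_mem _ (mem_sup_left (mem_sup_right (mem_zpowers a))))
          (mem_sup_right (mem_zpowers u))
      · exact le_sup_right.trans le_sup_left
    have hNL : N ≤ L := le_sup_left
    have haL : a ∈ L := mem_sup_right (mem_zpowers a)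
    have huL : u ∈ normalizer (L : Set G) := by
      refine mul_mem (le_normalizer haL) (mem_normalizer_of_comm ?_)
      suffices hs : L ≤ kerSub h L L le_normalizer from fun x hx => (hs hx).2
      refine sup_le (fun n hn => ⟨hNL hn, hNL (comm_mem (hMN hhM) hn)⟩)
        (zpowers_le.mpr ⟨haL, hNL ?_⟩)
      rw [← commutatorElement_inv]
      exact N.inv_mem (htriv a haP h hhM)
    have hcard : Nat.card (⁅P, P⁆ : Subgroup G) ≤
        Nat.card (⁅L, L⁆ : Subgroup G) * (cc u).relIndex L := by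
      rw [← hgen]
      refine card_le_of_cover huL (Subgroup.le_normalizer.trans le_normalizer_commutator)
        (fun s hs _ => ?_) fun w hw => exists_eq_of_mem huL hw
      rw [commutatorElement_eq_one_iff_mul_comm.mpr (mem_cc.mp hs)]
      exact Subgroup.one_mem _
    obtain ⟨m, hm, hpow⟩ := pow_mul_eq hMN haN hhM (fun m hm => htriv _ (P.inv_mem haP) m hm) p
    have hC : a ^ p * (h ^ p * m) ∈ cc u := by
      rw [← mul_assoc, ← hpow, mem_cc, hu, ← pow_succ', ← pow_succ]
    have hidxL : (cc u).relIndex L ≤ p * (p ^ r * (cc u).relIndex R) := by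
      refine (relIndex_sup_le haN (N.mul_mem (pow_mem_of_relIndex hMN hNidx hhM) hm) hC).trans
        (Nat.mul_le_mul_left p ?_)
      calc (cc u).relIndex N ≤ ((cc u) ⊓ R).relIndex N :=
            relIndex_le_of_le_left inf_le_left rne
        _ = (cc u ⊓ R).relIndex R * R.relIndex N := (relIndex_mul_relIndex _ _ _ inf_le_right hRN).symm
        _ = p ^ r * (cc u).relIndex R := by rw [inf_relIndex_right, hidxN, Nat.mul_comm]
    have hKN : p ^ (σ - 1) ≤ K.relIndex N := by
      rcases Nat.eq_zero_or_pos σ with h0 | h0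
      · subst h0
        simpa using Nat.one_le_iff_ne_zero.mpr rne
      refine Nat.le_of_mul_le_mul_right ?_ hp.out.pos
      rw [← pow_succ, Nat.sub_add_cancel h0]
      calc p ^ σ ≤ K.relIndex M := hK
        _ ≤ (K ⊓ N).relIndex M := relIndex_le_of_le_left inf_le_left rne
        _ = (K ⊓ N).relIndex N * N.relIndex M := (relIndex_mul_relIndex _ _ _ inf_le_right hNM).symm
        _ = K.relIndex N * p := by rw [inf_relIndex_right, hNidx]
    have hrec := ih N hRN hidxN haN (hNM.trans hMR) haR (fun x hx => hall x (hNM hx))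
      (fun x hx => hgood x (hNM hx)) (σ - 1) (by omega) hKN
    -- the factor of this step
    have hstep : (cc u).relIndex L * p ^ σ ≤ p ^ (σ - 1) * p ^ (r + 1 + e) := by
      rcases Nat.eq_zero_or_pos σ with h0 | h0
      · subst h0
        calc (cc u).relIndex L * p ^ 0 ≤ p * (p ^ r * p ^ e) := by
              rw [pow_zero, mul_one]
              exact hidxL.trans (Nat.mul_le_mul_left _ (Nat.mul_le_mul_left _ (hall h hhM)))
          _ = p ^ (0 - 1) * p ^ (r + 1 + e) := by rw [Nat.zero_sub]; ring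
      calc (cc u).relIndex L * p ^ σ = (cc u).relIndex L * p * p ^ (σ - 1) := by
            conv_lhs => rw [← Nat.sub_add_cancel h0, pow_succ']
            ring
        _ ≤ p * (p ^ r * (cc u).relIndex R) * p * p ^ (σ - 1) :=
            Nat.mul_le_mul_right _ (Nat.mul_le_mul_right _ hidxL)
        _ = p * p ^ r * ((cc u).relIndex R * p) * p ^ (σ - 1) := by ring
        _ ≤ p * p ^ r * p ^ e * p ^ (σ - 1) :=
            Nat.mul_le_mul_right _ (Nat.mul_le_mul_left _ (hgood h hhM (hhK h0)))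
        _ = p ^ (σ - 1) * p ^ (r + 1 + e) := by ring
    calc Nat.card (⁅P, P⁆ : Subgroup G) * p ^ σ
        ≤ Nat.card (⁅L, L⁆ : Subgroup G) * (cc u).relIndex L * p ^ σ := Nat.mul_le_mul_right _ hcard
      _ ≤ Nat.card (⁅L, L⁆ : Subgroup G) * (p ^ (σ - 1) * p ^ (r + 1 + e)) := by
          rw [mul_assoc]; exact Nat.mul_le_mul_left _ hstep
      _ ≤ Nat.card (⁅R ⊔ zpowers a, R ⊔ zpowers a⁆ : Subgroup G) * p ^ (r * e + tri r) *
            p ^ (r + 1 + e) := by
          rw [← mul_assoc]; exact Nat.mul_le_mul_right _ hrec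
      _ = Nat.card (⁅R ⊔ zpowers a, R ⊔ zpowers a⁆ : Subgroup G) * p ^ ((r + 1) * e + tri (r + 1)) := by
          rw [mul_assoc, ← pow_add]
          congr 2
          rw [tri]; ring

/-- `|M : C_M(v h)| = |M : R| |R : C_R(v h)|` for the kernel `R` of `x ↦ ⁅v, x⁆` modulo `M'`. -/
theorem relIndex_cc_eq {M : Subgroup G} {v : G} (hv : v ∈ normalizer (M : Set G)) {h : G} (hh : h ∈ M) :
    (kerSub v ⁅M, M⁆ M (Subgroup.le_normalizer.trans le_normalizer_commutator)).relIndex M *
      (cc (v * h)).relIndex (kerSub v ⁅M, M⁆ M (Subgroup.le_normalizer.trans le_normalizer_commutator)) =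
    (cc (v * h)).relIndex M := by
  set R := kerSub v ⁅M, M⁆ M (Subgroup.le_normalizer.trans le_normalizer_commutator) with hR
  have e : cc (v * h) ⊓ R = cc (v * h) ⊓ M := by
    refine le_antisymm (inf_le_inf_left _ kerSub_le) fun x hx => ⟨hx.1, hx.2, ?_⟩
    have h1 : v * ⁅h, x⁆ * v⁻¹ * ⁅v, x⁆ = 1 := by
      rw [← comm_mul_left]; exact commutatorElement_eq_one_iff_mul_comm.mpr (mem_cc.mp hx.1)
    rw [eq_inv_of_mul_eq_one_right h1]
    exact Subgroup.inv_mem _
      (conj_mem (le_normalizer_commutator hv) (commutator_mem_commutator hh hx.2))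
  rw [← inf_relIndex_right (cc (v * h)) M, ← e,
    ← relIndex_mul_relIndex (cc (v * h) ⊓ R) R M inf_le_right kerSub_le, inf_relIndex_right, mul_comm]

theorem le_normalizer_kerSub {M : Subgroup G} {v : G} (hv : v ∈ normalizer (M : Set G)) :
    M ≤ normalizer ((kerSub v ⁅M, M⁆ M (Subgroup.le_normalizer.trans le_normalizer_commutator) :
      Subgroup G) : Set G) ∧
    v ∈ normalizer ((kerSub v ⁅M, M⁆ M (Subgroup.le_normalizer.trans le_normalizer_commutator) :
      Subgroup G) : Set G) := by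
  have hvD := le_normalizer_commutator hv
  refine ⟨fun m hm => mem_normalizer_of_comm fun x hx => ⟨comm_mem (le_normalizer hm) hx.1, ?_⟩,
    mem_normalizer_of_comm fun x hx => ⟨comm_mem hv hx.1, comm_mem hvD hx.2⟩⟩
  exact comm_mem hvD (commutator_mem_commutator hm hx.1)

/-- The coset form of the breadth theorem. -/
theorem main (hG : IsPGroup p G) : ∀ (n : ℕ) (M : Subgroup G), Nat.card M = n → ∀ a : G,
    a ∈ normalizer (M : Set G) → ∀ b : ℕ, (∀ h ∈ M, (cc (a * h)).relIndex M ≤ p ^ b) →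
    Nat.card (⁅M ⊔ zpowers a, M ⊔ zpowers a⁆ : Subgroup G) ≤ p ^ tri b := by
  haveI := hG.isNilpotent
  intro n
  induction n using Nat.strong_induction_on with
  | _ n ih =>
  intro M hn a ha b hb
  set D := ⁅M, M⁆ with hD
  have hMD : M ≤ normalizer (D : Set G) := Subgroup.le_normalizer.trans le_normalizer_commutator
  have hmk : ∀ (S : Subgroup G) (r : ℕ), S.relIndex M = p ^ r →
      (∀ h ∈ M, p ^ r * (cc (a * h)).relIndex S ≤ p ^ b) → r ≤ b := by
    intro S r _ h
    refine (Nat.pow_le_pow_iff_right hp.out.one_lt).1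
      (le_trans (Nat.le_mul_of_pos_right _ (Nat.pos_of_ne_zero rne))
        (h 1 M.one_mem))
  by_cases hcase : ∀ x ∈ M, ⁅a, x⁆ ∈ D
  swap
  · -- `a` acts nontrivially on `M/M'`
    set R := kerSub a D M hMD with hR
    obtain ⟨r, hr⟩ : ∃ r, R.relIndex M = p ^ r := (hG.to_subgroup M).index _
    have hsplit : ∀ h ∈ M, p ^ r * (cc (a * h)).relIndex R ≤ p ^ b := fun h hh => by
      rw [← hr]; exact (relIndex_cc_eq ha hh).le.trans (hb h hh)
    have hrb := hmk R r hr hsplit
    have he : ∀ h ∈ M, (cc (a * h)).relIndex R ≤ p ^ (b - r) := fun h hh => by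
      refine Nat.le_of_mul_le_mul_left ?_ (pow_pos hp.out.pos r)
      rw [← pow_add, Nat.add_sub_cancel' hrb]
      exact hsplit h hh
    obtain ⟨hMR, haR⟩ := le_normalizer_kerSub ha
    have hRlt : R < M := lt_of_le_of_ne kerSub_le fun h => hcase fun x hx => (h.ge hx).2
    have hcard : Nat.card R < n := by
      rw [← hn]
      exact lt_of_le_of_ne (Subgroup.card_le_of_le hRlt.le) fun h =>
        hRlt.ne (Subgroup.eq_of_le_of_card_ge hRlt.le h.ge)
    have h1 := ih _ hcard R rfl a haR (b - r) fun h hh => he h (kerSub_le hh)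
    have h2 := chain hG a R ⊤ (b - r) r M kerSub_le hr ha hMR haR he
      (fun h _ hK => absurd (Subgroup.mem_top h) hK) 0 (Nat.zero_le r)
      (by simpa using Nat.one_le_iff_ne_zero.mpr rne)
    rw [pow_zero, mul_one] at h2
    calc Nat.card (⁅M ⊔ zpowers a, M ⊔ zpowers a⁆ : Subgroup G) ≤ _ := h2
      _ ≤ p ^ tri (b - r) * p ^ (r * (b - r) + tri r) := Nat.mul_le_mul_right _ h1
      _ = p ^ tri b := by rw [← pow_add, tri_add, Nat.sub_add_cancel hrb]
  · -- `a` acts trivially on `M/M'`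
    have hPD : ⁅M ⊔ zpowers a, M ⊔ zpowers a⁆ ≤ D := fun w hw => by
      obtain ⟨l, hl, x, hx, rfl⟩ := exists_eq_of_mem ha hw
      exact D.mul_mem hl (hcase x hx)
    refine (Subgroup.card_le_of_le hPD).trans ?_
    by_cases hM1 : M ≤ ⊥
    · rw [show D = ⊥ from le_bot_iff.mp ((Subgroup.commutator_le_self M).trans hM1), Subgroup.card_bot]
      exact Nat.one_le_pow _ _ hp.out.pos
    have hDne : ¬ M ≤ D := fun h => not_le_sup_commutator (P := M)
      (fun g _ => by rw [normalizer_eq_top]; trivial) hM1 (by rwa [bot_sup_eq])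
    set P := M ⊔ zpowers a with hP
    have hPM : P ≤ normalizer (M : Set G) := sup_le le_normalizer (zpowers_le.mpr ha)
    obtain ⟨N, hDN, hNM, hNidx, hPN, -⟩ := exists_invariant_index hG
      (sup_le hMD (zpowers_le.mpr (le_normalizer_commutator ha))) hPM (Subgroup.commutator_le_self M) hDne
    obtain ⟨t, htM, htN⟩ : ∃ t ∈ M, t ∉ N := SetLike.not_le_iff_exists.mp fun h => by
      rw [relIndex_eq_one.mpr h] at hNidx
      exact hp.out.one_lt.ne hNidx
    have hMN : M ≤ normalizer (N : Set G) := le_sup_left.trans hPN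
    have haN : a ∈ normalizer (N : Set G) := hPN (mem_sup_right (mem_zpowers a))
    have hgen : N ⊔ zpowers t = M := sup_zpowers_eq hNM hNidx htM htN
    set A := ⁅N, N⁆ with hA
    have hMA : M ≤ normalizer (A : Set G) := hMN.trans le_normalizer_commutator
    have haA : a ∈ normalizer (A : Set G) := le_normalizer_commutator haN
    set J : G → Subgroup G := fun v => ⁅N ⊔ zpowers v, N ⊔ zpowers v⁆ with hJ
    have hAJ : ∀ v, A ≤ J v := fun v => commutator_mono le_sup_left le_sup_left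
    have hJD : ∀ m ∈ M, J (a * m) ≤ D := fun m hm =>
      le_trans (commutator_mono
        (sup_le (hNM.trans le_sup_left) (zpowers_le.mpr
          (P.mul_mem (mem_sup_right (mem_zpowers a)) (mem_sup_left hm))))
        (sup_le (hNM.trans le_sup_left) (zpowers_le.mpr
          (P.mul_mem (mem_sup_right (mem_zpowers a)) (mem_sup_left hm))))) hPD
    have hJn : ∀ m ∈ M, P ≤ normalizer ((J (a * m) : Subgroup G) : Set G) := by
      intro m hm g hg
      refine le_normalizer_commutator (mem_normalizer_of_comm fun x hx => mem_sup_left (hDN ?_))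
      refine hPD (commutator_mem_commutator hg ?_)
      exact sup_le (hNM.trans le_sup_left) (zpowers_le.mpr
          (P.mul_mem (mem_sup_right (mem_zpowers a)) (mem_sup_left hm))) hx
    have hDform : ∀ w ∈ D, ∃ l ∈ A, ∃ x ∈ N, w = l * ⁅t, x⁆ := fun w hw =>
      exists_eq_of_mem (hMN htM) (by rw [hgen]; exact hw)
    -- the two candidates
    have hmem : ∀ x ∈ N, ⁅t, x⁆ ∈ J a ⊔ J (a * t) := by
      intro x hx
      have h0 : ⁅a, x⁆ ∈ J a :=
        commutator_mem_commutator (mem_sup_right (mem_zpowers a)) (mem_sup_left hx)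
      have h1 : ⁅a * t, x⁆ ∈ J (a * t) :=
        commutator_mem_commutator (mem_sup_right (mem_zpowers _)) (mem_sup_left hx)
      rw [show ⁅t, x⁆ = (a⁻¹ * ⁅a * t, x⁆ * a) * (a⁻¹ * (⁅a, x⁆)⁻¹ * a) by
        rw [comm_mul_left]; group]
      refine Subgroup.mul_mem _ (mem_sup_right (conj_mem' ?_ h1))
        (mem_sup_left (conj_mem' ?_ (Subgroup.inv_mem _ h0)))
      · exact hJn t htM (mem_sup_right (mem_zpowers a))
      · have h2 := hJn 1 M.one_mem (mem_sup_right (mem_zpowers a))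
        rwa [mul_one] at h2
    have hJDa : J a ≤ D := by simpa using hJD 1 M.one_mem
    have hDle : D ≤ J a ⊔ J (a * t) := fun w hw => by
      obtain ⟨l, hl, x, hx, rfl⟩ := hDform w hw
      exact Subgroup.mul_mem _ (mem_sup_left (hAJ a hl)) (hmem x hx)
    have hprod : Nat.card D * Nat.card A ≤ Nat.card (J a) * Nat.card (J (a * t)) := by
      have hn' : J a ≤ normalizer ((J (a * t) : Subgroup G) : Set G) :=
        (hJDa.trans ((Subgroup.commutator_le_self M).trans le_sup_left)).trans (hJn t htM)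
      have hcov : ∀ w : D, ∃ q : (J a ⧸ (J (a * t)).subgroupOf (J a)) × J (a * t),
          ((q.1.out : J a) : G) * (q.2 : G) = w := by
        rintro ⟨w, hw⟩
        have h2 : w ∈ ((J a ⊔ J (a * t) : Subgroup G) : Set G) := hDle hw
        rw [coe_mul_of_left_le_normalizer_right (J a) (J (a * t)) hn'] at h2
        obtain ⟨y, hy, z, hz, rfl⟩ := h2
        obtain ⟨s, hs⟩ := QuotientGroup.mk_out_eq_mul ((J (a * t)).subgroupOf (J a)) ⟨y, hy⟩
        refine ⟨(QuotientGroup.mk ⟨y, hy⟩, ⟨((s : J a) : G)⁻¹ * z,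
          Subgroup.mul_mem _ (Subgroup.inv_mem _ s.2) hz⟩), ?_⟩
        show _ * (((s : J a) : G)⁻¹ * z) = y * z
        rw [hs, Subgroup.coe_mul, ← mul_assoc, mul_inv_cancel_right]
      have h3 : Nat.card D ≤ (J (a * t)).relIndex (J a) * Nat.card (J (a * t)) := by
        rw [show (J (a * t)).relIndex (J a) = Nat.card (J a ⧸ (J (a * t)).subgroupOf (J a)) from
          Subgroup.index_eq_card _, ← Nat.card_prod]
        refine Nat.card_le_card_of_injective (fun w => (hcov w).choose) fun w₁ w₂ h => Subtype.ext ?_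
        rw [← (hcov w₁).choose_spec, ← (hcov w₂).choose_spec]
        exact congrArg (fun q : (J a ⧸ (J (a * t)).subgroupOf (J a)) × J (a * t) =>
          ((q.1.out : J a) : G) * (q.2 : G)) h
      have h4 : Nat.card ((J (a * t)).subgroupOf (J a)) * (J (a * t)).relIndex (J a) = Nat.card (J a) :=
        Subgroup.card_mul_index _
      have h5 : Nat.card A ≤ Nat.card ((J (a * t)).subgroupOf (J a)) := by
        refine le_of_eq_of_le (Nat.card_congr (Subgroup.subgroupOfEquivOfLe (hAJ a)).toEquiv).symm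
          (Subgroup.card_le_of_le fun y hy => ?_)
        exact hAJ (a * t) hy
      calc Nat.card D * Nat.card A
          ≤ (J (a * t)).relIndex (J a) * Nat.card (J (a * t)) *
              Nat.card ((J (a * t)).subgroupOf (J a)) := Nat.mul_le_mul h3 h5
        _ = Nat.card (J a) * Nat.card (J (a * t)) := by rw [← h4]; ring
    obtain ⟨m₀, hm₀, hJmax⟩ : ∃ m₀ ∈ M,
        Nat.card D * Nat.card A ≤ Nat.card (J (a * m₀)) * Nat.card (J (a * m₀)) := by
      rcases le_total (Nat.card (J a)) (Nat.card (J (a * t))) with h | h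
      · exact ⟨t, htM, hprod.trans (Nat.mul_le_mul_right _ h)⟩
      · exact ⟨1, M.one_mem, by rw [mul_one]; exact hprod.trans (Nat.mul_le_mul_left _ h)⟩
    set u₀ := a * m₀ with hu₀
    have hu₀P : u₀ ∈ P := P.mul_mem (mem_sup_right (mem_zpowers a)) (mem_sup_left hm₀)
    -- adjust so that `⁅u, t⁆` is small
    obtain ⟨x₀, hx₀, hx₀A⟩ : ∃ x₀ ∈ N, ⁅u₀ * x₀, t⁆ ∈ A := by
      have h1 : u₀⁻¹ * ⁅u₀, t⁆ * u₀ ∈ D :=
        conj_mem' (sup_le hMD (zpowers_le.mpr (le_normalizer_commutator ha)) hu₀P)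
          (hPD (commutator_mem_commutator hu₀P (mem_sup_left htM)))
      obtain ⟨l, hl, x, hx, e⟩ := hDform _ h1
      refine ⟨x, hx, ?_⟩
      have h2 : ⁅u₀ * x, t⁆ = u₀ * (⁅t, x⁆⁻¹ * (u₀⁻¹ * ⁅u₀, t⁆ * u₀)) * u₀⁻¹ := by
        rw [comm_mul_left, commutatorElement_inv]; group
      rw [h2, e]
      exact conj_mem (mul_mem haA (hMA hm₀))
        (by rw [← mul_assoc]; exact conj_mem' (hMA (comm_mem (le_normalizer htM) (hNM hx))) hl)
    set u := u₀ * x₀ with hu
    have hum : u = a * (m₀ * x₀) := mul_assoc _ _ _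
    have hm' : m₀ * x₀ ∈ M := M.mul_mem hm₀ (hNM hx₀)
    have huN : u ∈ normalizer (N : Set G) :=
      mul_mem (mul_mem haN (hMN hm₀)) (le_normalizer hx₀)
    have hsame : J u = J u₀ := by
      have e : N ⊔ zpowers u = N ⊔ zpowers u₀ := by
        refine le_antisymm (sup_le le_sup_left (zpowers_le.mpr (Subgroup.mul_mem _
          (mem_sup_right (mem_zpowers u₀)) (mem_sup_left hx₀)))) (sup_le le_sup_left (zpowers_le.mpr ?_))
        rw [show u₀ = u * x₀⁻¹ by simp [hu]]
        exact Subgroup.mul_mem _ (mem_sup_right (mem_zpowers u)) (mem_sup_left (N.inv_mem hx₀))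
      simp only [hJ, e]
    set R := kerSub u A N (hNM.trans hMA) with hR
    obtain ⟨r, hr⟩ : ∃ r, R.relIndex N = p ^ r := (hG.to_subgroup N).index _
    have hcN : ∀ h ∈ N, p ^ r * (cc (u * h)).relIndex R ≤ (cc (u * h)).relIndex N :=
      fun h hh => by rw [← hr]; exact (relIndex_cc_eq huN hh).le
    have hNb : ∀ h ∈ N, (cc (u * h)).relIndex N ≤ p ^ b := by
      intro h hh
      refine le_trans ?_ (hb (m₀ * x₀ * h) (M.mul_mem hm' (hNM hh)))
      rw [← mul_assoc, ← hum]
      exact relIndex_le_of_le_right hNM rne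
    have hrb : r ≤ b := (Nat.pow_le_pow_iff_right hp.out.one_lt).1
      (le_trans (Nat.le_mul_of_pos_right _ (Nat.pos_of_ne_zero rne))
        ((hcN 1 N.one_mem).trans (hNb 1 N.one_mem)))
    set e := b - r with he
    have hbe : p ^ b = p ^ r * p ^ e := by rw [← pow_add, Nat.add_sub_cancel' hrb]
    have hall : ∀ h ∈ N, (cc (u * h)).relIndex R ≤ p ^ e := fun h hh => by
      refine Nat.le_of_mul_le_mul_left ?_ (pow_pos hp.out.pos r)
      rw [← hbe]
      exact (hcN h hh).trans (hNb h hh)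
    set T := J u with hT
    have hTP : P ≤ normalizer (T : Set G) := by rw [hsame]; exact hJn m₀ hm₀
    have hTN : M ≤ normalizer (T : Set G) := le_sup_left.trans hTP
    let K : Subgroup G :=
      { carrier := {h | h ∈ N ∧ ⁅h, t⁆ ∈ T}
        one_mem' := ⟨N.one_mem, by simp [commutatorElement_def]⟩
        mul_mem' := fun {x y} hx hy => ⟨N.mul_mem hx.1 hy.1, by
          rw [comm_mul_left]; exact T.mul_mem (conj_mem (hTN (hNM hx.1)) hy.2) hx.2⟩
        inv_mem' := fun {x} hx => ⟨N.inv_mem hx.1, by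
          rw [show ⁅x⁻¹, t⁆ = x⁻¹ * (⁅x, t⁆)⁻¹ * x by simp only [commutatorElement_def]; group]
          exact conj_mem' (hTN (hNM hx.1)) (T.inv_mem hx.2)⟩ }
    have hgood : ∀ h ∈ N, h ∉ K → (cc (u * h)).relIndex R * p ≤ p ^ e := by
      intro h hh hK
      have hCN : cc (u * h) ⊓ M ≤ N := by
        intro x hx
        by_contra hxN
        let S := kerSub (u * h) T M hTN
        have hNS : N ≤ S := fun y hy => ⟨hNM hy, commutator_mem_commutator
          (Subgroup.mul_mem _ (mem_sup_right (mem_zpowers u)) (mem_sup_left hh)) (mem_sup_left hy)⟩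
        have hxS : x ∈ S := ⟨hx.2, by
          rw [commutatorElement_eq_one_iff_mul_comm.mpr (mem_cc.mp hx.1)]; exact T.one_mem⟩
        have htS : t ∈ S :=
          ((sup_zpowers_eq hNM hNidx hx.2 hxN).ge.trans (sup_le hNS (zpowers_le.mpr hxS))) htM
        refine hK ⟨hh, ?_⟩
        have h1 : ⁅u * h, t⁆ ∈ T := htS.2
        rw [comm_mul_left] at h1
        have h2 := T.mul_mem h1 (T.inv_mem (hAJ u hx₀A))
        rw [mul_inv_cancel_right] at h2
        have h3 := conj_mem' (hTP (hum ▸ P.mul_mem (mem_sup_right (mem_zpowers a)) (mem_sup_left hm'))) h2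
        simpa [mul_assoc] using h3
      refine Nat.le_of_mul_le_mul_left ?_ (pow_pos hp.out.pos r)
      rw [← hbe, ← mul_assoc]
      refine le_trans (Nat.mul_le_mul_right p (hcN h hh)) (le_trans (le_of_eq ?_)
        (hb (m₀ * x₀ * h) (M.mul_mem hm' (hNM hh))))
      rw [← mul_assoc, ← hum, ← inf_relIndex_right (cc (u * h)) M,
        ← relIndex_mul_relIndex _ N M hCN hNM, hNidx]
      congr 1
      rw [show cc (u * h) ⊓ M = cc (u * h) ⊓ M ⊓ N from (inf_eq_left.mpr hCN).symm,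
        inf_assoc, inf_eq_right.mpr hNM, inf_relIndex_right]
    -- sizes
    have hTD : T ≤ D := by rw [hsame]; exact hJD m₀ hm₀
    obtain ⟨j, hj⟩ : ∃ j, T.relIndex D = p ^ j := (hG.to_subgroup D).index _
    have hcardT : Nat.card D = Nat.card T * p ^ j := by
      rw [← hj, ← Nat.card_congr (Subgroup.subgroupOfEquivOfLe hTD).toEquiv]
      exact (Subgroup.card_mul_index _).symm
    have hTA : Nat.card T ≤ Nat.card A * p ^ r := by
      rw [← hr]
      exact card_le_of_cover huN (Subgroup.le_normalizer.trans le_normalizer_commutator)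
        (fun s hs _ => hs.2) fun w hw => exists_eq_of_mem huN hw
    have hjK : p ^ j ≤ K.relIndex N := by
      have h1 : Nat.card D ≤ Nat.card T * K.relIndex N := card_le_of_cover (hMN htM)
        (hNM.trans hTN) (fun s hs _ => by rw [← commutatorElement_inv]; exact T.inv_mem hs.2)
        fun w hw => by
          obtain ⟨l, hl, x, hx, e⟩ := hDform w hw
          exact ⟨l, hAJ u hl, x, hx, e⟩
      rw [hcardT] at h1
      exact Nat.le_of_mul_le_mul_left h1 Nat.card_pos
    have hjr : j ≤ r := by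
      have h1 : Nat.card D * Nat.card A ≤ Nat.card T * Nat.card T := by rw [hsame]; exact hJmax
      rw [hcardT, mul_assoc] at h1
      have h2 : p ^ j * Nat.card A ≤ Nat.card A * p ^ r :=
        (Nat.le_of_mul_le_mul_left h1 Nat.card_pos).trans hTA
      rw [mul_comm] at h2
      exact (Nat.pow_le_pow_iff_right hp.out.one_lt).1 (Nat.le_of_mul_le_mul_left h2 Nat.card_pos)
    obtain ⟨hNR, huR⟩ := le_normalizer_kerSub huN
    have hcard : Nat.card R < n := by
      rw [← hn]
      refine lt_of_le_of_lt (Subgroup.card_le_of_le kerSub_le) (lt_of_le_of_ne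
        (Subgroup.card_le_of_le hNM) fun h => htN ((Subgroup.eq_of_le_of_card_ge hNM h.ge).ge htM))
    have h1 := ih _ hcard R rfl u huR e fun h hh => hall h (kerSub_le hh)
    have h2 := chain hG u R K e r N kerSub_le hr huN hNR huR hall hgood j hjr hjK
    calc Nat.card D = Nat.card T * p ^ j := hcardT
      _ ≤ Nat.card (⁅R ⊔ zpowers u, R ⊔ zpowers u⁆ : Subgroup G) * p ^ (r * e + tri r) := h2
      _ ≤ p ^ tri e * p ^ (r * e + tri r) := Nat.mul_le_mul_right _ h1
      _ = p ^ tri b := by rw [← pow_add, tri_add, Nat.sub_add_cancel hrb]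

/-- Vaughan-Lee's theorem. -/
theorem card_commutator_le (hG : IsPGroup p G) (b : ℕ) (hb : ∀ x : G, (cc x).index ≤ p ^ b) :
    Nat.card (commutator G) ≤ p ^ tri b := by
  haveI := hG.isNilpotent
  by_cases htop : (⊤ : Subgroup G) ≤ ⊥
  · rw [show commutator G = ⊥ from le_bot_iff.mp (le_top.trans htop), Subgroup.card_bot]
    exact Nat.one_le_pow _ _ hp.out.pos
  obtain ⟨M, -, -, hidx, hMn, -⟩ := exists_invariant_index hG (R := ⊥) (M := ⊤) (P := ⊤)
    (fun g _ => by rw [normalizer_eq_top]; trivial) le_normalizer bot_le htop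
  obtain ⟨a, -, ha⟩ : ∃ a ∈ (⊤ : Subgroup G), a ∉ M := SetLike.not_le_iff_exists.mp fun h => by
    rw [relIndex_eq_one.mpr h] at hidx
    exact hp.out.one_lt.ne hidx
  have hgen : M ⊔ zpowers a = ⊤ := sup_zpowers_eq le_top hidx (Subgroup.mem_top a) ha
  have h := main hG _ M rfl a (hMn (Subgroup.mem_top a)) b fun h _ =>
    ((relIndex_le_of_le_right le_top rne).trans (Subgroup.relIndex_top_right _).le).trans (hb _)
  rwa [hgen, ← commutator_def] at h

end Breadth

end H31
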