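import Mathlib
import Cfsg.Agent.H30.IterComm

/-! Lower bounds for the factors of the derived series of a p-group. -/

set_option autoImplicit false
set_option linter.style.haveILetI false
set_option linter.unusedSectionVars false

namespace H31.DerivedBound

open Subgroup
open scoped commutatorElement

universe u

variable {G : Type u} [Group G]

/-- The lower central series. -/
abbrev gam (G : Type u) [Group G] (n : ℕ) : Subgroup G := (⊤ : Subgroup G).lowerCentralSeries n

theorem gam_succ (n : ℕ) : gam G (n + 1) = ⁅gam G n, (⊤ : Subgroup G)⁆ := Subgroup.lowerCentralSeries_succ _ n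

theorem iterTop_gamma (a : ℕ) : ∀ b, H30.iterTop (gam G a) b = gam G (a + b)
  | 0 => rfl
  | b + 1 => by
    show ⁅H30.iterTop (gam G a) b, (⊤ : Subgroup G)⁆ = _
    rw [iterTop_gamma a b, ← add_assoc, gam_succ]

theorem gamma_comm (a b : ℕ) : ⁅gam G a, gam G b⁆ ≤ gam G (a + b + 1) :=
  ((H30.commutator_lowerCentralSeries_le b _ inferInstance).trans_eq (iterTop_gamma a (b + 1))).trans_eq
    (by rw [add_assoc])

theorem iterTop_mono {X Y : Subgroup G} (h : X ≤ Y) : ∀ k, H30.iterTop X k ≤ H30.iterTop Y k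
  | 0 => h
  | k + 1 => commutator_mono (iterTop_mono h k) le_rfl

/-- If `N` is cyclic modulo `S` then `N' ≤ [N,S]`. -/
theorem commutator_le_of_cyclic_mod {N S : Subgroup G} [N.Normal] [S.Normal] (x : G) (hx : x ∈ N) (hSN : S ≤ N)
    (h : N ≤ zpowers x ⊔ S) : ⁅N, N⁆ ≤ ⁅N, S⁆ := by
  set π := QuotientGroup.mk' ⁅N, S⁆
  have hS : ∀ s ∈ S, ∀ n ∈ N, Commute (π n) (π s) := fun s hs n hn => by
    rw [← commutatorElement_eq_one_iff_commute, ← map_commutatorElement]
    exact (QuotientGroup.eq_one_iff _).mpr (commutator_mem_commutator hn hs)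
  have hgen : ∀ a ∈ N, ∀ b ∈ N, Commute (π a) (π b) := by
    have key : N ≤ (centralizer ((N.map π : Subgroup (G ⧸ ⁅N, S⁆)) : Set (G ⧸ ⁅N, S⁆))).comap π := by
      refine h.trans (sup_le (zpowers_le.mpr ?_) fun s hs => ?_)
      · rw [mem_comap, mem_centralizer_iff]
        rintro _ ⟨n, hn, rfl⟩
        have h1 : n ∈ (centralizer ({π x} : Set _)).comap π := by
          refine (h.trans (sup_le (zpowers_le.mpr ?_) fun s hs => ?_)) hn
          · rw [mem_comap, mem_centralizer_singleton_iff]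
          · rw [mem_comap, mem_centralizer_singleton_iff]; exact (hS s hs x hx).eq.symm
        exact (mem_centralizer_singleton_iff.mp h1)
      · rw [mem_comap, mem_centralizer_iff]
        rintro _ ⟨n, hn, rfl⟩
        exact (hS s hs n hn).eq
    intro a ha b hb
    exact (mem_centralizer_iff.mp (key ha) (π b) ⟨b, hb, rfl⟩).symm
  rw [commutator_le]
  intro a ha b hb
  rw [← QuotientGroup.eq_one_iff]
  show π ⁅a, b⁆ = 1
  rw [map_commutatorElement]
  exact commutatorElement_eq_one_iff_commute.mpr (hgen a ha b hb)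

variable [Finite G] {p : ℕ} [hp : Fact p.Prime]

theorem exists_relIndex_pow (hG : IsPGroup p G) (A B : Subgroup G) : ∃ k, A.relIndex B = p ^ k :=
  (hG.to_subgroup B).index _

theorem relIndex_two_le (hG : IsPGroup p G) {A B : Subgroup G} (h : A < B) : p ≤ A.relIndex B := by
  obtain ⟨k, hk⟩ := exists_relIndex_pow hG A B
  rcases Nat.eq_zero_or_pos k with rfl | hk0
  · rw [pow_zero, relIndex_eq_one] at hk
    exact absurd hk h.not_ge
  · rw [hk]; exact Nat.le_self_pow hk0.ne' p

/-- Exact bound through the iterated commutator. -/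
theorem iterTop_le_of_relIndex (hG : IsPGroup p G) {S R : Subgroup G} [S.Normal] [R.Normal] {k : ℕ}
    (h : R.relIndex S ≤ p ^ k) : H30.iterTop S k ≤ R := by
  set π := QuotientGroup.mk' R
  have h1 : H30.iterTop (S.map π) k = ⊥ :=
    H30.iterTop_eq_bot (hG.to_quotient R) k _ ((inferInstance : S.Normal).map _ (QuotientGroup.mk'_surjective R))
      (by rw [← relIndex_ker, QuotientGroup.ker_mk']; exact h)
  rw [← H30.map_iterTop π (QuotientGroup.mk'_surjective R), Subgroup.map_eq_bot_iff, QuotientGroup.ker_mk'] at h1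
  exact h1

theorem not_le_of_small (hG : IsPGroup p G) {D S : Subgroup G} [D.Normal] [S.Normal] (hD : D ≠ ⊥) {k : ℕ}
    (h : D.relIndex S ≤ p ^ k) : ¬ D ≤ H30.iterTop S (k + 1) := fun hle =>
  (H30.commutator_top_lt hG inferInstance hD).not_ge
    (hle.trans (commutator_mono (iterTop_le_of_relIndex hG h) le_rfl))

/-- The key estimate. -/
theorem factor_bounds (hG : IsPGroup p G) {N : Subgroup G} [N.Normal] {s : ℕ} (hN : N ≤ gam G s) (hne : ⁅N, N⁆ ≠ ⊥) :
    p ^ (s + 2) ≤ ⁅N, N⁆.relIndex N ∧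
      ∀ e, p ^ e ≤ (N ⊓ gam G (s + 1)).relIndex N → p ^ (e + s) ≤ ⁅N, N⁆.relIndex N := by
  set S := ⁅N, (⊤ : Subgroup G)⁆ with hS
  have hSN : S ≤ N := commutator_le_left N ⊤
  have hN' : ⁅N, N⁆ ≤ S := commutator_mono le_rfl le_top
  have hne' : N ≠ ⊥ := fun h => hne (by rw [h, commutator_bot_left])
  have h1 : p ^ s ≤ ⁅N, N⁆.relIndex S := by
    rcases s with _ | t
    · exact Nat.one_le_iff_ne_zero.mpr index_ne_zero_of_finite |>.trans' (by simp)
    by_contra hlt
    obtain ⟨k, hk⟩ := exists_relIndex_pow hG ⁅N, N⁆ S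
    rw [hk, not_le, Nat.pow_lt_pow_iff_right hp.out.one_lt] at hlt
    refine not_le_of_small hG hne (S := S) (k := t) (by rw [hk]; exact Nat.pow_le_pow_right hp.out.pos (by omega)) ?_
    calc ⁅N, N⁆ ≤ ⁅N, gam G (t + 1)⁆ := commutator_mono le_rfl hN
      _ ≤ H30.iterTop N (t + 1 + 1) := H30.commutator_lowerCentralSeries_le _ _ inferInstance
      _ = H30.iterTop S (t + 1) := (H30.iterTop_succ' N (t + 1)).symm
  have hmul : ∀ T : Subgroup G, ⁅N, N⁆ ≤ T → T ≤ N → ⁅N, N⁆.relIndex N = ⁅N, N⁆.relIndex T * T.relIndex N :=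
    fun T a b => (relIndex_mul_relIndex _ _ _ a b).symm
  refine ⟨?_, fun e he => ?_⟩
  · have hlt := H30.commutator_top_lt hG (inferInstance : N.Normal) hne'
    obtain ⟨j, hj⟩ := exists_relIndex_pow hG S N
    have hj1 : 1 ≤ j := by
      have := relIndex_two_le hG hlt
      rw [hj] at this
      by_contra h
      rw [show j = 0 by omega, pow_zero] at this
      exact absurd this (not_le.mpr hp.out.one_lt)
    rw [hmul S hN' hSN, hj]
    rcases Nat.lt_or_ge 1 j with hj2 | hj2
    · calc p ^ (s + 2) = p ^ s * p ^ 2 := pow_add _ _ _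
        _ ≤ _ := Nat.mul_le_mul h1 (Nat.pow_le_pow_right hp.out.pos hj2)
    · -- `N` is cyclic modulo `S`
      obtain ⟨x, hx, hxS⟩ := SetLike.exists_of_lt hlt
      have hcyc : N ≤ zpowers x ⊔ S := by
        have hlt2 : S < zpowers x ⊔ S := lt_of_le_of_ne le_sup_right fun h =>
          hxS (h.ge ((le_sup_left : zpowers x ≤ zpowers x ⊔ S) (mem_zpowers x)))
        have hle2 : zpowers x ⊔ S ≤ N := sup_le (zpowers_le.mpr hx) hSN
        have := relIndex_two_le hG hlt2
        have hm := relIndex_mul_relIndex S (zpowers x ⊔ S) N le_sup_right hle2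
        rw [hj, show j = 1 by omega, pow_one] at hm
        rw [← relIndex_eq_one]
        have hpos : 0 < (zpowers x ⊔ S).relIndex N := Nat.pos_of_ne_zero index_ne_zero_of_finite
        nlinarith [hp.out.pos]
      have h2 : p ^ (s + 1) ≤ ⁅N, N⁆.relIndex S := by
        by_contra hlt'
        obtain ⟨k, hk⟩ := exists_relIndex_pow hG ⁅N, N⁆ S
        rw [hk, not_le, Nat.pow_lt_pow_iff_right hp.out.one_lt] at hlt'
        refine not_le_of_small hG hne (S := S) (k := s) (by rw [hk]; exact Nat.pow_le_pow_right hp.out.pos (by omega)) ?_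
        calc ⁅N, N⁆ ≤ ⁅N, S⁆ := commutator_le_of_cyclic_mod x hx hSN hcyc
          _ = ⁅S, N⁆ := commutator_comm _ _
          _ ≤ ⁅S, gam G s⁆ := commutator_mono le_rfl hN
          _ ≤ H30.iterTop S (s + 1) := H30.commutator_lowerCentralSeries_le _ _ inferInstance
      calc p ^ (s + 2) = p ^ (s + 1) * p ^ 1 := by rw [← pow_add]
        _ ≤ _ := Nat.mul_le_mul h2 (Nat.pow_le_pow_right hp.out.pos hj1)
  · have hSK : S ≤ N ⊓ gam G (s + 1) := le_inf hSN (by
      rw [gam_succ]; exact commutator_mono hN le_rfl)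
    rw [hmul _ (hN'.trans hSK) inf_le_left]
    calc p ^ (e + s) = p ^ s * p ^ e := by rw [← pow_add, add_comm]
      _ ≤ _ := Nat.mul_le_mul (h1.trans (Nat.le_of_dvd (Nat.pos_of_ne_zero index_ne_zero_of_finite)
          ⟨_, (relIndex_mul_relIndex _ _ _ hN' hSK).symm⟩)) he

/-- A layer of order at most `p²` gives a cyclic next layer. -/
theorem next_layer_cyclic (hG : IsPGroup p G) {N : Subgroup G} [N.Normal] {s : ℕ} (hN : N ≤ gam G s)
    (h : (N ⊓ gam G (s + 1)).relIndex N ≤ p ^ 2) :
    ∃ c ∈ ⁅N, N⁆, ⁅N, N⁆ ≤ zpowers c ⊔ (⁅N, N⁆ ⊓ gam G (2 * s + 2)) := by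
  set K := N ⊓ gam G (s + 1) with hK
  have hKN : K ≤ N := inf_le_left
  obtain ⟨x, hx, y, hy, hgen⟩ : ∃ x ∈ N, ∃ y ∈ N, N ≤ Subgroup.closure {x, y} ⊔ K := by
    by_cases h0 : N ≤ K
    · exact ⟨1, one_mem _, 1, one_mem _, h0.trans le_sup_right⟩
    obtain ⟨x, hx, hxK⟩ := SetLike.not_le_iff_exists.mp h0
    by_cases h1 : N ≤ Subgroup.closure {x} ⊔ K
    · exact ⟨x, hx, x, hx, by rwa [Set.pair_eq_singleton]⟩
    obtain ⟨y, hy, hyK⟩ := SetLike.not_le_iff_exists.mp h1
    refine ⟨x, hx, y, hy, ?_⟩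
    set A := Subgroup.closure {x} ⊔ K
    set B := Subgroup.closure {x, y} ⊔ K
    have hAB : A < B := lt_of_le_of_ne (sup_le_sup_right (Subgroup.closure_mono (by simp)) _) fun e =>
      hyK (e.symm ▸ (le_sup_left : Subgroup.closure {x, y} ≤ B) (subset_closure (by simp)))
    have hKA : K < A := lt_of_le_of_ne le_sup_right fun e =>
      hxK (e.symm ▸ (le_sup_left : Subgroup.closure {x} ≤ A) (subset_closure (by simp)))
    have hBN : B ≤ N := sup_le ((Subgroup.closure_le _).mpr (by
      rintro z (rfl | rfl)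
      · exact hx
      · exact hy)) hKN
    rw [← relIndex_eq_one]
    have m1 := relIndex_mul_relIndex K A N hKA.le (hAB.le.trans hBN)
    have m2 := relIndex_mul_relIndex A B N hAB.le hBN
    have p1 := relIndex_two_le hG hKA
    have p2 := relIndex_two_le hG hAB
    have hpos : 0 < B.relIndex N := Nat.pos_of_ne_zero index_ne_zero_of_finite
    have h2 : p * p * B.relIndex N ≤ p ^ 2 :=
      calc p * p * B.relIndex N = p * (p * B.relIndex N) := mul_assoc _ _ _
        _ ≤ K.relIndex A * (A.relIndex B * B.relIndex N) := Nat.mul_le_mul p1 (Nat.mul_le_mul_right _ p2)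
        _ = K.relIndex N := by rw [m2, m1]
        _ ≤ p ^ 2 := h
    rw [pow_two] at h2
    have := Nat.le_of_mul_le_mul_left (show p * p * B.relIndex N ≤ p * p * 1 by rw [mul_one]; exact h2)
      (Nat.mul_pos hp.out.pos hp.out.pos)
    omega
  set c := ⁅x, y⁆ with hc
  have hcN : c ∈ ⁅N, N⁆ := commutator_mem_commutator hx hy
  refine ⟨c, hcN, ?_⟩
  set R := ⁅N, N⁆ ⊓ gam G (2 * s + 2) with hR
  set W := zpowers c ⊔ R with hW
  have hRW : R ≤ W := le_sup_right
  haveI : W.Normal := by
    refine normalizer_eq_top_iff.mp (eq_top_iff.mpr fun g _ => ?_)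
    have key : ∀ g : G, W.map (MulAut.conj g).toMonoidHom ≤ W := by
      intro g
      rw [hW, Subgroup.map_sup, MonoidHom.map_zpowers]
      refine sup_le (zpowers_le.mpr ?_) ?_
      · show g * c * g⁻¹ ∈ W
        rw [show g * c * g⁻¹ = ⁅g, c⁆ * c by rw [commutatorElement_def]; group]
        refine mul_mem (hRW ⟨?_, ?_⟩) ((le_sup_left : zpowers c ≤ W) (mem_zpowers c))
        · exact (commutator_le_right (⊤ : Subgroup G) ⁅N, N⁆) (commutator_mem_commutator (mem_top g) hcN)
        · have hc2 : c ∈ gam G (2 * s + 1) := by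
            have := (gamma_comm (G := G) s s) (commutator_mem_commutator (hN hx) (hN hy))
            rwa [show 2 * s + 1 = s + s + 1 by ring]
          show ⁅g, c⁆ ∈ gam G (2 * s + 1 + 1)
          rw [gam_succ, commutator_comm]
          exact commutator_mem_commutator (mem_top g) hc2
      · rintro _ ⟨r, hr, rfl⟩
        exact hRW ((inferInstance : R.Normal).conj_mem r hr g)
    rw [mem_normalizer_iff]
    intro w
    exact ⟨fun hw => key g ⟨w, hw, rfl⟩, fun hw => by
      have := key g⁻¹ ⟨_, hw, rfl⟩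
      simpa [mul_assoc] using this⟩
  set π := QuotientGroup.mk' W
  have hxy : Commute (π x) (π y) := by
    rw [← commutatorElement_eq_one_iff_commute, ← map_commutatorElement]
    exact (QuotientGroup.eq_one_iff _).mpr ((le_sup_left : zpowers c ≤ W) (mem_zpowers c))
  have hk : ∀ n ∈ N, ∀ k ∈ K, Commute (π n) (π k) := fun n hn k hk => by
    rw [← commutatorElement_eq_one_iff_commute, ← map_commutatorElement]
    refine (QuotientGroup.eq_one_iff _).mpr (hRW ⟨commutator_mem_commutator hn hk.1, ?_⟩)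
    have := (gamma_comm (G := G) s (s + 1)) (commutator_mem_commutator (hN hn) hk.2)
    rwa [show 2 * s + 2 = s + (s + 1) + 1 by ring]
  have hcent : ∀ v ∈ ({x, y} : Set G) ∪ K, N ≤ (centralizer ({π v} : Set _)).comap π := by
    intro v hv
    refine hgen.trans (sup_le ((Subgroup.closure_le _).mpr ?_) fun k hk' => ?_)
    · intro w hw
      rw [SetLike.mem_coe, mem_comap, mem_centralizer_singleton_iff]
      have hwN : w ∈ N := by rcases hw with rfl | rfl <;> assumption
      rcases hv with hv | hv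
      · rcases hv with rfl | rfl <;> rcases hw with rfl | rfl
        · rfl
        · exact hxy.eq.symm
        · exact hxy.eq
        · rfl
      · exact (hk w hwN v hv).eq
    · rw [mem_comap, mem_centralizer_singleton_iff]
      have hvN : v ∈ N := by
        rcases hv with hv | hv
        · rcases hv with rfl | rfl <;> assumption
        · exact hKN hv
      exact (hk v hvN k hk').eq.symm
  rw [commutator_le]
  intro a ha b hb
  rw [← QuotientGroup.eq_one_iff]
  show π ⁅a, b⁆ = 1
  rw [map_commutatorElement]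
  refine commutatorElement_eq_one_iff_commute.mpr ?_
  have h1 : N ≤ (centralizer ({π a} : Set _)).comap π := by
    refine hgen.trans (sup_le ((Subgroup.closure_le _).mpr fun w hw => ?_) fun k hk' => ?_)
    · exact mem_centralizer_singleton_iff.mpr (mem_centralizer_singleton_iff.mp (hcent w (Or.inl hw) ha)).symm
    · exact mem_centralizer_singleton_iff.mpr (mem_centralizer_singleton_iff.mp (hcent k (Or.inr hk') ha)).symm
  exact (mem_centralizer_singleton_iff.mp (h1 hb)).symm

/-- The derived length bound. -/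
theorem derived_bound (hG : IsPGroup p G) : ∀ m : ℕ, derivedSeries G m ≠ ⊥ →
    (derivedSeries G m ≤ gam G (2 ^ m - 1) ∧ p ^ (2 ^ m + 2 * m) ≤ (derivedSeries G m).index * p) ∨
    (derivedSeries G m ≤ gam G (2 ^ m - 1) ∧ p ^ (2 ^ m + 2 * m) ≤ (derivedSeries G m).index * p ^ 2 ∧
      ∃ c ∈ derivedSeries G m, derivedSeries G m ≤ zpowers c ⊔ (derivedSeries G m ⊓ gam G (2 ^ m))) ∨
    (derivedSeries G m ≤ gam G (2 ^ m) ∧ p ^ (2 ^ m + 2 * m) ≤ (derivedSeries G m).index * p ^ 3) := by
  intro m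
  induction m with
  | zero => intro _; left; simp
  | succ m ih =>
    intro hne
    set D := derivedSeries G m with hD
    haveI : D.Normal := derivedSeries_normal G m
    rw [derivedSeries_succ] at hne ⊢
    have hDne : D ≠ ⊥ := fun h => hne (by rw [← hD, h, commutator_bot_left])
    rw [← hD] at hne ⊢
    have hidx : ⁅D, D⁆.index = ⁅D, D⁆.relIndex D * D.index := (relIndex_mul_index (commutator_le_left D D)).symm
    obtain ⟨t, ht⟩ : ∃ t, 2 ^ m = t + 1 := ⟨2 ^ m - 1, (Nat.sub_add_cancel Nat.one_le_two_pow).symm⟩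
    have hts : 2 ^ (m + 1) = 2 * t + 2 := by rw [pow_succ, ht]; ring
    have hpp := hp.out.pos
    rw [show (2 : ℕ) ^ (m + 1) - 1 = 2 * t + 1 by omega, hts, hidx]
    rw [show (2 : ℕ) ^ m - 1 = t by omega, ht] at ih
    have hcomm : ∀ a b : ℕ, D ≤ gam G a → D ≤ gam G b → ⁅D, D⁆ ≤ gam G (a + b + 1) := fun a b ha hb =>
      (commutator_mono ha hb).trans (gamma_comm a b)
    rcases ih hDne with ⟨hle, hb⟩ | ⟨hle, hb, c, hc, hcyc⟩ | ⟨hle, hb⟩
    · obtain ⟨hA, hB⟩ := factor_bounds hG hle hne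
      have hle' : ⁅D, D⁆ ≤ gam G (2 * t + 1) := (hcomm t t hle hle).trans_eq (by rw [two_mul])
      rcases Nat.lt_or_ge (p ^ 2) ((D ⊓ gam G (t + 1)).relIndex D) with h3 | h3
      · left
        obtain ⟨e, he⟩ := exists_relIndex_pow hG (D ⊓ gam G (t + 1)) D
        rw [he, Nat.pow_lt_pow_iff_right hp.out.one_lt] at h3
        have h4 := hB 3 (by rw [he]; exact Nat.pow_le_pow_right hpp h3)
        refine ⟨hle', ?_⟩
        calc p ^ (2 * t + 2 + 2 * (m + 1)) = p ^ (3 + t) * p ^ (t + 1 + 2 * m) := by rw [← pow_add]; ring_nf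
          _ ≤ ⁅D, D⁆.relIndex D * (D.index * p) := Nat.mul_le_mul h4 hb
          _ = _ := by ring
      · right; left
        refine ⟨hle', ?_, next_layer_cyclic hG hle h3⟩
        calc p ^ (2 * t + 2 + 2 * (m + 1)) = p ^ (t + 2) * p ^ (t + 1 + 2 * m) * p := by rw [← pow_add, ← pow_succ]; ring_nf
          _ ≤ ⁅D, D⁆.relIndex D * (D.index * p) * p := Nat.mul_le_mul_right _ (Nat.mul_le_mul hA hb)
          _ = _ := by ring
    · obtain ⟨hA, -⟩ := factor_bounds hG hle hne
      right; right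
      refine ⟨?_, ?_⟩
      · calc ⁅D, D⁆ ≤ ⁅D, D ⊓ gam G (t + 1)⁆ := commutator_le_of_cyclic_mod c hc inf_le_left hcyc
          _ ≤ ⁅gam G t, gam G (t + 1)⁆ := commutator_mono hle inf_le_right
          _ ≤ gam G (t + (t + 1) + 1) := gamma_comm t (t + 1)
          _ = gam G (2 * t + 2) := by ring_nf
      · calc p ^ (2 * t + 2 + 2 * (m + 1)) = p ^ (t + 2) * p ^ (t + 1 + 2 * m) * p := by rw [← pow_add, ← pow_succ]; ring_nf
          _ ≤ ⁅D, D⁆.relIndex D * (D.index * p ^ 2) * p := Nat.mul_le_mul_right _ (Nat.mul_le_mul hA hb)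
          _ = _ := by ring
    · obtain ⟨hA, -⟩ := factor_bounds hG hle hne
      right; right
      refine ⟨(hcomm (t + 1) (t + 1) hle hle).trans (Subgroup.lowerCentralSeries_antitone _ (by omega)), ?_⟩
      calc p ^ (2 * t + 2 + 2 * (m + 1)) = p ^ (t + 1 + 2) * p ^ (t + 1 + 2 * m) := by rw [← pow_add]; ring_nf
        _ ≤ ⁅D, D⁆.relIndex D * (D.index * p ^ 3) := Nat.mul_le_mul hA hb
        _ = _ := by ring

end H31.DerivedBound
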