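import Mathlib
import Cfsg.Prelude.Def_Transfer
import Cfsg.Agent.H6.Basic

/-! Elementary groups of order eight of automorphisms of p-groups, p odd. -/

set_option autoImplicit false
set_option linter.style.haveILetI false
set_option linter.unusedSectionVars false

namespace H31.EightAuto

universe u

variable {P : Type u} [Group P] [Finite P]

/-- `T` is broad when its fixed points are not a cyclic subgroup. -/
def Broad (T : MulAut P) : Prop := ¬ ∃ g : P, ∀ x : P, (T x = x ↔ x ∈ Subgroup.zpowers g)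

theorem sq_fix {T : MulAut P} (hT : T * T = 1) (x : P) : T (T x) = x := by
  rw [← MulAut.mul_apply, hT]; rfl

/-- Square roots in odd `p`-groups. -/
theorem exists_root {p : ℕ} (hp2 : p ≠ 2) (hp : p.Prime) (hP : IsPGroup p P) (y : P) :
    ∃ k : ℕ, (y ^ k) * (y ^ k) = y := by
  haveI := Fact.mk hp
  obtain ⟨m, hm⟩ := hP y
  obtain ⟨r, hr⟩ : Odd (p ^ m) := (hp.odd_of_ne_two hp2).pow
  refine ⟨r + 1, ?_⟩
  rw [← pow_add, show r + 1 + (r + 1) = p ^ m + 1 by omega, pow_succ, hm, one_mul]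

theorem eq_one_of_sq {p : ℕ} (hp2 : p ≠ 2) (hp : p.Prime) (hP : IsPGroup p P) {y : P} (h : y * y = 1) : y = 1 := by
  obtain ⟨m, hm⟩ := hP y
  obtain ⟨r, hr⟩ : Odd (p ^ m) := (hp.odd_of_ne_two hp2).pow
  rw [hr, pow_succ, pow_mul, pow_two, h, one_pow, one_mul] at hm
  exact hm

/-- Splitting of an element by an involutory automorphism. -/
theorem split {p : ℕ} (hp2 : p ≠ 2) (hp : p.Prime) (hP : IsPGroup p P) {T : MulAut P} (hT : T * T = 1) (x : P) :
    ∃ k : ℕ, T (x * (x⁻¹ * T x) ^ k) = x * (x⁻¹ * T x) ^ k := by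
  obtain ⟨k, hk⟩ := exists_root hp2 hp hP (x⁻¹ * T x)
  refine ⟨k, ?_⟩
  set y := x⁻¹ * T x with hy
  have hTy : T y = y⁻¹ := by rw [hy, map_mul, map_inv, sq_fix hT, mul_inv_rev, inv_inv]
  rw [map_mul, map_pow, hTy, inv_pow, show T x = x * y by rw [hy, mul_inv_cancel_left]]
  rw [mul_assoc]
  congr 1
  calc y * (y ^ k)⁻¹ = (y ^ k * y ^ k) * (y ^ k)⁻¹ := by rw [hk]
    _ = y ^ k := mul_inv_cancel_right _ _

theorem inverts {p : ℕ} (hp2 : p ≠ 2) (hp : p.Prime) (hP : IsPGroup p P) {T : MulAut P} (hT : T * T = 1)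
    (hf : ∀ x, T x = x → x = 1) (x : P) : T x = x⁻¹ := by
  obtain ⟨k, hk⟩ := split hp2 hp hP hT x
  have h := hf _ hk
  have hx : x = ((x⁻¹ * T x) ^ k)⁻¹ := eq_inv_of_mul_eq_one_left h
  set y := x⁻¹ * T x with hy
  have hTy : T y = y⁻¹ := by rw [hy, map_mul, map_inv, sq_fix hT, mul_inv_rev, inv_inv]
  rw [hx, map_inv, map_pow, hTy, inv_pow]

variable {p : ℕ} [hp : Fact p.Prime]

local notation "V" => P ⧸ frattini P

/-- The action on the Frattini quotient. -/
noncomputable def bar (T : MulAut P) : (P ⧸ frattini P) →* (P ⧸ frattini P) :=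
  QuotientGroup.map (frattini P) (frattini P) T.toMonoidHom (fun x hx => by
    have h : (frattini P).comap T.toMonoidHom = frattini P :=
      Subgroup.Characteristic.fixed (H := frattini P) inferInstance T
    show x ∈ (frattini P).comap T.toMonoidHom
    rw [h]; exact hx)

theorem bar_mk (T : MulAut P) (x : P) : bar T (x : P ⧸ frattini P) = ((T x : P) : P ⧸ frattini P) := rfl

theorem bar_mul (S T : MulAut P) (v : P ⧸ frattini P) : bar (S * T) v = bar S (bar T v) := by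
  obtain ⟨x, rfl⟩ := QuotientGroup.mk_surjective v
  rfl

theorem vcomm (hP : IsPGroup p P) (v w : P ⧸ frattini P) : v * w = w * v := by
  obtain ⟨x, rfl⟩ := QuotientGroup.mk_surjective v
  obtain ⟨y, rfl⟩ := QuotientGroup.mk_surjective w
  rw [← QuotientGroup.mk_mul, ← QuotientGroup.mk_mul, QuotientGroup.eq]
  have h := H6.commutator_le_frattini hP (Subgroup.commutator_mem_commutator (Subgroup.mem_top y⁻¹) (Subgroup.mem_top x⁻¹))
  rw [commutatorElement_def, inv_inv, inv_inv] at h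
  simpa [mul_assoc] using h

theorem vpow (hP : IsPGroup p P) (v : P ⧸ frattini P) : v ^ p = 1 := by
  obtain ⟨x, rfl⟩ := QuotientGroup.mk_surjective v
  exact (QuotientGroup.eq_one_iff _).mpr (H6.pow_prime_mem_frattini hP x)

theorem fixed_lift (hp2 : p ≠ 2) (hP : IsPGroup p P) {T : MulAut P} (hT : T * T = 1) {v : P ⧸ frattini P}
    (hv : bar T v = v) : ∃ c : P, T c = c ∧ (c : P ⧸ frattini P) = v := by
  obtain ⟨x, rfl⟩ := QuotientGroup.mk_surjective v
  obtain ⟨k, hk⟩ := split hp2 hp.out hP hT x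
  refine ⟨_, hk, ?_⟩
  rw [QuotientGroup.mk_mul, QuotientGroup.mk_pow, QuotientGroup.mk_mul, QuotientGroup.mk_inv, ← bar_mk T x, hv,
    inv_mul_cancel, one_pow, mul_one]

theorem faithful (hp2 : p ≠ 2) (hP : IsPGroup p P) {T : MulAut P} (hT : T * T = 1)
    (h : ∀ v : P ⧸ frattini P, bar T v = v) : T = 1 := by
  let C : Subgroup P :=
    { carrier := {x | T x = x}
      one_mem' := map_one _
      mul_mem' := fun {x y} hx hy => by show T (x * y) = x * y; rw [map_mul]; exact congrArg₂ (· * ·) hx hy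
      inv_mem' := fun {x} hx => by show T x⁻¹ = x⁻¹; rw [map_inv]; exact congrArg Inv.inv hx }
  have hC : C ⊔ frattini P = ⊤ := by
    rw [eq_top_iff]
    intro x _
    obtain ⟨c, hc, hcx⟩ := fixed_lift hp2 hP hT (h x)
    have h1 : c⁻¹ * x ∈ frattini P := QuotientGroup.eq.mp hcx
    rw [← mul_inv_cancel_left c x]
    exact mul_mem ((le_sup_left : C ≤ _) hc) ((le_sup_right : frattini P ≤ _) h1)
  have := frattini_nongenerating hC
  exact MulEquiv.ext fun x => (this ▸ Subgroup.mem_top x : x ∈ C)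

/-- Fixed vectors of a non-broad involution lie on one line. -/
theorem line_of_not_broad (hp2 : p ≠ 2) (hP : IsPGroup p P) {T : MulAut P} (hT : T * T = 1) (h : ¬ Broad T) :
    ∃ l : P ⧸ frattini P, bar T l = l ∧ ∀ v, bar T v = v → v ∈ Subgroup.zpowers l := by
  obtain ⟨g, hg⟩ := not_not.mp h
  refine ⟨(g : P ⧸ frattini P), by rw [bar_mk, (hg g).mpr (Subgroup.mem_zpowers g)], fun v hv => ?_⟩
  obtain ⟨c, hc, rfl⟩ := fixed_lift hp2 hP hT hv
  obtain ⟨i, rfl⟩ := Subgroup.mem_zpowers_iff.mp ((hg c).mp hc)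
  exact ⟨i, (QuotientGroup.mk_zpow _ g i).symm⟩

theorem fin3 (i : Fin 3) : i = 0 ∨ i = 1 ∨ i = 2 := by
  fin_cases i <;> simp

theorem exists_four_group {H : Type*} [Group H] (I : Subgroup H) (hI : Cfsg.IsElementaryAbelian 2 I)
    (hI8 : Nat.card I = 8) (B : Set H) (I₀ : Subgroup H) (hI₀ : I₀ < I)
    (hdisj : ∀ T ∈ I₀, T ≠ 1 → T ∉ B) (hprod : ∀ T ∈ I, ∀ S ∈ I, T ≠ 1 → S ≠ 1 → T ∈ B → S ∈ B → T * S ∈ I₀) :
    ∃ a b, a ∈ I ∧ b ∈ I ∧ a ≠ 1 ∧ b ≠ 1 ∧ a ≠ b ∧ a ∉ B ∧ b ∉ B ∧ a * b ∉ B := by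
  classical
  haveI : Finite I := Nat.finite_of_card_ne_zero (by rw [hI8]; norm_num)
  haveI : Fintype I := Fintype.ofFinite I
  have hc : ∀ x ∈ I, ∀ y ∈ I, x * y = y * x := fun x hx y hy =>
    congrArg Subtype.val (hI.1.is_comm.comm ⟨x, hx⟩ ⟨y, hy⟩)
  have hsq : ∀ x ∈ I, x * x = 1 := fun x hx => by rw [← pow_two]; exact hI.2 x hx
  have avoid : ∀ s : Finset I, s.card < 8 → ∃ x : I, x ∉ s := fun s hs => by
    by_contra h
    push Not at h
    have : (Finset.univ : Finset I).card ≤ s.card := Finset.card_le_card (fun x _ => h x)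
    rw [Finset.card_univ, ← Nat.card_eq_fintype_card, hI8] at this
    omega
  by_cases hbig : ∃ a b, a ∈ I₀ ∧ b ∈ I₀ ∧ a ≠ 1 ∧ b ≠ 1 ∧ a ≠ b
  · obtain ⟨a, b, ha, hb, ha1, hb1, hab⟩ := hbig
    refine ⟨a, b, hI₀.le ha, hI₀.le hb, ha1, hb1, hab, hdisj a ha ha1, hdisj b hb hb1,
      hdisj _ (mul_mem ha hb) fun h => hab ?_⟩
    rw [eq_inv_of_mul_eq_one_left h, inv_eq_of_mul_eq_one_right (hsq b (hI₀.le hb))]
  push Not at hbig
  -- choose `s` with all products of broad elements in `⟨s⟩`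
  obtain ⟨s, hsI, hs1, hs⟩ : ∃ s, s ∈ I ∧ s ≠ 1 ∧ ∀ x ∈ I₀, x = 1 ∨ x = s := by
    by_cases h : ∃ s ∈ I₀, s ≠ 1
    · obtain ⟨s, hs, hs1⟩ := h
      exact ⟨s, hI₀.le hs, hs1, fun x hx => or_iff_not_imp_left.mpr fun hx1 => hbig x s hx hs hx1 hs1⟩
    · push Not at h
      obtain ⟨s, hs⟩ := avoid {1} (by simp)
      exact ⟨s, s.2, fun h' => hs (by simp; exact Subtype.ext h'), fun x hx => Or.inl (h x hx)⟩
  -- `s` may be changed if it is broad
  obtain ⟨t, htI, ht1, hts, hB⟩ : ∃ t, t ∈ I ∧ t ≠ 1 ∧ t ≠ s ∧ ∀ x ∈ I, x ≠ 1 → x ∈ B → x ≠ s → x = t ∨ x = t * s := by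
    by_cases h : ∃ t, t ∈ I ∧ t ≠ 1 ∧ t ∈ B ∧ t ≠ s
    · obtain ⟨t, htI, ht1, htB, hts⟩ := h
      refine ⟨t, htI, ht1, hts, fun x hx hx1 hxB _ => ?_⟩
      rcases hs _ (hprod t htI x hx ht1 hx1 htB hxB) with h' | h'
      · left; rw [eq_inv_of_mul_eq_one_right h', inv_eq_of_mul_eq_one_right (hsq t htI)]
      · right; rw [← h', ← mul_assoc, hsq t htI, one_mul]
    · push Not at h
      obtain ⟨t, ht⟩ := avoid {1, ⟨s, hsI⟩} ((Finset.card_insert_le _ _).trans_lt (by simp))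
      simp only [Finset.mem_insert, Finset.mem_singleton, not_or] at ht
      exact ⟨t, t.2, fun h' => ht.1 (Subtype.ext h'), fun h' => ht.2 (Subtype.ext h'),
        fun x hx hx1 hxB hxs => absurd (h x hx hx1 hxB) hxs⟩
  obtain ⟨r, hr⟩ := avoid {1, ⟨s, hsI⟩, ⟨t, htI⟩, ⟨t, htI⟩ * ⟨s, hsI⟩} (by
    refine lt_of_le_of_lt ((Finset.card_insert_le _ _).trans (Nat.succ_le_succ ((Finset.card_insert_le _ _).trans
      (Nat.succ_le_succ ((Finset.card_insert_le _ _).trans (Nat.succ_le_succ (Finset.card_singleton _).le)))))) (by norm_num))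
  simp only [Finset.mem_insert, Finset.mem_singleton, not_or] at hr
  obtain ⟨⟨r, hrI⟩, hr1, hr2, hr3, hr4⟩ := (⟨r, hr.1, hr.2.1, hr.2.2.1, hr.2.2.2⟩ :
    ∃ r : I, r ≠ 1 ∧ r ≠ ⟨s, hsI⟩ ∧ r ≠ ⟨t, htI⟩ ∧ r ≠ ⟨t, htI⟩ * ⟨s, hsI⟩)
  have r1 : r ≠ 1 := fun h => hr1 (Subtype.ext h)
  have r2 : r ≠ s := fun h => hr2 (Subtype.ext h)
  have r3 : r ≠ t := fun h => hr3 (Subtype.ext h)
  have r4 : r ≠ t * s := fun h => hr4 (Subtype.ext h)
  by_cases hsB : s ∈ B
  · -- every product of `s` with a broad element must lie in `⟨s⟩`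
    have honly : ∀ x ∈ I, x ≠ 1 → x ∈ B → x = s := by
      intro x hx hx1 hxB
      rcases hs _ (hprod s hsI x hx hs1 hx1 hsB hxB) with h' | h'
      · rw [eq_inv_of_mul_eq_one_right h', inv_eq_of_mul_eq_one_right (hsq s hsI)]
      · exact absurd (mul_eq_left.mp h') hx1
    refine ⟨t, r, htI, hrI, ht1, r1, Ne.symm r3, fun h => hts (honly t htI ht1 h), fun h => r2 (honly r hrI r1 h), fun h => ?_⟩
    have h1 : t * r ≠ 1 := fun h' => r3 (by rw [eq_inv_of_mul_eq_one_right h', inv_eq_of_mul_eq_one_right (hsq t htI)])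
    have h2 := honly _ (mul_mem htI hrI) h1 h
    exact r4 (by rw [← h2, ← mul_assoc, hsq t htI, one_mul])
  · refine ⟨s, r, hsI, hrI, hs1, r1, Ne.symm r2, hsB, fun h => ?_, fun h => ?_⟩
    · rcases hB r hrI r1 h r2 with h' | h'
      · exact r3 h'
      · exact r4 h'
    · have h1 : s * r ≠ 1 := fun h' => r2 (by rw [eq_inv_of_mul_eq_one_right h', inv_eq_of_mul_eq_one_right (hsq s hsI)])
      have h2 : s * r ≠ s := fun h' => r1 (mul_eq_left.mp h')
      rcases hB _ (mul_mem hsI hrI) h1 h h2 with h' | h'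
      · exact r4 (by rw [← h', hc s hsI r hrI, mul_assoc, hsq s hsI, mul_one])
      · rw [hc t htI s hsI] at h'
        exact r3 (mul_left_cancel h')

/-- The three lines and the dual basis. -/
theorem frame (hp2 : p ≠ 2) (hP : IsPGroup p P) (I : Subgroup (MulAut P)) (hI : Cfsg.IsElementaryAbelian 2 I)
    (hI8 : Nat.card I = 8) (u : Fin 3 → MulAut P) (huI : ∀ i, u i ∈ I) (hu : u 0 * u 1 = u 2)
    (hnb : ∀ i, ¬ Broad (u i)) :
    ∃ (l : Fin 3 → P ⧸ frattini P) (f : Fin 3 → MulAut P), (∀ i, l i ≠ 1) ∧ (∀ i, f i ∈ I) ∧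
      (∀ i, bar (f i) (l i) = (l i)⁻¹) ∧ (∀ i j, i ≠ j → bar (f i) (l j) = l j) ∧
      (∀ v, ∃ a b c : ℤ, v = l 0 ^ a * l 1 ^ b * l 2 ^ c) ∧
      (∀ T ∈ I, ∀ i, bar T (l i) = l i ∨ bar T (l i) = (l i)⁻¹) ∧
      (∀ T ∈ I, (∀ i, bar T (l i) = l i) → T = 1) := by
  classical
  have hc : ∀ x ∈ I, ∀ y ∈ I, x * y = y * x := fun x hx y hy =>
    congrArg Subtype.val (hI.1.is_comm.comm ⟨x, hx⟩ ⟨y, hy⟩)
  have hsq : ∀ x ∈ I, x * x = 1 := fun x hx => by rw [← pow_two]; exact hI.2 x hx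
  have hl := fun i => line_of_not_broad hp2 hP (hsq _ (huI i)) (hnb i)
  choose l hlfix hlline using hl
  have hVp : IsPGroup p (P ⧸ frattini P) := hP.to_quotient _
  have hbb : ∀ T ∈ I, ∀ v, bar T (bar T v) = v := fun T hT v => by
    rw [← bar_mul, hsq T hT]; obtain ⟨x, rfl⟩ := QuotientGroup.mk_surjective v; rfl
  have hspan : ∀ v, ∃ a b c : ℤ, v = l 0 ^ a * l 1 ^ b * l 2 ^ c := by
    intro v
    obtain ⟨k, hk⟩ := exists_root hp2 hp.out hVp v
    obtain ⟨k', hk'⟩ := exists_root hp2 hp.out hVp (v ^ k)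
    set w0 := (v ^ k) ^ k' with hw0
    -- `v = w0 ^ 4`
    set y := w0 * (bar (u 0) w0)⁻¹ with hy
    have hy0 : bar (u 0) y = y⁻¹ := by rw [hy, map_mul, map_inv, hbb _ (huI 0), mul_inv_rev, inv_inv]
    have e0 : w0 * bar (u 0) w0 ∈ Subgroup.zpowers (l 0) := hlline 0 _ (by rw [map_mul, hbb _ (huI 0), vcomm hP])
    have e1 : y * bar (u 1) y ∈ Subgroup.zpowers (l 1) := hlline 1 _ (by rw [map_mul, hbb _ (huI 1), vcomm hP])
    have e2 : y * (bar (u 1) y)⁻¹ ∈ Subgroup.zpowers (l 2) := by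
      refine hlline 2 _ ?_
      rw [← hu, bar_mul, map_mul, map_inv, hbb _ (huI 1), map_mul, map_inv, hy0, inv_inv,
        ← bar_mul, hc _ (huI 0) _ (huI 1), bar_mul, hy0, map_inv, vcomm hP]
    obtain ⟨a, ha⟩ := Subgroup.mem_zpowers_iff.mp e0
    obtain ⟨b, hb⟩ := Subgroup.mem_zpowers_iff.mp e1
    obtain ⟨c, hc'⟩ := Subgroup.mem_zpowers_iff.mp e2
    refine ⟨2 * a, b, c, ?_⟩
    letI : CommGroup (P ⧸ frattini P) :=
      { (inferInstance : Group (P ⧸ frattini P)) with mul_comm := vcomm hP }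
    rw [two_mul, zpow_add, ha, hb, hc']
    calc v = (w0 * w0) * (w0 * w0) := by rw [hk', hk]
      _ = _ := by
        rw [hy]
        apply Additive.ofMul.injective
        simp only [ofMul_mul, ofMul_inv]
        abel
  have hsign : ∀ T ∈ I, ∀ i, bar T (l i) = l i ∨ bar T (l i) = (l i)⁻¹ := by
    intro T hT i
    by_cases hone : l i = 1
    · left; rw [hone, map_one]
    obtain ⟨r, hr⟩ := Subgroup.mem_zpowers_iff.mp (hlline i (bar T (l i)) (by
      rw [← bar_mul, hc _ (huI i) _ hT, bar_mul, hlfix]))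
    have ho : orderOf (l i) = p := orderOf_eq_prime (vpow hP _) hone
    have h1 := hbb T hT (l i)
    rw [← hr, map_zpow, ← hr, ← zpow_mul] at h1
    have h2 : (p : ℤ) ∣ (r - 1) * (r + 1) := by
      rw [← ho, orderOf_dvd_iff_zpow_eq_one, show (r - 1) * (r + 1) = r * r - 1 by ring, zpow_sub, h1, zpow_one, mul_inv_cancel]
    rcases (Nat.prime_iff_prime_int.mp hp.out).dvd_or_dvd h2 with h | h
    · left
      rw [← ho, orderOf_dvd_iff_zpow_eq_one, zpow_sub, zpow_one, mul_inv_eq_one] at h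
      rw [← hr, h]
    · right
      rw [← ho, orderOf_dvd_iff_zpow_eq_one, zpow_add, zpow_one] at h
      rw [← hr]; exact eq_inv_of_mul_eq_one_left h
  have hfaith : ∀ T ∈ I, (∀ i, bar T (l i) = l i) → T = 1 := by
    intro T hT h
    refine faithful hp2 hP (hsq T hT) fun v => ?_
    obtain ⟨a, b, c, rfl⟩ := hspan v
    rw [map_mul, map_mul, map_zpow, map_zpow, map_zpow, h, h, h]
  haveI : Finite I := Nat.finite_of_card_ne_zero (by rw [hI8]; norm_num)
  let σ : I → (Fin 3 → Bool) := fun T i => decide (bar (T : MulAut P) (l i) = l i)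
  have hinj : Function.Injective σ := by
    intro S T h
    have h1 : (S : MulAut P) * T = 1 := by
      refine hfaith _ (mul_mem S.2 T.2) fun i => ?_
      have hi : bar (S : MulAut P) (l i) = l i ↔ bar (T : MulAut P) (l i) = l i := by
        have := congrFun h i
        simpa [σ] using this
      rw [bar_mul]
      rcases hsign _ T.2 i with e | e
      · rw [e, hi.mpr e]
      · by_cases e' : bar (T : MulAut P) (l i) = l i
        · rw [e', hi.mpr e']
        · rcases hsign _ S.2 i with d | d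
          · exact absurd (hi.mp d) e'
          · rw [e, map_inv, d, inv_inv]
    apply Subtype.ext
    rw [eq_inv_of_mul_eq_one_left h1, inv_eq_of_mul_eq_one_right (hsq _ T.2)]
  have hbij : Function.Bijective σ := by
    haveI : Fintype I := Fintype.ofFinite I
    refine (Fintype.bijective_iff_injective_and_card σ).mpr ⟨hinj, ?_⟩
    rw [← Nat.card_eq_fintype_card, hI8]; rfl
  have hf := fun i : Fin 3 => hbij.2 (fun j => decide (j ≠ i))
  choose f hf using hf
  have hff : ∀ i j, (bar (f i : MulAut P) (l j) = l j ↔ j ≠ i) := fun i j => by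
    have := congrFun (hf i) j
    simp only [σ] at this
    exact decide_eq_decide.mp this
  refine ⟨l, fun i => (f i : MulAut P), fun i h => ?_, fun i => (f i).2, fun i => ?_, fun i j hij => (hff i j).mpr hij.symm,
    hspan, hsign, hfaith⟩
  · exact (hff i i).mp (by rw [h, map_one]) rfl
  · exact (hsign _ (f i).2 i).resolve_left fun h => (hff i i).mp h rfl

/-- The classification of the configuration. -/
theorem main (hp2 : p ≠ 2) (hP : IsPGroup p P) (I : Subgroup (MulAut P)) (hI : Cfsg.IsElementaryAbelian 2 I)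
    (hI8 : Nat.card I = 8) (I₀ : Subgroup (MulAut P)) (hI₀ : I₀ < I)
    (hdisj : ∀ T ∈ I₀, T ≠ 1 → ¬ Broad T)
    (hprod : ∀ T ∈ I, ∀ T' ∈ I, T ≠ 1 → T' ≠ 1 → Broad T → Broad T' → T * T' ∈ I₀) :
    IsMulCommutative P ∧ (∃ a b c : P, Subgroup.closure {a, b, c} = ⊤) ∧ (¬ ∃ a b : P, Subgroup.closure {a, b} = ⊤) ∧
      Nat.card {T : MulAut P // T ∈ I ∧ T ≠ 1 ∧ Broad T} = 3 ∧
      Subgroup.closure {T : MulAut P | T ∈ I ∧ T ≠ 1 ∧ Broad T} = I ∧
      (I₀ : Set (MulAut P)) = {S : MulAut P | ∃ T T' : MulAut P, T ∈ I ∧ T' ∈ I ∧ T ≠ 1 ∧ T' ≠ 1 ∧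
        Broad T ∧ Broad T' ∧ S = T * T'} := by
  classical
  have hc : ∀ x ∈ I, ∀ y ∈ I, x * y = y * x := fun x hx y hy =>
    congrArg Subtype.val (hI.1.is_comm.comm ⟨x, hx⟩ ⟨y, hy⟩)
  have hsq : ∀ x ∈ I, x * x = 1 := fun x hx => by rw [← pow_two]; exact hI.2 x hx
  obtain ⟨a, b, ha, hb, -, -, -, haB, hbB, habB⟩ := exists_four_group I hI hI8 {T | Broad T} I₀ hI₀ hdisj hprod
  obtain ⟨l, f, hl1, hfI, hfinv, hffix, hspan, hsign, hfaith⟩ := frame hp2 hP I hI hI8 ![a, b, a * b]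
    (fun i => by rcases fin3 i with rfl | rfl | rfl; exacts [ha, hb, mul_mem ha hb]) rfl
    (fun i => by rcases fin3 i with rfl | rfl | rfl; exacts [haB, hbB, habB])
  have hVp : IsPGroup p (P ⧸ frattini P) := hP.to_quotient _
  have hne : ∀ i, l i ≠ (l i)⁻¹ := fun i h => hl1 i (eq_one_of_sq hp2 hp.out hVp (mul_eq_one_iff_eq_inv.mpr h))
  have hf1 : ∀ i, f i ≠ 1 := fun i h => by
    have := hfinv i
    rw [h] at this
    obtain ⟨x, hx⟩ := QuotientGroup.mk_surjective (l i)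
    rw [← hx, bar_mk, MulAut.one_apply, hx] at this
    exact hne i this
  have hfne : ∀ i j, i ≠ j → f i ≠ f j := fun i j hij h => by
    have := hffix i j hij
    rw [h, hfinv j] at this
    exact hne j this.symm
  have hfB : ∀ i, Broad (f i) := by
    intro i
    by_contra hnb
    obtain ⟨m, hm, hline⟩ := line_of_not_broad hp2 hP (hsq _ (hfI i)) hnb
    obtain ⟨j, k, hij, hik, hjk⟩ : ∃ j k : Fin 3, i ≠ j ∧ i ≠ k ∧ j ≠ k := by
      rcases fin3 i with rfl | rfl | rfl
      · exact ⟨1, 2, by decide⟩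
      · exact ⟨0, 2, by decide⟩
      · exact ⟨0, 1, by decide⟩
    obtain ⟨r, hr⟩ := Subgroup.mem_zpowers_iff.mp (hline _ (hffix i j hij))
    obtain ⟨r', hr'⟩ := Subgroup.mem_zpowers_iff.mp (hline _ (hffix i k hik))
    have h2 := hfinv j
    rw [← hr, map_zpow] at h2
    have h3 := hffix j k hjk
    rw [← hr', map_zpow] at h3
    -- raise to `r * r'`
    have h4 : (bar (f j) m) ^ (r * r') = ((m ^ r)⁻¹) ^ r' := by rw [zpow_mul, h2]
    have h5 : (bar (f j) m) ^ (r * r') = (m ^ r') ^ r := by rw [mul_comm r r', zpow_mul, h3]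
    rw [h4, ← zpow_neg, ← zpow_mul, ← zpow_mul] at h5
    have h6 : m ^ (r * r') * m ^ (r * r') = 1 := by
      rw [mul_eq_one_iff_eq_inv, ← zpow_neg]
      rw [show -r * r' = -(r * r') by ring, show r' * r = r * r' by ring] at h5
      exact h5.symm
    have h7 := eq_one_of_sq hp2 hp.out hVp h6
    have hm1 : m ≠ 1 := fun h => hl1 j (by rw [← hr, h, one_zpow])
    have ho : orderOf m = p := orderOf_eq_prime (vpow hP _) hm1
    rcases (Nat.prime_iff_prime_int.mp hp.out).dvd_or_dvd (ho ▸ orderOf_dvd_iff_zpow_eq_one.mpr h7 : (p : ℤ) ∣ r * r') with h | h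
    · exact hl1 j (by rw [← hr]; exact orderOf_dvd_iff_zpow_eq_one.mp (ho ▸ h))
    · exact hl1 k (by rw [← hr']; exact orderOf_dvd_iff_zpow_eq_one.mp (ho ▸ h))
  -- the even elements
  let g : Fin 3 → MulAut P := ![f 1 * f 2, f 0 * f 2, f 0 * f 1]
  have hgI₀ : ∀ i, g i ∈ I₀ := fun i => by
    rcases fin3 i with rfl | rfl | rfl <;> exact hprod _ (hfI _) _ (hfI _) (hf1 _) (hf1 _) (hfB _) (hfB _)
  have hgI : ∀ i, g i ∈ I := fun i => hI₀.le (hgI₀ i)
  have hgfix : ∀ i, bar (g i) (l i) = l i := by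
    intro i; rcases fin3 i with rfl | rfl | rfl
    all_goals
      show bar (_ * _) _ = _
      rw [bar_mul, hffix _ _ (by decide), hffix _ _ (by decide)]
  have hgmove : ∀ i j, i ≠ j → bar (g i) (l j) = (l j)⁻¹ := by
    intro i j hij
    rcases fin3 i with rfl | rfl | rfl <;> rcases fin3 j with rfl | rfl | rfl
    all_goals first | exact absurd rfl hij | skip
    all_goals
      show bar (_ * _) _ = _
      first
        | rw [bar_mul, hfinv, map_inv, hffix _ _ (by decide)]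
        | rw [bar_mul, hffix _ _ (by decide), hfinv]
  set ι := f 0 * f 1 * f 2 with hι
  have hιI : ι ∈ I := mul_mem (mul_mem (hfI 0) (hfI 1)) (hfI 2)
  have hιmove : ∀ i, bar ι (l i) = (l i)⁻¹ := by
    intro i
    rw [hι, bar_mul, bar_mul]
    rcases fin3 i with rfl | rfl | rfl
    · rw [hffix _ _ (by decide), hffix _ _ (by decide)]; exact hfinv 0
    · rw [hffix _ _ (by decide)]
      show bar (f 0) (bar (f 1) (l 1)) = _
      rw [hfinv, map_inv, hffix _ _ (by decide)]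
    · show bar (f 0) (bar (f 1) (bar (f 2) (l 2))) = _
      rw [hfinv, map_inv, hffix _ _ (by decide), map_inv, hffix _ _ (by decide)]
  have hlsq : ∀ i, ∀ t : ℤ, (l i) ^ t * (l i) ^ t = 1 → (l i) ^ t = 1 := fun i t h => eq_one_of_sq hp2 hp.out hVp h
  have huniq : ∀ a b c : ℤ, l 0 ^ a * l 1 ^ b * l 2 ^ c = 1 → l 0 ^ a = 1 ∧ l 1 ^ b = 1 ∧ l 2 ^ c = 1 := by
    letI : CommGroup (P ⧸ frattini P) :=
      { (inferInstance : Group (P ⧸ frattini P)) with mul_comm := vcomm hP }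
    intro a b c h
    have key : ∀ i, bar (f i) (l 0 ^ a * l 1 ^ b * l 2 ^ c) = 1 := fun i => by rw [h, map_one]
    have k0 := key 0
    have k1 := key 1
    have k2 := key 2
    simp only [map_mul, map_zpow] at k0 k1 k2
    rw [hfinv, hffix 0 1 (by decide), hffix 0 2 (by decide), inv_zpow] at k0
    rw [hfinv, hffix 1 0 (by decide), hffix 1 2 (by decide), inv_zpow] at k1
    rw [hfinv, hffix 2 0 (by decide), hffix 2 1 (by decide), inv_zpow] at k2
    refine ⟨hlsq 0 a ?_, hlsq 1 b ?_, hlsq 2 c ?_⟩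
    · calc l 0 ^ a * l 0 ^ a = (l 0 ^ a * l 1 ^ b * l 2 ^ c) * ((l 0 ^ a)⁻¹ * l 1 ^ b * l 2 ^ c)⁻¹ := by
            apply Additive.ofMul.injective
            simp only [ofMul_mul, ofMul_inv]
            abel
        _ = 1 := by rw [h, k0, inv_one, mul_one]
    · calc l 1 ^ b * l 1 ^ b = (l 0 ^ a * l 1 ^ b * l 2 ^ c) * (l 0 ^ a * (l 1 ^ b)⁻¹ * l 2 ^ c)⁻¹ := by
            apply Additive.ofMul.injective
            simp only [ofMul_mul, ofMul_inv]
            abel
        _ = 1 := by rw [h, k1, inv_one, mul_one]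
    · calc l 2 ^ c * l 2 ^ c = (l 0 ^ a * l 1 ^ b * l 2 ^ c) * (l 0 ^ a * l 1 ^ b * (l 2 ^ c)⁻¹)⁻¹ := by
            apply Additive.ofMul.injective
            simp only [ofMul_mul, ofMul_inv]
            abel
        _ = 1 := by rw [h, k2, inv_one, mul_one]
  have hιfixV : ∀ v, bar ι v = v → v = 1 := by
    letI : CommGroup (P ⧸ frattini P) :=
      { (inferInstance : Group (P ⧸ frattini P)) with mul_comm := vcomm hP }
    intro v hv
    obtain ⟨a, b, c, rfl⟩ := hspan v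
    rw [map_mul, map_mul, map_zpow, map_zpow, map_zpow, hιmove, hιmove, hιmove] at hv
    refine eq_one_of_sq hp2 hp.out hVp ?_
    rw [mul_eq_one_iff_eq_inv]
    refine hv.symm.trans ?_
    simp only [inv_zpow]
    apply Additive.ofMul.injective
    simp only [ofMul_mul, ofMul_inv]
    abel
  have hιfix : ∀ x, ι x = x → x = 1 := by
    -- each `g i` fixes no non-trivial fixed point of `ι`
    have key : ∀ i, ∀ y, ι y = y → g i y = y → y = 1 := by
      intro i y hy hgy
      obtain ⟨c, hc'⟩ : ∃ c : P, ∀ x, (g i x = x ↔ x ∈ Subgroup.zpowers c) := by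
        refine not_not.mp (hdisj _ (hgI₀ i) fun h => ?_)
        obtain ⟨j, hij⟩ : ∃ j, i ≠ j := ⟨if i = 0 then 1 else 0, by rcases fin3 i with rfl | rfl | rfl <;> decide⟩
        have := hgmove i j hij
        rw [h] at this
        obtain ⟨x, hx⟩ := QuotientGroup.mk_surjective (l j)
        rw [← hx, bar_mk, MulAut.one_apply, hx] at this
        exact hne j this
      obtain ⟨j, rfl⟩ := Subgroup.mem_zpowers_iff.mp ((hc' y).mp hgy)
      have hcg : g i c = c := (hc' c).mpr (Subgroup.mem_zpowers c)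
      have hιc : ι c ∈ Subgroup.zpowers c := by
        rw [← hc', ← MulAut.mul_apply, hc _ (hgI i) _ hιI, MulAut.mul_apply, hcg]
      obtain ⟨r, hr⟩ := Subgroup.mem_zpowers_iff.mp hιc
      set d := c * ι c with hd
      have hde : d = c ^ (1 + r) := by rw [hd, ← hr, zpow_add, zpow_one]
      have hd1 : ι d = d := by
        rw [hd, map_mul, sq_fix (hsq ι hιI), ← hr]
        exact ((Commute.refl c).zpow_left r).eq
      have hd2 : (d : P ⧸ frattini P) = 1 := hιfixV _ (by rw [bar_mk, hd1])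
      -- `c` is outside the Frattini subgroup
      have hcV : (c : P ⧸ frattini P) ≠ 1 := by
        intro h
        obtain ⟨x, hx, hxv⟩ := fixed_lift hp2 hP (hsq _ (hgI i)) (hgfix i)
        obtain ⟨t, rfl⟩ := Subgroup.mem_zpowers_iff.mp ((hc' x).mp hx)
        rw [QuotientGroup.mk_zpow, h, one_zpow] at hxv
        exact hl1 i hxv.symm
      have ho : orderOf (c : P ⧸ frattini P) = p := orderOf_eq_prime (vpow hP _) hcV
      have hdiv : (p : ℤ) ∣ 1 + r := by
        rw [← ho, orderOf_dvd_iff_zpow_eq_one, ← QuotientGroup.mk_zpow, ← hde, hd2]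
      have hd3 : d ^ (r - 1) = 1 := by
        have : ι d = d ^ r := by rw [hde, map_zpow, ← hr, ← zpow_mul, ← zpow_mul, mul_comm]
        rw [zpow_sub, ← this, hd1, zpow_one, mul_inv_cancel]
      obtain ⟨q, hq⟩ := hP d
      have hcop : IsCoprime ((p : ℤ) ^ q) (r - 1) := by
        refine ((Nat.prime_iff_prime_int.mp hp.out).coprime_iff_not_dvd.mpr fun h => ?_).pow_left
        have h2 : (p : ℤ) ∣ 2 := by
          have := dvd_sub hdiv h
          rwa [show 1 + r - (r - 1) = 2 by ring] at this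
        have h3 : p ∣ 2 := by exact_mod_cast h2
        exact hp2 ((Nat.prime_dvd_prime_iff_eq hp.out Nat.prime_two).mp h3)
      obtain ⟨α, β, hαβ⟩ := hcop
      have hdone : d = 1 := by
        calc d = d ^ (α * (p : ℤ) ^ q + β * (r - 1)) := by rw [hαβ, zpow_one]
          _ = 1 := by
            rw [zpow_add, mul_comm α, zpow_mul, mul_comm β, zpow_mul, hd3, one_zpow, mul_one,
              show ((p : ℤ) ^ q) = ((p ^ q : ℕ) : ℤ) by push_cast; rfl, zpow_natCast, hq, one_zpow]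
      have hinvc : ι c = c⁻¹ := eq_inv_of_mul_eq_one_right hdone
      rw [map_zpow, hinvc, inv_zpow] at hy
      exact eq_one_of_sq hp2 hp.out hP (mul_eq_one_iff_eq_inv.mpr hy.symm)
    intro x hx
    let C : Subgroup P :=
      { carrier := {x | ι x = x}
        one_mem' := map_one _
        mul_mem' := fun {x y} hx hy => by show ι (x * y) = x * y; rw [map_mul]; exact congrArg₂ (· * ·) hx hy
        inv_mem' := fun {x} hx => by show ι x⁻¹ = x⁻¹; rw [map_inv]; exact congrArg Inv.inv hx }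
    have hCst : ∀ i, ∀ y ∈ C, g i y ∈ C := fun i y hy => by
      show ι (g i y) = g i y
      rw [← MulAut.mul_apply, hc _ hιI _ (hgI i), MulAut.mul_apply, show ι y = y from hy]
    have hinvC : ∀ i, ∀ y ∈ C, g i y = y⁻¹ := by
      intro i y hy
      let T : MulAut C :=
        { toFun := fun z => ⟨g i z, hCst i z z.2⟩
          invFun := fun z => ⟨g i z, hCst i z z.2⟩
          left_inv := fun z => Subtype.ext (sq_fix (hsq _ (hgI i)) _)
          right_inv := fun z => Subtype.ext (sq_fix (hsq _ (hgI i)) _)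
          map_mul' := fun z w => Subtype.ext (map_mul _ _ _) }
      have h := inverts hp2 hp.out (hP.to_subgroup C) (T := T) (MulEquiv.ext fun z => Subtype.ext (sq_fix (hsq _ (hgI i)) _))
        (fun z hz => Subtype.ext (key i z z.2 (congrArg Subtype.val hz))) ⟨y, hy⟩
      exact congrArg Subtype.val h
    have h3 : g 0 * g 1 = g 2 := by
      show f 1 * f 2 * (f 0 * f 2) = f 0 * f 1
      rw [hc _ (hfI 0) _ (hfI 2), mul_assoc, ← mul_assoc (f 2), hsq _ (hfI 2), one_mul, hc _ (hfI 1) _ (hfI 0)]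
    have h4 : g 2 x = x := by
      rw [← h3, MulAut.mul_apply, hinvC 1 x hx, map_inv, hinvC 0 x hx, inv_inv]
    rw [hinvC 2 x hx] at h4
    exact eq_one_of_sq hp2 hp.out hP (mul_eq_one_iff_eq_inv.mpr h4.symm)
  have habel : ∀ x y : P, x * y = y * x := by
    intro x y
    have hi := inverts hp2 hp.out hP (hsq ι hιI) hιfix
    have := hi (x * y)
    rw [map_mul, hi x, hi y, ← mul_inv_rev, inv_inj] at this
    exact this.symm
  have hιB : ¬ Broad ι := fun h => h ⟨1, fun x => by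
    rw [Subgroup.zpowers_one_eq_bot, Subgroup.mem_bot]
    exact ⟨hιfix x, fun hx => by rw [hx, map_one]⟩⟩
  -- every element is described by its signs
  have heq : ∀ S ∈ I, ∀ T ∈ I, (∀ i, bar S (l i) = bar T (l i)) → S = T := fun S hS T hT h => by
    have h1 : S * T = 1 := hfaith _ (mul_mem hS hT) fun i => by
      rw [hc S hS T hT, bar_mul, h, ← bar_mul, hsq T hT]
      obtain ⟨x, hx⟩ := QuotientGroup.mk_surjective (l i)
      rw [← hx]; rfl
    rw [eq_inv_of_mul_eq_one_left h1, inv_eq_of_mul_eq_one_right (hsq T hT)]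
  have h7 : ∀ T ∈ I, T = 1 ∨ T = ι ∨ (∃ i, T = f i) ∨ ∃ i, T = g i := by
    intro T hT
    have hone : ∀ i, bar (1 : MulAut P) (l i) = l i := fun i => by
      obtain ⟨x, hx⟩ := QuotientGroup.mk_surjective (l i)
      rw [← hx]; rfl
    rcases hsign T hT 0 with e0 | e0 <;> rcases hsign T hT 1 with e1 | e1 <;> rcases hsign T hT 2 with e2 | e2
    · left; refine heq T hT 1 (one_mem _) fun i => ?_
      rcases fin3 i with rfl | rfl | rfl
      all_goals (rw [hone]; assumption)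
    · right; right; left; refine ⟨2, heq T hT _ (hfI 2) fun i => ?_⟩
      rcases fin3 i with rfl | rfl | rfl
      · rw [hffix 2 0 (by decide)]; exact e0
      · rw [hffix 2 1 (by decide)]; exact e1
      · show bar T (l 2) = bar (f 2) (l 2); rw [hfinv]; exact e2
    · right; right; left; refine ⟨1, heq T hT _ (hfI 1) fun i => ?_⟩
      rcases fin3 i with rfl | rfl | rfl
      · rw [hffix 1 0 (by decide)]; exact e0
      · show bar T (l 1) = bar (f 1) (l 1); rw [hfinv]; exact e1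
      · rw [hffix 1 2 (by decide)]; exact e2
    · right; right; right; refine ⟨0, heq T hT _ (hgI 0) fun i => ?_⟩
      rcases fin3 i with rfl | rfl | rfl
      · show bar T (l 0) = bar (g 0) (l 0); rw [hgfix]; exact e0
      · rw [hgmove 0 1 (by decide)]; exact e1
      · rw [hgmove 0 2 (by decide)]; exact e2
    · right; right; left; refine ⟨0, heq T hT _ (hfI 0) fun i => ?_⟩
      rcases fin3 i with rfl | rfl | rfl
      · show bar T (l 0) = bar (f 0) (l 0); rw [hfinv]; exact e0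
      · rw [hffix 0 1 (by decide)]; exact e1
      · rw [hffix 0 2 (by decide)]; exact e2
    · right; right; right; refine ⟨1, heq T hT _ (hgI 1) fun i => ?_⟩
      rcases fin3 i with rfl | rfl | rfl
      · rw [hgmove 1 0 (by decide)]; exact e0
      · show bar T (l 1) = bar (g 1) (l 1); rw [hgfix]; exact e1
      · rw [hgmove 1 2 (by decide)]; exact e2
    · right; right; right; refine ⟨2, heq T hT _ (hgI 2) fun i => ?_⟩
      rcases fin3 i with rfl | rfl | rfl
      · rw [hgmove 2 0 (by decide)]; exact e0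
      · rw [hgmove 2 1 (by decide)]; exact e1
      · show bar T (l 2) = bar (g 2) (l 2); rw [hgfix]; exact e2
    · right; left; refine heq T hT ι hιI fun i => ?_
      rcases fin3 i with rfl | rfl | rfl
      all_goals (rw [hιmove]; assumption)
  have hBset : ∀ T, (T ∈ I ∧ T ≠ 1 ∧ Broad T) ↔ ∃ i, T = f i := by
    intro T
    constructor
    · rintro ⟨hT, hT1, hTB⟩
      rcases h7 T hT with h | h | h | ⟨i, rfl⟩
      · exact absurd h hT1
      · exact absurd (h ▸ hTB) hιB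
      · exact h
      · exact absurd hTB (hdisj _ (hgI₀ i) hT1)
    · rintro ⟨i, rfl⟩
      exact ⟨hfI i, hf1 i, hfB i⟩
  refine ⟨⟨⟨habel⟩⟩, ?_, ?_, ?_, ?_, ?_⟩
  · obtain ⟨x, hx⟩ := QuotientGroup.mk_surjective (l 0)
    obtain ⟨y, hy⟩ := QuotientGroup.mk_surjective (l 1)
    obtain ⟨z, hz⟩ := QuotientGroup.mk_surjective (l 2)
    refine ⟨x, y, z, frattini_nongenerating (eq_top_iff.mpr fun w _ => ?_)⟩
    obtain ⟨a, b, c, hw⟩ := hspan (w : P ⧸ frattini P)
    rw [← hx, ← hy, ← hz, ← QuotientGroup.mk_zpow, ← QuotientGroup.mk_zpow, ← QuotientGroup.mk_zpow,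
      ← QuotientGroup.mk_mul, ← QuotientGroup.mk_mul] at hw
    have h1 := QuotientGroup.eq.mp hw.symm
    rw [← mul_inv_cancel_left (x ^ a * y ^ b * z ^ c) w]
    refine mul_mem ((le_sup_left : Subgroup.closure {x, y, z} ≤ _) ?_) ((le_sup_right : frattini P ≤ _) h1)
    exact mul_mem (mul_mem (Subgroup.zpow_mem _ (Subgroup.subset_closure (by simp)) a)
      (Subgroup.zpow_mem _ (Subgroup.subset_closure (by simp)) b)) (Subgroup.zpow_mem _ (Subgroup.subset_closure (by simp)) c)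
  · rintro ⟨x, y, hxy⟩
    -- two elements cannot span three lines
    have hgenV : ∀ v : P ⧸ frattini P, ∃ i j : Fin p, v = (x : P ⧸ frattini P) ^ (i : ℕ) * (y : P ⧸ frattini P) ^ (j : ℕ) := by
      intro v
      obtain ⟨w, rfl⟩ := QuotientGroup.mk_surjective v
      have hw : w ∈ Subgroup.closure ({x, y} : Set P) := hxy ▸ Subgroup.mem_top w
      have hnat : ∀ u : P ⧸ frattini P, ∀ t : ℤ, ∃ i : Fin p, u ^ t = u ^ (i : ℕ) := fun u t => by
        refine ⟨⟨(t % (p : ℤ)).toNat, ?_⟩, ?_⟩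
        · have := Int.emod_lt_of_pos t (show (0 : ℤ) < p by exact_mod_cast hp.out.pos)
          have := Int.emod_nonneg t (show (p : ℤ) ≠ 0 by exact_mod_cast hp.out.ne_zero)
          omega
        · have h0 := Int.emod_nonneg t (show (p : ℤ) ≠ 0 by exact_mod_cast hp.out.ne_zero)
          rw [← zpow_natCast, Int.toNat_of_nonneg h0]
          conv_lhs => rw [← Int.mul_ediv_add_emod t p, zpow_add, zpow_mul, zpow_natCast, vpow hP, one_zpow, one_mul]
      obtain ⟨m, n, hmn⟩ : ∃ m n : ℤ, (x : P ⧸ frattini P) ^ m * (y : P ⧸ frattini P) ^ n = (w : P ⧸ frattini P) := by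
        clear hnat
        induction hw using Subgroup.closure_induction with
        | mem u hu =>
          rcases hu with rfl | rfl
          · exact ⟨1, 0, by simp⟩
          · exact ⟨0, 1, by simp⟩
        | one => exact ⟨0, 0, by simp⟩
        | mul u v _ _ ihu ihv =>
          obtain ⟨m, n, e1⟩ := ihu; obtain ⟨m', n', e2⟩ := ihv
          refine ⟨m + m', n + n', ?_⟩
          rw [QuotientGroup.mk_mul, ← e1, ← e2, zpow_add, zpow_add]
          simp only [mul_assoc]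
          rw [← mul_assoc ((y : P ⧸ frattini P) ^ n), vcomm hP ((y : P ⧸ frattini P) ^ n) ((x : P ⧸ frattini P) ^ m'), mul_assoc]
        | inv u _ ih =>
          obtain ⟨m, n, e⟩ := ih
          exact ⟨-m, -n, by rw [QuotientGroup.mk_inv, ← e, mul_inv_rev, zpow_neg, zpow_neg, vcomm hP]⟩
      obtain ⟨i, hi⟩ := hnat (x : P ⧸ frattini P) m
      obtain ⟨j, hj⟩ := hnat (y : P ⧸ frattini P) n
      exact ⟨i, j, by rw [← hmn, hi, hj]⟩
    have hs : Function.Surjective (fun ij : Fin p × Fin p => (x : P ⧸ frattini P) ^ (ij.1 : ℕ) * (y : P ⧸ frattini P) ^ (ij.2 : ℕ)) :=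
      fun v => by obtain ⟨i, j, h⟩ := hgenV v; exact ⟨(i, j), h.symm⟩
    have hinj3 : Function.Injective (fun v : Fin p × Fin p × Fin p => l 0 ^ (v.1 : ℕ) * l 1 ^ (v.2.1 : ℕ) * l 2 ^ (v.2.2 : ℕ)) := by
      letI : CommGroup (P ⧸ frattini P) :=
        { (inferInstance : Group (P ⧸ frattini P)) with mul_comm := vcomm hP }
      rintro ⟨a, b, c⟩ ⟨a', b', c'⟩ h
      simp only at h
      obtain ⟨k0, k1, k2⟩ := huniq ((a : ℕ) - (a' : ℕ) : ℤ) ((b : ℕ) - (b' : ℕ) : ℤ) ((c : ℕ) - (c' : ℕ) : ℤ) (by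
        rw [zpow_sub, zpow_sub, zpow_sub, zpow_natCast, zpow_natCast, zpow_natCast, zpow_natCast, zpow_natCast, zpow_natCast]
        calc _ = (l 0 ^ (a : ℕ) * l 1 ^ (b : ℕ) * l 2 ^ (c : ℕ)) / (l 0 ^ (a' : ℕ) * l 1 ^ (b' : ℕ) * l 2 ^ (c' : ℕ)) := by
              rw [div_eq_mul_inv, mul_inv_rev, mul_inv_rev]; ac_rfl
          _ = 1 := by rw [h, div_self'])
      have key : ∀ (i : Fin 3) (s t : Fin p), (l i) ^ ((s : ℕ) - (t : ℕ) : ℤ) = 1 → s = t := by
        intro i s t hst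
        have := orderOf_dvd_iff_zpow_eq_one.mpr hst
        rw [orderOf_eq_prime (vpow hP _) (hl1 i)] at this
        obtain ⟨k, hk⟩ := this
        have := s.2; have := t.2
        have hk0 : k = 0 := by nlinarith
        rw [hk0, mul_zero] at hk
        exact Fin.ext (by omega)
      rw [key 0 a a' k0, key 1 b b' k1, key 2 c c' k2]
    have h1 := (Nat.card_le_card_of_injective _ hinj3).trans (Nat.card_le_card_of_surjective _ hs)
    simp only [Nat.card_eq_fintype_card, Fintype.card_prod, Fintype.card_fin] at h1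
    have := hp.out.two_le
    nlinarith
  · rw [Nat.card_congr (Equiv.subtypeEquivRight hBset)]
    have he : {T : MulAut P // ∃ i, T = f i} ≃ Fin 3 :=
      (Equiv.subtypeEquivRight (fun T => ⟨fun ⟨i, h⟩ => ⟨i, h.symm⟩, fun ⟨i, h⟩ => ⟨i, h.symm⟩⟩)).trans
        (Equiv.ofInjective f (fun i j h => by_contra fun hij => hfne i j hij h)).symm
    rw [Nat.card_congr he, Nat.card_eq_fintype_card, Fintype.card_fin]
  · refine le_antisymm ((Subgroup.closure_le _).mpr fun T hT => hT.1) fun T hT => ?_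
    have hm : ∀ i, f i ∈ Subgroup.closure {T : MulAut P | T ∈ I ∧ T ≠ 1 ∧ Broad T} := fun i =>
      Subgroup.subset_closure ((hBset _).mpr ⟨i, rfl⟩)
    rcases h7 T hT with rfl | rfl | ⟨i, rfl⟩ | ⟨i, rfl⟩
    · exact one_mem _
    · exact mul_mem (mul_mem (hm 0) (hm 1)) (hm 2)
    · exact hm i
    · rcases fin3 i with rfl | rfl | rfl <;> exact mul_mem (hm _) (hm _)
  · ext S
    constructor
    · intro hS
      rcases h7 S (hI₀.le hS) with rfl | rfl | ⟨i, rfl⟩ | ⟨i, rfl⟩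
      · exact ⟨f 0, f 0, hfI 0, hfI 0, hf1 0, hf1 0, hfB 0, hfB 0, (hsq _ (hfI 0)).symm⟩
      · exfalso
        have hf0 : f 0 ∈ I₀ := by
          have := I₀.mul_mem hS (hgI₀ 0)
          rwa [hι, show g 0 = f 1 * f 2 from rfl, mul_assoc (f 0), mul_assoc, hsq _ (mul_mem (hfI 1) (hfI 2)), mul_one] at this
        exact hdisj _ hf0 (hf1 0) (hfB 0)
      · exact absurd (hfB i) (hdisj _ hS (hf1 i))
      · rcases fin3 i with rfl | rfl | rfl <;> exact ⟨_, _, hfI _, hfI _, hf1 _, hf1 _, hfB _, hfB _, rfl⟩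
    · rintro ⟨T, T', hT, hT', hT1, hT'1, hB, hB', rfl⟩
      exact hprod T hT T' hT' hT1 hT'1 hB hB'

end H31.EightAuto
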