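import Mathlib
import Cfsg.Prelude.Def_CaseTheorems
import Cfsg.Agent.H31.Taussky
import Cfsg.Agent.H31.MaxClassCrit
import Cfsg.Agent.H86.AutDihedral
import Cfsg.Agent.H67.QuasiDihedral

set_option autoImplicit false

namespace H31

open Subgroup
open scoped commutatorElement Pointwise

universe u

theorem centralizer_le_of_sectional {S : Type u} [Group S] [Finite S] (h2 : IsPGroup 2 S)
    (hr : Cfsg.SectionalPRankLE 2 2 S) (H : Subgroup S) (hH : Nat.card H = 2 ^ 3)
    (hna : ¬ IsMulCommutative H) : centralizer (H : Set S) ≤ H := by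
  haveI : Fact (Nat.Prime 2) := ⟨Nat.prime_two⟩
  have hHp : IsPGroup 2 H := IsPGroup.of_card hH
  haveI := hHp.isNilpotent
  intro c hc
  by_contra hcH
  obtain ⟨m, hm⟩ := IsPGroup.iff_orderOf.mp h2 c
  have hex : ∃ i, c ^ (2 ^ i) ∈ H := ⟨m, by rw [← hm, pow_orderOf_eq_one]; exact H.one_mem⟩
  classical
  obtain ⟨j, hj⟩ : ∃ j, Nat.find hex = j + 1 := ⟨Nat.find hex - 1, by
    have : Nat.find hex ≠ 0 := fun h => hcH (by have := Nat.find_spec hex; rwa [h, pow_zero, pow_one] at this)
    omega⟩
  set d := c ^ (2 ^ j) with hd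
  have hdH : d ∉ H := Nat.find_min hex (by omega)
  have hd2 : d * d ∈ H := by
    have := Nat.find_spec hex
    rwa [hj, pow_succ, pow_mul, pow_two] at this
  have hdc : ∀ h ∈ H, h * d = d * h := fun h hh => Commute.pow_right (show Commute h c from hc h hh) _
  set Z := (center H).map H.subtype with hZ
  have hcent : Nat.card (center H) = 2 := by
    obtain ⟨i, hi, hci⟩ := (Nat.dvd_prime_pow Nat.prime_two).mp (hH ▸ card_subgroup_dvd_card (center H))
    have hlt : i < 2 := by
      by_contra hge
      apply hna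
      have hidx := card_mul_index (center H)
      rw [hci, hH] at hidx
      haveI : IsCyclic (H ⧸ center H) := by
        interval_cases i
        · exact isCyclic_of_prime_card (p := 2) (by
            rw [← index_eq_card]
            exact Nat.eq_of_mul_eq_mul_left (by norm_num : 0 < 2 ^ 2) (hidx.trans (by norm_num)))
        · haveI : Subsingleton (H ⧸ center H) := by
            rw [← Finite.card_le_one_iff_subsingleton, ← index_eq_card]
            exact (Nat.eq_of_mul_eq_mul_left (by norm_num : 0 < 2 ^ 3) (hidx.trans (mul_one _).symm)).le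
          infer_instance
      exact IsMulCommutative.of_comm (fun a b =>
        commutative_of_cyclic_center_quotient (QuotientGroup.mk' (center H)) (by rw [QuotientGroup.ker_mk']) a b)
    have h0 : i ≠ 0 := by
      rintro rfl
      haveI : Nontrivial H := Finite.one_lt_card_iff_nontrivial.mp (by rw [hH]; norm_num)
      exact absurd hHp.center_nontrivial (not_nontrivial_iff_subsingleton.mpr (Nat.card_eq_one_iff_unique.mp (hci.trans (pow_zero 2))).1)
    rw [hci, show i = 1 by omega, pow_one]
  haveI hHq : IsMulCommutative (H ⧸ center H) := IsPGroup.isMulCommutative_of_card_eq_prime_sq (p := 2) (by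
    have hidx := card_mul_index (center H)
    rw [hcent, hH] at hidx
    rw [← index_eq_card]; norm_num at hidx ⊢; omega)
  have hsqZ : ∀ h ∈ H, h * h ∈ Z := by
    intro h hh
    refine ⟨⟨h * h, H.mul_mem hh hh⟩, ?_, rfl⟩
    show (⟨h, hh⟩ * ⟨h, hh⟩ : H) ∈ center H
    rw [← QuotientGroup.eq_one_iff, QuotientGroup.mk_mul, ← pow_two]
    by_contra hne
    have hcard : Nat.card (H ⧸ center H) = 4 := by
      have hidx := card_mul_index (center H)
      rw [hcent, hH] at hidx
      rw [← index_eq_card]; norm_num at hidx; omega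
    set q : H ⧸ center H := ((⟨h, hh⟩ : H) : H ⧸ center H) with hq
    haveI : IsCyclic (H ⧸ center H) := by
      obtain ⟨i, hi, hoi⟩ := (Nat.dvd_prime_pow Nat.prime_two).mp
        (show orderOf q ∣ 2 ^ 2 from (by rw [show (2:ℕ) ^ 2 = 4 by norm_num, ← hcard]; exact _root_.orderOf_dvd_natCard q))
      interval_cases i
      · exact absurd (by rw [orderOf_eq_one_iff.mp (hoi.trans (pow_zero 2)), one_pow]) hne
      · exact absurd (orderOf_dvd_iff_pow_eq_one.mp (hoi.trans (pow_one 2)).dvd) hne
      · exact isCyclic_of_orderOf_eq_card q (by rw [hoi, hcard]; norm_num)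
    exact hna (IsMulCommutative.of_comm (fun a b =>
      commutative_of_cyclic_center_quotient (QuotientGroup.mk' (center H)) (by rw [QuotientGroup.ker_mk']) a b))
  have hd2Z : d * d ∈ Z := by
    refine ⟨⟨d * d, hd2⟩, mem_center_iff.mpr fun h => Subtype.ext ?_, rfl⟩
    show (h : S) * (d * d) = d * d * h
    exact ((show Commute (h : S) d from hdc h h.2).mul_right (hdc h h.2)).eq
  set T := H ⊔ zpowers d with hT
  have hHn : zpowers d ≤ normalizer (H : Set S) := by
    rw [zpowers_le, mem_normalizer_iff]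
    intro x
    constructor
    · intro hx; rw [← hdc x hx, mul_inv_cancel_right]; exact hx
    · intro hx
      have h1 := hdc _ hx
      rw [show d * x * d⁻¹ * d = d * x by group] at h1
      rw [mul_left_cancel h1]; exact hx
  have hmemT : ∀ t ∈ T, ∃ h ∈ H, t = h ∨ t = h * d := by
    intro t ht
    have ht' : t ∈ (↑H * ↑(zpowers d) : Set S) := by
      rw [← coe_mul_of_right_le_normalizer_left H (zpowers d) hHn]; exact ht
    obtain ⟨h, hh, z, hz, rfl⟩ := ht'
    obtain ⟨i, rfl⟩ := mem_zpowers_iff.mp hz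
    rcases Int.even_or_odd' i with ⟨v, rfl | rfl⟩
    · refine ⟨h * d ^ (2 * v), H.mul_mem hh ?_, Or.inl rfl⟩
      rw [zpow_mul, zpow_ofNat, pow_two]; exact H.zpow_mem hd2 v
    · refine ⟨h * d ^ (2 * v), H.mul_mem hh ?_, Or.inr ?_⟩
      · rw [zpow_mul, zpow_ofNat, pow_two]; exact H.zpow_mem hd2 v
      · show h * d ^ (2 * v + 1) = h * d ^ (2 * v) * d
        rw [zpow_add, zpow_one, mul_assoc]
  set N := Z.subgroupOf T with hN
  have hZT : Z ≤ T := (map_subtype_le (center H)).trans le_sup_left
  have hZc : ∀ z ∈ Z, ∀ t ∈ T, z * t = t * z := by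
    rintro _ ⟨z, hz, rfl⟩ t ht
    obtain ⟨h, hh, rfl | rfl⟩ := hmemT t ht
    · exact (congrArg Subtype.val (mem_center_iff.mp hz ⟨t, hh⟩)).symm
    · exact (Commute.mul_right (show Commute (z : S) h from (congrArg Subtype.val (mem_center_iff.mp hz ⟨h, hh⟩)).symm)
        (hdc _ z.2)).eq
  haveI : N.Normal := ⟨fun z hz t => by
    show (t : S) * z * (t : S)⁻¹ ∈ Z
    have h := hZc (z : S) hz (t : S) t.2
    rw [← h, mul_inv_cancel_right]; exact hz⟩
  have hsq : ∀ t : T ⧸ N, t * t = 1 := by
    intro t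
    induction t using QuotientGroup.induction_on with
    | H t =>
      rw [← QuotientGroup.mk_mul, QuotientGroup.eq_one_iff]
      show (t : S) * t ∈ Z
      obtain ⟨h, hh, he | he⟩ := hmemT t t.2
      · rw [he]; exact hsqZ h hh
      · rw [he, show h * d * (h * d) = h * (d * h) * d by group, ← hdc h hh, show h * (h * d) * d = h * h * (d * d) by group]
        exact mul_mem (hsqZ h hh) hd2Z
  have hcardT : 2 ^ 4 ≤ Nat.card T := by
    have h2 := card_dvd_of_le (show H ≤ T from le_sup_left)
    obtain ⟨i, hi⟩ := IsPGroup.iff_card.mp (h2.trans dvd_rfl |> fun _ => (‹IsPGroup 2 S›).to_subgroup T)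
    rw [hH, hi] at h2
    have h3 := (Nat.pow_dvd_pow_iff_le_right (by norm_num)).mp h2
    rw [hi]
    refine Nat.pow_le_pow_right (by norm_num) ?_
    by_contra hlt
    have : H = T := eq_of_le_of_card_ge le_sup_left (by rw [hH, hi]; exact Nat.pow_le_pow_right (by norm_num) (by omega))
    exact hdH (this ▸ mem_sup_right (mem_zpowers d))
  have hr' := hr T N ⊤ (IsMulCommutative.of_comm fun a b => by
      have hinv : ∀ y : (⊤ : Subgroup (T ⧸ N)), y⁻¹ = y := fun y => inv_eq_of_mul_eq_one_right (Subtype.ext (hsq y))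
      rw [← hinv (a * b), mul_inv_rev, hinv, hinv])
    (fun a _ => by rw [pow_two]; exact hsq a)
  rw [card_top] at hr'
  have hNcard : Nat.card N = 2 := by
    rw [Nat.card_congr (subgroupOfEquivOfLe hZT).toEquiv, hZ, card_map_of_injective H.subtype_injective, hcent]
  have := card_eq_card_quotient_mul_card_subgroup N
  rw [hNcard] at this
  norm_num at hr' hcardT
  omega

theorem maxClassTwo_of_sectional {S : Type u} [Group S] [Finite S] (h2 : IsPGroup 2 S) (hr : Cfsg.SectionalPRankLE 2 2 S)
    (H : Subgroup S) (hH : Nat.card H = 2 ^ 3) (hna : ¬ IsMulCommutative H) : IsMaxClassTwo S := by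
  haveI : Fact (Nat.Prime 2) := ⟨Nat.prime_two⟩
  obtain ⟨n, hn⟩ := IsPGroup.iff_card.mp h2
  have h3 : 3 ≤ n := by
    have := card_subgroup_dvd_card H
    rw [hH, hn] at this
    exact (Nat.pow_dvd_pow_iff_le_right (by norm_num)).mp this
  have hcl := nilpotencyClass_of_extraspecial_cube hn H hH hna (centralizer_le_of_sectional h2 hr H hH hna)
  obtain ⟨j, rfl⟩ : ∃ j, n = j + 3 := ⟨n - 3, by omega⟩
  exact classify_index_four hn (commutator_index_of_maxClass (by omega) hn hcl)

theorem quaternion_of_aut_not_two {S : Type u} [Group S] [Finite S] (h : IsMaxClassTwo S)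
    (haut : ¬ IsPGroup 2 (MulAut S)) :
    Nonempty (S ≃* QuaternionGroup 2) := by
  rcases h with ⟨k, ⟨e⟩⟩ | ⟨k, hS, a, b, ha, hb, hab⟩ | ⟨k, ⟨e⟩⟩
  · exfalso
    exact haut ((H86.isPGroup_two_mulAut_dihedral (k + 2) (by omega)).of_equiv (MulAut.congr e).symm)
  · exfalso
    apply haut
    have hZi : (zpowers a).index = 2 := by
      have h1 := card_mul_index (zpowers a)
      rw [Nat.card_zpowers, ha, hS, show k + 4 = k + 3 + 1 from rfl, pow_succ (2 : ℕ) (k + 3)] at h1
      exact Nat.eq_of_mul_eq_mul_left (by positivity) h1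
    have hbA : b ∉ zpowers a := by
      intro hb'
      obtain ⟨i, rfl⟩ := mem_zpowers_iff.mp hb'
      have h1 : a ^ i * a * (a ^ i)⁻¹ = a := by group
      rw [h1] at hab
      have h2 : a ^ (2 ^ (k + 2) - 2 : ℕ) = 1 := by
        have : a ^ (2 ^ (k + 2) - 2 : ℕ) * a = 1 * a := by
          rw [← pow_succ, one_mul]
          have h4 : 4 ≤ 2 ^ (k + 2) := by
            calc 4 = 2 ^ 2 := by norm_num
              _ ≤ 2 ^ (k + 2) := Nat.pow_le_pow_right (by norm_num) (by omega)
          rw [show 2 ^ (k + 2) - 2 + 1 = 2 ^ (k + 2) - 1 by omega]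
          exact hab.symm
        exact mul_right_cancel this
      have h3 := Nat.le_of_dvd (by
        have : 4 ≤ 2 ^ (k + 2) := by
          calc 4 = 2 ^ 2 := by norm_num
            _ ≤ 2 ^ (k + 2) := Nat.pow_le_pow_right (by norm_num) (by omega)
        omega) (orderOf_dvd_of_pow_eq_one h2)
      have h5 : 2 ^ (k + 3) = 2 * 2 ^ (k + 2) := by ring
      have h6 : 0 < 2 ^ (k + 2) := by positivity
      rw [ha, h5] at h3
      omega
    have hcov : ∀ g, g ∈ zpowers a ∨ b⁻¹ * g ∈ zpowers a := by
      intro g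
      by_cases hg : g ∈ zpowers a
      · exact Or.inl hg
      · refine Or.inr ?_
        rw [mul_mem_iff_of_index_two hZi]
        exact iff_of_false (fun h => hbA (by simpa using inv_mem h)) hg
    refine H86.isPGroup_two_mulAut a b (k + 3) ha hcov fun g hg hgo => ?_
    obtain ⟨i, hi⟩ := mem_zpowers_iff.mp ((hcov g).resolve_left hg)
    have hg' : g = b * a ^ i := by rw [hi, mul_inv_cancel_left]
    have hbb : b * b = 1 := by rw [← pow_two, ← hb, pow_orderOf_eq_one]
    have h4 : g ^ 4 = 1 := by
      have h5 : g ^ 2 = a ^ (((2 ^ (k + 2) - 1 : ℕ) : ℤ) * i + i) := by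
        rw [zpow_add, zpow_mul, zpow_natCast, ← hab, conj_zpow, hg', pow_two]
        have : b⁻¹ = b := inv_eq_of_mul_eq_one_right hbb
        rw [this]; group
      rw [show 4 = 2 * 2 from rfl, pow_mul, h5, ← zpow_natCast, ← zpow_mul, ← orderOf_dvd_iff_zpow_eq_one, ha,
        Nat.cast_sub Nat.one_le_two_pow]
      push_cast
      exact ⟨i, by ring⟩
    have h6 := Nat.le_of_dvd (by norm_num) (orderOf_dvd_of_pow_eq_one h4)
    rw [hgo] at h6
    have : 2 ^ 3 ≤ 2 ^ (k + 3) := Nat.pow_le_pow_right (by norm_num) (by omega)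
    omega
  · rcases Nat.eq_zero_or_pos k with rfl | hk
    · exact ⟨e⟩
    · exfalso
      exact haut ((H86.isPGroup_two_mulAut_quaternion (k + 1) (by omega)).of_equiv (MulAut.congr e).symm)

end H31
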