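import Cfsg.Agent.H31.GenBound
import Cfsg.Agent.H31.InvariantMax
import Cfsg.Agent.H31.MaxClassSectional
import Cfsg.Agent.H30.SymplecticType
import Cfsg.Agent.H37.Torus
import Cfsg.Agent.H36.Kulakoff

/-! 2-groups in which no proper invariant subgroup contains a non-cyclic abelian subgroup of order 8. -/

set_option autoImplicit false
set_option linter.style.haveILetI false
set_option linter.unusedSectionVars false

namespace H31.Eight

open scoped commutatorElement

universe u v

variable {X : Type u} [Group X]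

/-- `Y` contains a non-cyclic abelian subgroup of order `8`. -/
def Good (Y : Subgroup X) : Prop := ∃ A ≤ Y, IsMulCommutative A ∧ ¬ IsCyclic A ∧ Nat.card A = 8

theorem Good.mono {Y Z : Subgroup X} (h : Good Y) (hle : Y ≤ Z) : Good Z := by
  obtain ⟨A, hA, h'⟩ := h
  exact ⟨A, hA.trans hle, h'⟩

theorem comm_closure_pair {a b : X} (h : Commute a b) : IsMulCommutative (Subgroup.closure ({a, b} : Set X)) :=
  Subgroup.isMulCommutative_closure fun x hx y hy => by
    rcases hx with rfl | rfl <;> rcases hy with rfl | rfl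
    · rfl
    · exact h.eq
    · exact h.eq.symm
    · rfl

theorem comm_subgroup {A : Subgroup X} (hA : IsMulCommutative A) {a b : X} (ha : a ∈ A) (hb : b ∈ A) :
    Commute a b := congrArg Subtype.val (hA.is_comm.comm ⟨a, ha⟩ ⟨b, hb⟩)

variable [Finite X]

theorem double_le {H K : Subgroup X} (h : H < K) : 2 * Nat.card H ≤ Nat.card K := by
  obtain ⟨k, hk⟩ := Subgroup.card_dvd_of_le h.le
  have h2 : 2 ≤ k := by
    by_contra hlt
    interval_cases k
    · rw [mul_zero] at hk; exact Nat.card_pos.ne' hk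
    · rw [mul_one] at hk; exact h.ne (Subgroup.eq_of_le_of_card_ge h.le hk.le)
  rw [hk, mul_comm 2]
  exact Nat.mul_le_mul_left _ h2

theorem exists_two_involutions {A : Subgroup X} (h2 : IsPGroup 2 X) (hA : IsMulCommutative A) (hnc : ¬ IsCyclic A) :
    ∃ a ∈ A, ∃ b ∈ A, a * a = 1 ∧ b * b = 1 ∧ a ≠ 1 ∧ b ≠ 1 ∧ a ≠ b := by
  letI : CommGroup A := { (inferInstance : Group A) with mul_comm := fun a b => hA.is_comm.comm a b }
  by_contra hno
  push Not at hno
  apply hnc
  by_cases hex : ∃ z : A, z ^ 2 = 1 ∧ z ≠ 1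
  · obtain ⟨z, hz, hz1⟩ := hex
    refine GenBound.cyclic_of_unique_involution (h2.to_subgroup A) (z := z) fun a ha => ?_
    by_cases ha1 : a = 1
    · exact Or.inl ha1
    · exact Or.inr (Subtype.ext (hno a a.2 z z.2
        (by rw [← pow_two]; exact congrArg Subtype.val ha) (by rw [← pow_two]; exact congrArg Subtype.val hz)
        (fun e => ha1 (Subtype.ext e)) (fun e => hz1 (Subtype.ext e))))
  · push Not at hex
    exact GenBound.cyclic_of_unique_involution (h2.to_subgroup A) (z := 1) fun a ha => Or.inl (hex a ha)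

theorem not_cyclic_of_involutions {A : Subgroup X} {a b : X} (ha : a ∈ A) (hb : b ∈ A) (haa : a * a = 1)
    (hbb : b * b = 1) (ha1 : a ≠ 1) (hb1 : b ≠ 1) (hab : a ≠ b) : ¬ IsCyclic A := by
  intro hc
  haveI := Fintype.ofFinite A
  classical
  have h := IsCyclic.card_pow_eq_one_le (α := A) (n := 2) (by norm_num)
  have hsub : ({1, ⟨a, ha⟩, ⟨b, hb⟩} : Finset A) ⊆ Finset.univ.filter fun x : A => x ^ 2 = 1 := by
    intro x hx
    simp only [Finset.mem_insert, Finset.mem_singleton] at hx
    simp only [Finset.mem_filter, Finset.mem_univ, true_and]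
    rcases hx with rfl | rfl | rfl
    · exact one_pow 2
    · exact Subtype.ext (by rw [Subgroup.coe_pow, pow_two]; exact haa)
    · exact Subtype.ext (by rw [Subgroup.coe_pow, pow_two]; exact hbb)
  have hc3 : ({1, ⟨a, ha⟩, ⟨b, hb⟩} : Finset A).card = 3 := by
    rw [Finset.card_insert_of_notMem, Finset.card_pair]
    · exact fun e => hab (congrArg Subtype.val e)
    · simp only [Finset.mem_insert, Finset.mem_singleton, not_or]
      exact ⟨fun e => ha1 (congrArg Subtype.val e).symm, fun e => hb1 (congrArg Subtype.val e).symm⟩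
  have h3 := (Finset.card_le_card hsub).trans h
  omega

theorem closure_two_involutions {G : Type*} [Group G] {a b : G} (ha : a * a = 1) (hb : b * b = 1)
    (hc : b * a = a * b) : (Subgroup.closure ({a, b} : Set G) : Set G) ⊆ {1, a, b, a * b} := by
  have c' : ∀ w, b * (a * w) = a * (b * w) := fun w => by rw [← mul_assoc, hc, mul_assoc]
  have a' : ∀ w, a * (a * w) = w := fun w => by rw [← mul_assoc, ha, one_mul]
  have b' : ∀ w, b * (b * w) = w := fun w => by rw [← mul_assoc, hb, one_mul]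
  intro x hx
  induction hx using Subgroup.closure_induction with
  | mem y hy => rcases hy with rfl | rfl <;> simp
  | one => simp
  | mul y y' _ _ h h' =>
    simp only [Set.mem_insert_iff, Set.mem_singleton_iff] at h h' ⊢
    rcases h with rfl | rfl | rfl | rfl <;> rcases h' with rfl | rfl | rfl | rfl <;>
      simp [mul_assoc, ha, hb, hc, a', b', c']
  | inv y _ h =>
    have e : a⁻¹ = a := inv_eq_of_mul_eq_one_right ha
    have e' : b⁻¹ = b := inv_eq_of_mul_eq_one_right hb
    simp only [Set.mem_insert_iff, Set.mem_singleton_iff] at h ⊢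
    rcases h with rfl | rfl | rfl | rfl <;> simp [e, e', hc]

theorem good_of_big (h2 : IsPGroup 2 X) {A Y : Subgroup X} (hAY : A ≤ Y) (hA : IsMulCommutative A) {a b : X}
    (ha : a ∈ A) (hb : b ∈ A) (haa : a * a = 1) (hbb : b * b = 1) (ha1 : a ≠ 1) (hb1 : b ≠ 1) (hab : a ≠ b)
    (h8 : 8 ≤ Nat.card A) : Good Y := by
  haveI : Fact (Nat.Prime 2) := ⟨Nat.prime_two⟩
  set V := Subgroup.closure ({(⟨a, ha⟩ : A), ⟨b, hb⟩} : Set A) with hV
  obtain ⟨k, hk⟩ := IsPGroup.iff_card.mp (h2.to_subgroup A)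
  obtain ⟨l, hl⟩ := IsPGroup.iff_card.mp ((h2.to_subgroup A).to_subgroup V)
  have h3k : 3 ≤ k := by
    by_contra hlt
    have : 2 ^ k ≤ 2 ^ 2 := Nat.pow_le_pow_right (by norm_num) (by omega)
    rw [← hk] at this
    omega
  have hl3 : l ≤ 3 := by
    by_contra hgt
    have hle : Nat.card V ≤ 4 := by
      have hsub : (V : Set A) ⊆ {1, ⟨a, ha⟩, ⟨b, hb⟩, ⟨a, ha⟩ * ⟨b, hb⟩} :=
        closure_two_involutions (Subtype.ext haa) (Subtype.ext hbb) (hA.is_comm.comm _ _)
      refine (Nat.card_mono (Set.toFinite _) hsub).trans ?_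
      rw [Nat.card_coe_set_eq]
      refine (Set.ncard_insert_le _ _).trans (Nat.succ_le_succ ((Set.ncard_insert_le _ _).trans
        (Nat.succ_le_succ ((Set.ncard_insert_le _ _).trans (Nat.succ_le_succ (Set.ncard_singleton _).le)))))
    have : 2 ^ 4 ≤ 2 ^ l := Nat.pow_le_pow_right (by norm_num) (by omega)
    rw [← hl] at this
    omega
  obtain ⟨B, hB, hVB⟩ := Sylow.exists_subgroup_card_pow_prime_le 2 (G := A) (n := l) (m := 3)
    (hk ▸ pow_dvd_pow 2 h3k) V hl hl3
  refine ⟨B.map A.subtype, (Subgroup.map_subtype_le B).trans hAY, ?_, ?_, ?_⟩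
  · exact ⟨⟨fun u v => Subtype.ext (comm_subgroup hA (Subgroup.map_subtype_le B u.2) (Subgroup.map_subtype_le B v.2)).eq⟩⟩
  · exact not_cyclic_of_involutions ⟨⟨a, ha⟩, hVB (Subgroup.subset_closure (Or.inl rfl)), rfl⟩
      ⟨⟨b, hb⟩, hVB (Subgroup.subset_closure (Or.inr rfl)), rfl⟩ haa hbb ha1 hb1 hab
  · rw [Subgroup.card_map_of_injective A.subtype_injective, hB]; norm_num

/-- A four-group and a further element centralising it. -/
theorem good_of_four (h2 : IsPGroup 2 X) {U Y : Subgroup X} (hU : IsMulCommutative U) (hUnc : ¬ IsCyclic U)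
    (hUY : U ≤ Y) {y : X} (hy : y ∈ Y) (hyU : y ∉ U) (hc : ∀ u ∈ U, Commute y u) : Good Y := by
  obtain ⟨a, ha, b, hb, haa, hbb, ha1, hb1, hab⟩ := exists_two_involutions h2 hU hUnc
  set A := Subgroup.closure ((U : Set X) ∪ {y}) with hA
  have hAY : A ≤ Y := (Subgroup.closure_le _).mpr (Set.union_subset hUY (by simpa using hy))
  have hAc : IsMulCommutative A := Subgroup.isMulCommutative_closure fun u hu v hv => by
    rcases hu with hu | rfl <;> rcases hv with hv | rfl
    · exact (comm_subgroup hU hu hv).eq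
    · exact (hc u hu).eq.symm
    · exact (hc v hv).eq
    · rfl
  have hUA : U < A := lt_of_le_of_ne (fun u hu => Subgroup.subset_closure (Or.inl hu))
    (fun e => hyU (e ▸ Subgroup.subset_closure (Or.inr rfl)))
  have h4 : 4 ≤ Nat.card U := by
    obtain ⟨k, hk⟩ := IsPGroup.iff_card.mp (h2.to_subgroup U)
    by_contra hlt
    apply hUnc
    haveI : Fact (Nat.Prime 2) := ⟨Nat.prime_two⟩
    have hk1 : k ≤ 1 := by
      by_contra hk2
      have : 2 ^ 2 ≤ 2 ^ k := Nat.pow_le_pow_right (by norm_num) (by omega)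
      rw [← hk] at this
      omega
    interval_cases k
    · haveI : Subsingleton U := (Nat.card_eq_one_iff_unique.mp hk).1
      exact isCyclic_of_subsingleton
    · exact isCyclic_of_prime_card (p := 2) hk
  have h8 := double_le hUA
  exact good_of_big h2 hAY hAc (hUA.le ha) (hUA.le hb) haa hbb ha1 hb1 hab (by omega)

/-- Two commuting elements. -/
theorem good_of_comm (h2 : IsPGroup 2 X) {Y : Subgroup X} {x y : X} (hx : x ∈ Y) (hy : y ∈ Y) (hc : Commute x y)
    (h4 : 4 ≤ orderOf x) (hle : orderOf y ∣ orderOf x) (hyx : y ∉ Subgroup.zpowers x) : Good Y := by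
  set A := Subgroup.closure ({x, y} : Set X) with hA
  have hAY : A ≤ Y := (Subgroup.closure_le _).mpr (by rintro w (rfl | rfl) <;> assumption)
  have hAc : IsMulCommutative A := comm_closure_pair hc
  have hxA : x ∈ A := Subgroup.subset_closure (Or.inl rfl)
  have hyA : y ∈ A := Subgroup.subset_closure (Or.inr rfl)
  have hlt : Subgroup.zpowers x < A := lt_of_le_of_ne (Subgroup.zpowers_le.mpr hxA) (fun e => hyx (e ▸ hyA))
  have hAnc : ¬ IsCyclic A := by
    intro hcy
    apply hyx
    haveI := Fintype.ofFinite A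
    classical
    have h := IsCyclic.card_pow_eq_one_le (α := A) (n := orderOf x) (orderOf_pos x)
    set s := (Finset.univ.filter fun w : A => w ^ orderOf x = 1)
    set t := (Finset.univ.filter fun w : A => (w : X) ∈ Subgroup.zpowers x)
    have hts : t ⊆ s := by
      intro w hw
      simp only [t, s, Finset.mem_filter, Finset.mem_univ, true_and] at hw ⊢
      exact Subtype.ext (by
        rw [Subgroup.coe_pow, Subgroup.coe_one]
        exact orderOf_dvd_iff_pow_eq_one.mp (orderOf_dvd_of_mem_zpowers hw))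
    have hcard : t.card = orderOf x := by
      rw [← Nat.card_zpowers x, ← Fintype.card_subtype, ← Nat.card_eq_fintype_card]
      exact Nat.card_congr
        { toFun := fun w => ⟨_, w.2⟩
          invFun := fun w => ⟨⟨w, hlt.le w.2⟩, w.2⟩
          left_inv := fun w => rfl
          right_inv := fun w => rfl }
    have hst : s = t := (Finset.eq_of_subset_of_card_le hts (h.trans hcard.ge)).symm
    have hys : (⟨y, hyA⟩ : A) ∈ s := by
      simp only [s, Finset.mem_filter, Finset.mem_univ, true_and]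
      exact Subtype.ext (by rw [Subgroup.coe_pow, Subgroup.coe_one]; exact orderOf_dvd_iff_pow_eq_one.mp hle)
    rw [hst] at hys
    exact (Finset.mem_filter.mp hys).2
  obtain ⟨a, ha, b, hb, haa, hbb, ha1, hb1, hab⟩ := exists_two_involutions h2 hAc hAnc
  have h8 := double_le hlt
  rw [Nat.card_zpowers] at h8
  exact good_of_big h2 hAY hAc ha hb haa hbb ha1 hb1 hab (by omega)

theorem orderOf_eq_four {e z : X} (hz : e * e = z) (hz1 : z ≠ 1) (hzz : z * z = 1) : orderOf e = 4 :=
  orderOf_eq_prime_pow (p := 2) (n := 1) (by rw [pow_one, pow_two, hz]; exact hz1)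
    (by rw [show 2 ^ (1 + 1) = 2 * 2 by norm_num, pow_mul, pow_two e, hz, pow_two, hzz])

/-- Commutators and squares in a central subgroup of order two. -/
theorem good_of_squares (h2 : IsPGroup 2 X) {Y : Subgroup X} {z : X} (hz1 : z ≠ 1) (hzz : z * z = 1) (hzY : z ∈ Y)
    (hzc : ∀ y ∈ Y, Commute z y) (hsq : ∀ y ∈ Y, y * y = 1 ∨ y * y = z)
    (hcm : ∀ a ∈ Y, ∀ b ∈ Y, ⁅a, b⁆ = 1 ∨ ⁅a, b⁆ = z) (h16 : 16 ≤ Nat.card Y) : Good Y := by
  haveI : Fact (Nat.Prime 2) := ⟨Nat.prime_two⟩
  by_cases hex : ∃ a ∈ Y, a * a ≠ 1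
  · obtain ⟨a, ha, haa⟩ := hex
    have haz : a * a = z := (hsq a ha).resolve_left haa
    have ha4 := orderOf_eq_four haz hz1 hzz
    -- the centraliser of `a` in `Y` is large
    set C := Y ⊓ Subgroup.centralizer ({a} : Set X) with hC
    have hidx : Nat.card Y ≤ 2 * Nat.card C := by
      have hcases : ∀ b ∈ Y, ∀ b' ∈ Y, b ∉ C → b' ∉ C → b⁻¹ * b' ∈ C := by
        intro b hb b' hb' hbC hb'C
        refine ⟨Y.mul_mem (Y.inv_mem hb) hb', Subgroup.mem_centralizer_singleton_iff.mpr ?_⟩
        have key : ∀ w ∈ Y, w ∉ C → w * a = z * (a * w) := by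
          intro w hw hwC
          rcases hcm w hw a ha with h | h
          · exact absurd ⟨hw, Subgroup.mem_centralizer_singleton_iff.mpr (commutatorElement_eq_one_iff_mul_comm.mp h)⟩ hwC
          · rw [← h, commutatorElement_def]; group
        have e1 := key b hb hbC
        have e2 := key b' hb' hb'C
        have hzb : Commute z b := hzc b hb
        calc b⁻¹ * b' * a = b⁻¹ * (z * (a * b')) := by rw [mul_assoc, e2]
          _ = b⁻¹ * (z * (a * b)) * (b⁻¹ * b') := by group
          _ = b⁻¹ * (b * a) * (b⁻¹ * b') := by rw [← e1]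
          _ = a * (b⁻¹ * b') := by group
      have h1 := (C.subgroupOf Y).card_mul_index
      rw [Nat.card_congr (Subgroup.subgroupOfEquivOfLe (show C ≤ Y from inf_le_left)).toEquiv] at h1
      rw [← h1, mul_comm 2]
      refine Nat.mul_le_mul_left _ ?_
      rw [Subgroup.index_eq_card]
      by_contra hgt
      push Not at hgt
      obtain ⟨p₁, p₂, p₃, h12, h13, h23⟩ : ∃ p₁ p₂ p₃ : Y ⧸ C.subgroupOf Y, p₁ ≠ p₂ ∧ p₁ ≠ p₃ ∧ p₂ ≠ p₃ := by
        haveI := Fintype.ofFinite (Y ⧸ C.subgroupOf Y)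
        obtain ⟨p₁, p₂, p₃, -, -, -, h12, h13, h23⟩ := Finset.two_lt_card_iff.mp
          (show 2 < (Finset.univ : Finset (Y ⧸ C.subgroupOf Y)).card by
            rw [Finset.card_univ, ← Nat.card_eq_fintype_card]; exact hgt)
        exact ⟨p₁, p₂, p₃, h12, h13, h23⟩
      obtain ⟨⟨b₁, hb₁⟩, rfl⟩ := QuotientGroup.mk_surjective p₁
      obtain ⟨⟨b₂, hb₂⟩, rfl⟩ := QuotientGroup.mk_surjective p₂
      obtain ⟨⟨b₃, hb₃⟩, rfl⟩ := QuotientGroup.mk_surjective p₃
      rw [Ne, QuotientGroup.eq, Subgroup.mem_subgroupOf] at h12 h13 h23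
      by_cases c1 : b₁ ∈ C <;> by_cases c2 : b₂ ∈ C
      · exact h12 (C.mul_mem (C.inv_mem c1) c2)
      · by_cases c3 : b₃ ∈ C
        · exact h13 (C.mul_mem (C.inv_mem c1) c3)
        · exact h23 (hcases b₂ hb₂ b₃ hb₃ c2 c3)
      · by_cases c3 : b₃ ∈ C
        · exact h23 (C.mul_mem (C.inv_mem c2) c3)
        · exact h13 (hcases b₁ hb₁ b₃ hb₃ c1 c3)
      · exact h12 (hcases b₁ hb₁ b₂ hb₂ c1 c2)
    obtain ⟨b, hb, hba⟩ : ∃ b ∈ C, b ∉ Subgroup.zpowers a := by
      by_contra hno
      push Not at hno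
      have := Subgroup.card_le_of_le (show C ≤ Subgroup.zpowers a from hno)
      rw [Nat.card_zpowers, ha4] at this
      omega
    refine good_of_comm h2 ha hb.1 (Subgroup.mem_centralizer_singleton_iff.mp hb.2).symm ha4.ge ?_ hba
    rw [ha4]
    refine orderOf_dvd_of_pow_eq_one ?_
    rw [show 4 = 2 * 2 by norm_num, pow_mul, pow_two b]
    rcases hsq b hb.1 with h | h <;> rw [h]
    · exact one_pow 2
    · rw [pow_two, hzz]
  · push Not at hex
    have hA : IsMulCommutative Y := ⟨⟨fun u v => Subtype.ext (by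
      show (u : X) * v = v * u
      have h1 := hex _ (Y.mul_mem u.2 v.2)
      have hu := hex _ u.2
      have hv := hex _ v.2
      calc (u : X) * v = ((u : X) * v)⁻¹ := eq_inv_of_mul_eq_one_left h1
        _ = (v : X)⁻¹ * (u : X)⁻¹ := mul_inv_rev _ _
        _ = v * u := by rw [← eq_inv_of_mul_eq_one_left hv, ← eq_inv_of_mul_eq_one_left hu])⟩⟩
    obtain ⟨b, hb, hbz⟩ : ∃ b ∈ Y, b ∉ Subgroup.zpowers z := by
      by_contra hno
      push Not at hno
      have := Subgroup.card_le_of_le (show Y ≤ Subgroup.zpowers z from hno)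
      rw [Nat.card_zpowers, orderOf_eq_prime (p := 2) (by rw [pow_two, hzz]) hz1] at this
      omega
    exact good_of_big h2 le_rfl hA hzY hb hzz (hex b hb) hz1
      (fun e => hbz (e ▸ Subgroup.one_mem _)) (fun e => hbz (e ▸ Subgroup.mem_zpowers z)) (by omega)

end H31.Eight
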