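import Cfsg.Agent.H31.EightTools
import Cfsg.Agent.H68.ExtraComm

/-! Structure of 2-groups, with an action of odd order, minimal with a non-cyclic abelian subgroup of order 8. -/

set_option autoImplicit false
set_option linter.style.haveILetI false
set_option linter.unusedSectionVars false
set_option linter.unusedVariables false

namespace H31.Eight

open scoped commutatorElement

universe u v

variable {X : Type u} [Group X] [Finite X]

theorem two_mem {z w : X} (hzz : z * z = 1) (h : w ∈ Subgroup.zpowers z) : w = 1 ∨ w = z := by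
  obtain ⟨i, rfl⟩ := H30.exists_npow_of_mem_zpowers h
  rw [← Nat.div_add_mod i 2, pow_add, pow_mul, pow_two, hzz, one_pow, one_mul]
  rcases Nat.mod_two_eq_zero_or_one i with h | h <;> simp [h]

theorem card_pair {z : X} (hz1 : z ≠ 1) (hzz : z * z = 1) : orderOf z = 2 :=
  orderOf_eq_prime (p := 2) (by rw [pow_two, hzz]) hz1

theorem fixed_of_char {z : X} (hz1 : z ≠ 1) (hzz : z * z = 1) (hch : (Subgroup.zpowers z).Characteristic)
    (f : MulAut X) : f z = z := by
  have h := Subgroup.characteristic_iff_map_le.mp hch f ⟨z, Subgroup.mem_zpowers z, rfl⟩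
  rcases two_mem hzz h with h | h
  · exact absurd ((map_eq_one_iff f f.injective).mp h) hz1
  · exact h

theorem center_comm_of {x y : X} (h : y ∈ Subgroup.center X) : Commute x y := Subgroup.mem_center_iff.mp h x

theorem not_comm_of {hna : ¬ IsMulCommutative X} : ∃ a b : X, ¬ Commute a b := by
  by_contra hno
  push Not at hno
  exact hna ⟨⟨fun a b => hno a b⟩⟩

theorem top_comm {H : Subgroup X} (hH : IsMulCommutative H) (h : H = ⊤) : IsMulCommutative X := by
  subst h
  exact ⟨⟨fun a b => congrArg Subtype.val (hH.is_comm.comm ⟨a, trivial⟩ ⟨b, trivial⟩)⟩⟩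

theorem noncyclic_card_ge (h2 : IsPGroup 2 X) {U : Subgroup X} (hnc : ¬ IsCyclic U) : 4 ≤ Nat.card U := by
  haveI : Fact (Nat.Prime 2) := ⟨Nat.prime_two⟩
  obtain ⟨k, hk⟩ := IsPGroup.iff_card.mp (h2.to_subgroup U)
  by_contra hlt
  apply hnc
  have hk1 : k ≤ 1 := by
    by_contra hk2
    have : 2 ^ 2 ≤ 2 ^ k := Nat.pow_le_pow_right (by norm_num) (by omega)
    rw [← hk] at this
    omega
  interval_cases k
  · haveI : Subsingleton U := (Nat.card_eq_one_iff_unique.mp hk).1
    exact isCyclic_of_subsingleton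
  · exact isCyclic_of_prime_card (p := 2) hk

theorem four_sq (h2 : IsPGroup 2 X) {U : Subgroup X} (hnc : ¬ IsCyclic U) (h4 : Nat.card U = 4) :
    ∀ u ∈ U, u * u = 1 := by
  intro u hu
  by_contra hne
  apply hnc
  haveI : Fact (Nat.Prime 2) := ⟨Nat.prime_two⟩
  obtain ⟨k, hk⟩ := IsPGroup.iff_orderOf.mp h2 u
  refine isCyclic_of_orderOf_eq_card (⟨u, hu⟩ : U) ?_
  rw [Subgroup.orderOf_mk, h4]
  have hdvd : 2 ^ k ∣ 2 ^ 2 := by
    rw [← hk, show (2 : ℕ) ^ 2 = 4 by norm_num, ← h4]
    exact U.orderOf_dvd_natCard hu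
  have hk2 := (Nat.pow_dvd_pow_iff_le_right (by norm_num)).mp hdvd
  rcases (show k ≤ 1 ∨ k = 2 by omega) with h | rfl
  · exfalso; apply hne
    rw [← pow_two, ← orderOf_dvd_iff_pow_eq_one, hk]
    exact (pow_dvd_pow 2 h).trans (by norm_num)
  · rw [hk]; norm_num

/-- Every abelian subgroup of order `8` of a group of order `8` is everything. -/
theorem card_ge_of_good (h2 : IsPGroup 2 X) (hG : Good (⊤ : Subgroup X)) (hna : ¬ IsMulCommutative X) :
    16 ≤ Nat.card X := by
  obtain ⟨A, -, hA, -, h8⟩ := hG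
  have hlt : A < ⊤ := lt_top_iff_ne_top.mpr fun h => hna (top_comm hA h)
  have := double_le hlt
  rw [Subgroup.card_top, h8] at this
  exact this

/-- The conclusion in the quaternion case. -/
theorem quaternion_case {a b z : X} {U : Subgroup X} (hU : U ≤ Subgroup.center X) (hU4 : Nat.card U = 4)
    (h16 : Nat.card X = 16) (hz1 : z ≠ 1) (hzz : z * z = 1) (ha : a * a = z) (hb : b * b = z) (hcm : ⁅b, a⁆ = z) :
    ∃ (X₀ : Subgroup X) (k : ℕ), X₀.index = 2 ∧ Nonempty (↥X₀ ≃* QuaternionGroup (2 ^ (k + 1))) ∧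
      X₀ ⊔ Subgroup.centralizer (X₀ : Set X) = ⊤ := by
  obtain ⟨he, h8⟩ := q8_of_pair hz1 hzz ha hb hcm
  set X₀ := Subgroup.closure ({a, b} : Set X) with hX₀
  have haX : a ∈ X₀ := Subgroup.subset_closure (Or.inl rfl)
  have hbX : b ∈ X₀ := Subgroup.subset_closure (Or.inr rfl)
  refine ⟨X₀, 0, ?_, he, ?_⟩
  · have h1 := X₀.card_mul_index
    rw [h8, h16] at h1
    omega
  · refine top_le_iff.mp ?_
    have hUC : U ≤ Subgroup.centralizer (X₀ : Set X) := hU.trans (Subgroup.center_le_centralizer _)
    refine le_trans ?_ (sup_le_sup_left hUC _)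
    refine top_le_iff.mpr (Subgroup.eq_top_of_card_eq _ (le_antisymm (Subgroup.card_le_card_group _) ?_))
    have hnb : ¬ Commute b a := fun h => hz1 (hcm.symm.trans (commutatorElement_eq_one_iff_mul_comm.mpr h))
    have hlt : X₀ < X₀ ⊔ U := left_lt_sup.mpr fun hle => by
      have haU : a ∉ U := fun h => hnb (center_comm_of (hU h))
      have h1 : U ⊔ Subgroup.zpowers a = X₀ := by
        refine Subgroup.eq_of_le_of_card_ge (sup_le hle (Subgroup.zpowers_le.mpr haX)) ?_
        have hlt' : U < U ⊔ Subgroup.zpowers a :=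
          left_lt_sup.mpr fun h => haU (h (Subgroup.mem_zpowers a))
        have := double_le hlt'
        omega
      have h2 : U ⊔ Subgroup.zpowers a ≤ Subgroup.centralizer ({a} : Set X) :=
        sup_le (hU.trans (Subgroup.center_le_centralizer _))
          (Subgroup.zpowers_le.mpr (Subgroup.mem_centralizer_singleton_iff.mpr rfl))
      rw [h1] at h2
      exact hnb (Subgroup.mem_centralizer_singleton_iff.mp (h2 hbX))
    have := double_le hlt
    omega

theorem pair_of_root {z r : X} (hrc : r ∈ Subgroup.center X) (hr : r * r = z)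
    (hsq : ∀ y : X, y * y = 1 ∨ y * y = z) (hcm : ∀ a b : X, ⁅a, b⁆ = 1 ∨ ⁅a, b⁆ = z)
    (hna : ¬ IsMulCommutative X) : ∃ a b : X, a * a = z ∧ b * b = z ∧ ⁅b, a⁆ = z := by
  obtain ⟨a, b, hab⟩ := not_comm_of (hna := hna)
  have hadj : ∀ y : X, ∃ y', y' * y' = z ∧ ∀ w : X, Commute w y' → Commute w y := by
    intro y
    rcases hsq y with h | h
    · refine ⟨y * r, ?_, fun w hw => ?_⟩
      · calc y * r * (y * r) = y * y * (r * r) := (center_comm_of (x := y) hrc).symm.mul_mul_mul_comm y r
          _ = z := by rw [h, hr, one_mul]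
      · have := hw.mul_right (center_comm_of (x := w) hrc).inv_right
        rwa [mul_inv_cancel_right] at this
    · exact ⟨y, h, fun w hw => hw⟩
  obtain ⟨a', ha', hca⟩ := hadj a
  obtain ⟨b', hb', hcb⟩ := hadj b
  refine ⟨a', b', ha', hb', (hcm b' a').resolve_left fun h => hab ?_⟩
  exact hcb a (hca b' (commutatorElement_eq_one_iff_mul_comm.mp h)).symm

variable {K : Type v} [Group K] [Finite K]

/-- An invariant complement over `⟨z⟩` of a central subgroup of order 4. -/
theorem exists_complement (φ : K →* MulAut X) (hK : Odd (Nat.card K)) {z : X} (hz1 : z ≠ 1) (hzz : z * z = 1)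
    {U : Subgroup X} (hU : U ≤ Subgroup.center X) (hzU : z ∈ U) (hU4 : Nat.card U = 4)
    (hUi : ∀ k, ∀ u ∈ U, φ k u ∈ U) (hzi : ∀ k, φ k z = z) (hsq : ∀ y : X, y * y = 1 ∨ y * y = z)
    (hcm : ∀ a b : X, ⁅a, b⁆ = 1 ∨ ⁅a, b⁆ = z) :
    ∃ E : Subgroup X, (∀ k, ∀ e ∈ E, φ k e ∈ E) ∧ z ∈ E ∧ E ≠ ⊤ ∧ Nat.card X = 2 * Nat.card E := by
  set N := Subgroup.zpowers z with hN
  have hmem : ∀ w : X, w = 1 ∨ w = z → w ∈ N := by
    rintro w (rfl | rfl)
    · exact N.one_mem
    · exact Subgroup.mem_zpowers _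
  haveI hNn : N.Normal := ⟨fun n hn g => by
    rw [(center_comm_of (x := g) ((Subgroup.zpowers_le.mpr (hU hzU)) hn)).eq, mul_inv_cancel_right]; exact hn⟩
  letI : CommGroup (X ⧸ N) :=
    { (inferInstance : Group (X ⧸ N)) with
      mul_comm := fun p q => by
        obtain ⟨a, rfl⟩ := QuotientGroup.mk_surjective p
        obtain ⟨b, rfl⟩ := QuotientGroup.mk_surjective q
        rw [← QuotientGroup.mk_mul, ← QuotientGroup.mk_mul, QuotientGroup.eq]
        have h := hmem _ (hcm b⁻¹ a⁻¹)
        rw [commutatorElement_def, inv_inv, inv_inv] at h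
        rwa [mul_inv_rev, ← mul_assoc] }
  have hNi : ∀ k, N ≤ N.comap (φ k).toMonoidHom := by
    intro k w hw
    obtain ⟨i, rfl⟩ := Subgroup.mem_zpowers_iff.mp hw
    show φ k (z ^ i) ∈ N
    rw [map_zpow, hzi]
    exact Subgroup.zpow_mem _ (Subgroup.mem_zpowers z) i
  let act : K →* Monoid.End (X ⧸ N) :=
    { toFun := fun k => QuotientGroup.map N N (φ k).toMonoidHom (hNi k)
      map_one' := by
        refine MonoidHom.ext fun p => ?_
        obtain ⟨a, rfl⟩ := QuotientGroup.mk_surjective p
        show ((φ 1 a : X) : X ⧸ N) = (a : X ⧸ N)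
        rw [map_one]; rfl
      map_mul' := fun k l => by
        refine MonoidHom.ext fun p => ?_
        obtain ⟨a, rfl⟩ := QuotientGroup.mk_surjective p
        show ((φ (k * l) a : X) : X ⧸ N) = ((φ k (φ l a) : X) : X ⧸ N)
        rw [map_mul]; rfl }
  obtain ⟨C, hCi, hCW, hCs⟩ := exists_invariant_complement act Nat.prime_two
    (fun p => by
      obtain ⟨a, rfl⟩ := QuotientGroup.mk_surjective p
      rw [← QuotientGroup.mk_pow, QuotientGroup.eq_one_iff, pow_two]
      exact hmem _ (hsq a))
    (fun h => by rw [Nat.odd_iff] at hK; omega)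
    (U.map (QuotientGroup.mk' N)) (by
      rintro k _ ⟨u, hu, rfl⟩
      exact ⟨φ k u, hUi k u hu, rfl⟩)
  set E := C.comap (QuotientGroup.mk' N) with hE
  have hNE : N ≤ E := fun w hw => by
    show (w : X ⧸ N) ∈ C
    rw [(QuotientGroup.eq_one_iff w).mpr hw]; exact C.one_mem
  have hEU : ∀ w ∈ E, w ∈ U → w ∈ N := fun w hwE hwU => by
    rw [← QuotientGroup.eq_one_iff, ← Subgroup.mem_bot, ← hCW]
    exact ⟨hwE, ⟨w, hwU, rfl⟩⟩
  have hsup : E ⊔ U = ⊤ := by
    refine eq_top_iff.mpr fun x _ => ?_
    obtain ⟨c, hc, _, ⟨u, hu, rfl⟩, hcw⟩ :=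
      Subgroup.mem_sup.mp (hCs ▸ Subgroup.mem_top (x : X ⧸ N))
    have hxe : x * u⁻¹ ∈ E := by
      show ((x * u⁻¹ : X) : X ⧸ N) ∈ C
      rw [QuotientGroup.mk_mul, QuotientGroup.mk_inv, ← hcw, QuotientGroup.mk'_apply, mul_inv_cancel_right]
      exact hc
    have := Subgroup.mul_mem_sup hxe hu
    rwa [inv_mul_cancel_right] at this
  haveI hEn : E.Normal := by
    haveI : C.Normal := inferInstance
    exact Subgroup.Normal.comap this _
  have hrel : E.relIndex U = 2 := by
    have h1 := (E.subgroupOf U).card_mul_index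
    have h3 : Nat.card ↥(E.subgroupOf U) = 2 := by
      rw [← Subgroup.inf_subgroupOf_right, Nat.card_congr (Subgroup.subgroupOfEquivOfLe inf_le_right).toEquiv,
        show E ⊓ U = N from le_antisymm (fun w hw => hEU w hw.1 hw.2) (le_inf hNE (Subgroup.zpowers_le.mpr hzU)),
        Nat.card_zpowers, card_pair hz1 hzz]
    rw [h3, hU4] at h1
    show (E.subgroupOf U).index = 2
    omega
  have hidx : E.index = 2 := by
    rw [← Subgroup.relIndex_top_right, ← hsup, sup_comm, Subgroup.relIndex_sup_right]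
    exact hrel
  refine ⟨E, fun k e he => ?_, hNE (Subgroup.mem_zpowers z), fun h => ?_, ?_⟩
  · exact hCi k _ he
  · rw [h, Subgroup.index_top] at hidx; omega
  · rw [← E.card_mul_index, hidx, mul_comm]

theorem extraspecial_noncomm {E : Type*} [Group E] [Finite E] (h : Cfsg.IsExtraspecial 2 E) :
    ∃ a b : E, ¬ Commute a b := by
  refine not_comm_of (hna := fun hc => ?_)
  have h1 : Subgroup.center E = ⊥ := by
    rw [← h.1.2.2, eq_bot_iff, commutator_def, Subgroup.commutator_le]
    intro a _ b _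
    rw [Subgroup.mem_bot, commutatorElement_eq_one_iff_mul_comm]
    exact hc.is_comm.comm a b
  have h2 := h.2
  rw [h1, Subgroup.card_bot] at h2
  omega

theorem exists_mul_of_commuting_sup {E R : Subgroup X} (hc : ∀ e ∈ E, ∀ r ∈ R, e * r = r * e) (htop : E ⊔ R = ⊤)
    (x : X) : ∃ e ∈ E, ∃ r ∈ R, e * r = x := by
  have hn : R ≤ Subgroup.normalizer (E : Set X) := fun r hr =>
    Subgroup.centralizer_le_normalizer (E : Set X) (Subgroup.mem_centralizer_iff.mpr fun e he => hc e he r hr)
  have hx : x ∈ ((E ⊔ R : Subgroup X) : Set X) := by rw [htop]; trivial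
  rw [Subgroup.coe_mul_of_right_le_normalizer_left E R hn] at hx
  exact Set.mem_mul.mp hx

/-- The possibilities when all characteristic abelian subgroups are cyclic. -/
theorem symplectic_cases (h2 : IsPGroup 2 X) (hna : ¬ IsMulCommutative X)
    (hsymp : ∀ A : Subgroup X, A.Characteristic → IsMulCommutative A → IsCyclic A) :
    Cfsg.IsExtraspecial 2 X ∨
    (∃ (u x : X) (r m : ℕ), orderOf u = 2 ^ m ∧ 3 ≤ m ∧ (Subgroup.zpowers u).index = 2 ∧ x ∉ Subgroup.zpowers u ∧
      x * u * x⁻¹ = u ^ r ∧ r % 4 = 3) ∨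
    (∃ Y : Subgroup X, Y.Characteristic ∧ Y ≠ ⊤ ∧ Good Y) ∨
    (∃ (E : Subgroup X) (r z : X) (k : ℕ), orderOf r = 2 ^ (k + 2) ∧ r ^ 2 ^ (k + 1) = z ∧
      r ∈ Subgroup.center X ∧ r ∉ E ∧ z ∈ E ∧ z ≠ 1 ∧ z * z = 1 ∧
      (∀ a ∈ E, ∀ b ∈ E, ⁅a, b⁆ = 1 ∨ ⁅a, b⁆ = z) ∧ (∀ a ∈ E, a * a = 1 ∨ a * a = z) ∧
      (∃ a ∈ E, ∃ b ∈ E, ¬ Commute a b) ∧ (∀ a ∈ E, a ∈ Subgroup.center X → a = 1 ∨ a = z) ∧
      (∀ x : X, ∃ e ∈ E, ∃ i : ℕ, x = e * r ^ i)) := by
  haveI : Fact (Nat.Prime 2) := ⟨Nat.prime_two⟩
  obtain ⟨E, R, hER, htop, hE, hR⟩ := H30.symplectic_type_structure h2 hsymp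
  have hdec := exists_mul_of_commuting_sup hER htop
  rcases hE with rfl | hE
  · rw [bot_sup_eq] at htop
    subst htop
    rcases hR with hc | ⟨-, h16, hf⟩
    · exact absurd (top_comm (H := ⊤) inferInstance rfl) hna
    · refine Or.inr (Or.inl ?_)
      rw [Subgroup.card_top] at h16
      refine isInvCyclicTwo_of_forms h2 h16 ?_
      have e := (Subgroup.topEquiv (G := X))
      rcases hf with ⟨m, ⟨g⟩⟩ | ⟨m, ⟨g⟩⟩ | ⟨n, hn, hcard, a, b, ha, hb, hab⟩
      · exact Or.inl ⟨m, ⟨e.symm.trans g⟩⟩
      · exact Or.inr (Or.inl ⟨m, ⟨e.symm.trans g⟩⟩)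
      · exact Or.inr (Or.inr ⟨n, hn, by rwa [Subgroup.card_top] at hcard, a, b,
          by rw [Subgroup.orderOf_coe]; exact ha, by rw [Subgroup.orderOf_coe]; exact hb,
          congrArg Subtype.val hab⟩)
  obtain ⟨z₀, hz₀, hzc, hcomm₀, hpow₀⟩ := H30.center_data hE
  set z : X := (z₀ : X) with hz
  have hzo : orderOf z = 2 := by rw [hz, Subgroup.orderOf_coe, hz₀]
  have hzz : z * z = 1 := by rw [← pow_two, ← hzo, pow_orderOf_eq_one]
  have hz1 : z ≠ 1 := fun h => by rw [h, orderOf_one] at hzo; omega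
  have hzE : z ∈ E := z₀.2
  have hlift : ∀ w : E, w ∈ Subgroup.zpowers z₀ → (w : X) = 1 ∨ (w : X) = z := fun w hw => by
    rcases H30.zpowers_two_cases hz₀ hw with rfl | rfl
    · exact Or.inl rfl
    · exact Or.inr rfl
  have hEcm : ∀ a ∈ E, ∀ b ∈ E, ⁅a, b⁆ = 1 ∨ ⁅a, b⁆ = z := fun a ha b hb => by
    have := hlift _ (hcomm₀ ⟨a, ha⟩ ⟨b, hb⟩)
    exact this
  have hEsq : ∀ a ∈ E, a * a = 1 ∨ a * a = z := fun a ha => by
    have := hlift _ (hpow₀ ⟨a, ha⟩)
    rwa [Subgroup.coe_pow, pow_two] at this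
  have hEn : ∃ a ∈ E, ∃ b ∈ E, ¬ Commute a b := by
    obtain ⟨a, b, h⟩ := extraspecial_noncomm hE
    exact ⟨a, a.2, b, b.2, fun h' => h (Subtype.ext h')⟩
  have hEc : ∀ a ∈ E, a ∈ Subgroup.center X → a = 1 ∨ a = z := fun a ha hac => by
    have h1 : (⟨a, ha⟩ : E) ∈ Subgroup.center E :=
      Subgroup.mem_center_iff.mpr fun g => Subtype.ext (Subgroup.mem_center_iff.mp hac g)
    rw [hzc] at h1
    exact hlift _ h1
  have hzX : z ∈ Subgroup.center X := by
    refine Subgroup.mem_center_iff.mpr fun x => ?_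
    obtain ⟨e, he, r, hr, rfl⟩ := hdec x
    have h1 : e * z = z * e := congrArg Subtype.val
      (Subgroup.mem_center_iff.mp (show z₀ ∈ Subgroup.center E by rw [hzc]; exact Subgroup.mem_zpowers _) ⟨e, he⟩)
    rw [mul_assoc, ← hER z hzE r hr, ← mul_assoc, h1, mul_assoc]
  rcases hR with hc | ⟨-, h16, hf⟩
  · obtain ⟨r, rfl⟩ := R.isCyclic_iff_exists_zpowers_eq_top.mp hc
    by_cases hrE : r ∈ E
    · left
      rw [sup_eq_left.mpr (Subgroup.zpowers_le.mpr hrE)] at htop
      subst htop
      exact H68.isExtraspecial_of_equiv Subgroup.topEquiv hE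
    · right; right; right
      have hrc : r ∈ Subgroup.center X := by
        refine Subgroup.mem_center_iff.mpr fun x => ?_
        obtain ⟨e, he, r', hr', rfl⟩ := hdec x
        obtain ⟨i, rfl⟩ := Subgroup.mem_zpowers_iff.mp hr'
        rw [mul_assoc, ← zpow_add_one, add_comm, zpow_add, zpow_one, ← mul_assoc,
          hER e he r (Subgroup.mem_zpowers r), mul_assoc]
      obtain ⟨k', hk'⟩ := IsPGroup.iff_orderOf.mp h2 r
      have hcyc : IsCyclic (Subgroup.center X) := hsymp _ inferInstance inferInstance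
      have hzr : ∀ w ∈ Subgroup.center X, w * w = 1 → w = 1 ∨ w = z := fun w hw hww =>
        two_mem hzz (H30.mem_zpowers_of_isCyclic h2 hcyc hw hzX (by rw [pow_two, hww]) hzo)
      obtain ⟨k, rfl⟩ : ∃ k, k' = k + 2 := by
        refine ⟨k' - 2, ?_⟩
        by_contra hlt
        have h1 : r * r = 1 := by
          rw [← pow_two, ← orderOf_dvd_iff_pow_eq_one, hk']
          exact (pow_dvd_pow 2 (show k' ≤ 1 by omega)).trans (by norm_num)
        rcases hzr r hrc h1 with h | h
        · exact hrE (h ▸ E.one_mem)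
        · exact hrE (h ▸ hzE)
      refine ⟨E, r, z, k, hk', ?_, hrc, hrE, hzE, hz1, hzz, hEcm, hEsq, hEn, hEc, fun x => ?_⟩
      · refine (hzr _ (Subgroup.pow_mem _ hrc _) ?_).resolve_left ?_
        · rw [← pow_add, ← orderOf_dvd_iff_pow_eq_one, hk', ← two_mul, ← pow_succ']
        · rw [← orderOf_dvd_iff_pow_eq_one, hk', Nat.pow_dvd_pow_iff_le_right (by norm_num)]
          omega
      · obtain ⟨e, he, r', hr', rfl⟩ := hdec x
        obtain ⟨i, rfl⟩ := H30.exists_npow_of_mem_zpowers hr'
        exact ⟨e, he, i, rfl⟩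
  · right; right; left
    obtain ⟨u, x, r, m, hu, hm, hidx, hx, hr, hr4⟩ := isInvCyclicTwo_of_forms (h2.to_subgroup R) h16 hf
    set Y := Subgroup.centralizer (commutator X : Set X) with hY
    haveI : (commutator X).Characteristic := inferInstance
    obtain ⟨huu, hxu⟩ := inv_not_comm hidx hx hu hm hr hr4
    have huuX : (u : X) * u ∈ commutator X := by
      have := Subgroup.mem_map_of_mem R.subtype huu
      rw [commutator_def, Subgroup.map_commutator] at this
      rw [commutator_def]
      exact Subgroup.commutator_mono le_top le_top this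
    haveI : (Subgroup.zpowers u).Normal := Subgroup.normal_of_index_eq_two hidx
    have hcomm : ∀ g : X, (∀ e ∈ E, ∀ e' ∈ E, Commute g ⁅e, e'⁆) →
        (∀ a b : R, (⁅a, b⁆ : R) ∈ Subgroup.zpowers u → Commute g ((⁅a, b⁆ : R) : X)) → g ∈ Y := by
      intro g h1 h3
      have hle : commutator X ≤ Subgroup.centralizer ({g} : Set X) := by
        rw [commutator_def, Subgroup.commutator_le]
        intro a _ b _
        obtain ⟨e, he, r₁, hr₁, rfl⟩ := hdec a
        obtain ⟨e', he', r₂, hr₂, rfl⟩ := hdec b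
        refine Subgroup.mem_centralizer_singleton_iff.mpr ?_
        have hsplit : ⁅e * r₁, e' * r₂⁆ = ⁅e, e'⁆ * ⁅r₁, r₂⁆ := by
          have c1 : Commute r₁ e' := (hER e' he' r₁ hr₁).symm
          have c2 : Commute r₂ e := (hER e he r₂ hr₂).symm
          have c3 : ∀ w ∈ E, Commute w (r₁ * r₂ * r₁⁻¹ * r₂⁻¹) := fun w hw =>
            hER w hw _ (R.mul_mem (R.mul_mem (R.mul_mem hr₁ hr₂) (R.inv_mem hr₁)) (R.inv_mem hr₂))
          rw [commutatorElement_def, commutatorElement_def, commutatorElement_def, mul_inv_rev, mul_inv_rev]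
          calc e * r₁ * (e' * r₂) * (r₁⁻¹ * e⁻¹) * (r₂⁻¹ * e'⁻¹)
              = e * (r₁ * e') * r₂ * r₁⁻¹ * (e⁻¹ * r₂⁻¹) * e'⁻¹ := by group
            _ = e * (e' * r₁) * r₂ * r₁⁻¹ * (r₂⁻¹ * e⁻¹) * e'⁻¹ := by
              rw [c1.eq, c2.inv_left.inv_right.eq]
            _ = e * e' * ((r₁ * r₂ * r₁⁻¹ * r₂⁻¹) * (e⁻¹ * e'⁻¹)) := by group
            _ = e * e' * ((e⁻¹ * e'⁻¹) * (r₁ * r₂ * r₁⁻¹ * r₂⁻¹)) := by
              rw [((c3 _ (E.mul_mem (E.inv_mem he) (E.inv_mem he')))).eq]
            _ = _ := by group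
        rw [hsplit]
        have h4 : (⁅(⟨r₁, hr₁⟩ : R), ⟨r₂, hr₂⟩⁆ : R) ∈ Subgroup.zpowers u := by
          haveI : IsMulCommutative (R ⧸ Subgroup.zpowers u) := by
            haveI := isCyclic_of_prime_card (α := R ⧸ Subgroup.zpowers u) (p := 2)
              (by rw [← Subgroup.index_eq_card, hidx])
            infer_instance
          exact (Subgroup.Normal.quotient_commutative_iff_commutator_le (N := Subgroup.zpowers u)).mp this
            (Subgroup.commutator_mem_commutator (Subgroup.mem_top _) (Subgroup.mem_top _))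
        exact ((h1 e he e' he').mul_right (h3 _ _ h4)).eq.symm
      exact Subgroup.mem_centralizer_iff.mpr fun c hc =>
        Subgroup.mem_centralizer_singleton_iff.mp (hle hc)
    have hzE' : ∀ g : X, ∀ e ∈ E, ∀ e' ∈ E, Commute g ⁅e, e'⁆ := fun g e he e' he' => by
      rcases hEcm e he e' he' with h | h <;> rw [h]
      · exact Commute.one_right g
      · exact center_comm_of hzX
    have heY : ∀ e ∈ E, e ∈ Y := fun e he =>
      hcomm e (hzE' e) fun a b _ => hER e he _ (⁅a, b⁆ : R).2
    have huY : (u : X) ∈ Y := hcomm _ (hzE' _) fun a b h => by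
      obtain ⟨i, hi⟩ := Subgroup.mem_zpowers_iff.mp h
      rw [← hi, Subgroup.coe_zpow]
      exact (Commute.refl _).zpow_right i
    refine ⟨Y, inferInstance, fun h => hxu ?_, ?_⟩
    · have hxY : (x : X) ∈ Y := by rw [h]; trivial
      exact Subtype.ext ((Subgroup.mem_centralizer_iff.mp hxY _ huuX).symm)
    · obtain ⟨e, he, heu⟩ : ∃ e ∈ E, e ∉ Subgroup.zpowers (u : X) := by
        obtain ⟨a, ha, b, hb, hab⟩ := hEn
        by_contra hno
        push Not at hno
        obtain ⟨i, hi⟩ := Subgroup.mem_zpowers_iff.mp (hno a ha)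
        obtain ⟨j, hj⟩ := Subgroup.mem_zpowers_iff.mp (hno b hb)
        exact hab (hi ▸ hj ▸ Commute.zpow_zpow_self _ _ _)
      refine good_of_comm h2 huY (heY e he) (hER e he _ u.2).symm ?_ ?_ heu
      · rw [Subgroup.orderOf_coe, hu]
        calc 4 = 2 ^ 2 := by norm_num
          _ ≤ 2 ^ m := Nat.pow_le_pow_right (by norm_num) (by omega)
      · rw [Subgroup.orderOf_coe, hu]
        refine orderOf_dvd_of_pow_eq_one ?_
        rw [show m = 2 + (m - 2) by omega, pow_add, pow_mul, show 2 ^ 2 = 2 * 2 by norm_num, pow_mul, pow_two e]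
        rcases hEsq e he with h | h <;> rw [h]
        · rw [one_pow, one_pow]
        · rw [pow_two, hzz, one_pow]

/-- **Structure of the Sylow subgroup.** -/
theorem core (h2 : IsPGroup 2 X) (hG : Good (⊤ : Subgroup X)) (φ : K →* MulAut X) (hK : Odd (Nat.card K))
    (hinv : ∀ Y : Subgroup X, Y ≠ ⊤ → (∀ k, ∀ y ∈ Y, φ k y ∈ Y) → ¬ Good Y) :
    IsMulCommutative X ∨ (Cfsg.IsExtraspecial 2 X ∧ 32 ≤ Nat.card X) ∨
      (∃ (X₀ : Subgroup X) (k : ℕ), X₀.index = 2 ∧ Nonempty (↥X₀ ≃* QuaternionGroup (2 ^ (k + 1))) ∧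
        X₀ ⊔ Subgroup.centralizer (X₀ : Set X) = ⊤) ∨
      (Cfsg.IsSpecial 2 X ∧ Nat.card (Subgroup.center X) = 4) := by
  haveI : Fact (Nat.Prime 2) := ⟨Nat.prime_two⟩
  by_cases hna : IsMulCommutative X
  · exact Or.inl hna
  refine Or.inr ?_
  have h16 := card_ge_of_good h2 hG hna
  obtain ⟨N, hN⟩ := IsPGroup.iff_card.mp h2
  have hbig : 16 < Nat.card X → 32 ≤ Nat.card X := fun h => by
    rw [hN] at h ⊢
    have h5 : 5 ≤ N := by
      by_contra hlt
      have : 2 ^ N ≤ 2 ^ 4 := Nat.pow_le_pow_right (by norm_num) (by omega)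
      omega
    calc 32 = 2 ^ 5 := by norm_num
      _ ≤ 2 ^ N := Nat.pow_le_pow_right (by norm_num) h5
  have hchar : ∀ Y : Subgroup X, Y.Characteristic → Y ≠ ⊤ → ¬ Good Y := fun Y hY hne =>
    hinv Y hne fun k y hy => Subgroup.characteristic_iff_map_le.mp hY (φ k) ⟨y, hy, rfl⟩
  have hbad : ∀ U : Subgroup X, U.Characteristic → IsMulCommutative U → ¬ IsCyclic U →
      Nat.card U = 4 ∧ U ≤ Subgroup.center X := by
    intro U hU hUc hUnc
    have h4 := noncyclic_card_ge h2 hUnc
    have hne : U ≠ ⊤ := fun h => hna (top_comm hUc h)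
    have hlt8 : Nat.card U < 8 := by
      by_contra hge
      obtain ⟨a, ha, b, hb, haa, hbb, ha1, hb1, hab⟩ := exists_two_involutions h2 hUc hUnc
      exact hchar U hU hne (good_of_big h2 le_rfl hUc ha hb haa hbb ha1 hb1 hab (by omega))
    have hU4 : Nat.card U = 4 := by
      obtain ⟨k, hk⟩ := IsPGroup.iff_card.mp (h2.to_subgroup U)
      have h1 : 2 ≤ k := by
        by_contra hlt
        have : 2 ^ k ≤ 2 ^ 1 := Nat.pow_le_pow_right (by norm_num) (by omega)
        omega
      have h3 : k ≤ 2 := by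
        by_contra hgt
        have : 2 ^ 3 ≤ 2 ^ k := Nat.pow_le_pow_right (by norm_num) (by omega)
        omega
      rw [hk, le_antisymm h3 h1]; norm_num
    refine ⟨hU4, ?_⟩
    set C := Subgroup.centralizer (U : Set X) with hC
    haveI := hU
    by_contra hcen
    have hCne : C ≠ ⊤ := fun h => hcen (Subgroup.centralizer_eq_top_iff_subset.mp h)
    have hCU : C ≤ U := by
      intro y hy
      by_contra hyU
      exact hchar C inferInstance hCne (good_of_four h2 hUc hUnc
        (Subgroup.le_centralizer_iff_isMulCommutative.mpr hUc) hy hyU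
        fun u hu => (Subgroup.mem_centralizer_iff.mp hy u hu).symm)
    have h5 := H30.index_centralizer_le_of_card_le (p := 2) h2 (E := U) inferInstance (by rw [hU4]; norm_num)
    have h6 := C.card_mul_index
    have h7 := Subgroup.card_le_of_le hCU
    rw [← hC] at h5
    nlinarith
  by_cases hsymp : ∀ A : Subgroup X, A.Characteristic → IsMulCommutative A → IsCyclic A
  · rcases symplectic_cases h2 hna hsymp with hE | hinvc | ⟨Y, hY, hne, hgood⟩ |
      ⟨E, r, z, k, hr, hrz, hrc, hrE, hzE, hz1, hzz, hEcm, hEsq, hEn, hEc, hdec⟩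
    · refine Or.inl ⟨hE, hbig (lt_of_le_of_ne h16 fun h16' => ?_)⟩
      obtain ⟨A, -, hA, -, hA8⟩ := hG
      have hidx : A.index = 2 := by
        have := A.card_mul_index
        rw [hA8, ← h16'] at this
        omega
      have hZ : ∀ a b : X, ⁅a, b⁆ ∈ Subgroup.center X := fun a b => by
        rw [← hE.1.2.2]; exact Subgroup.commutator_mem_commutator (Subgroup.mem_top a) (Subgroup.mem_top b)
      obtain ⟨g, hg⟩ : ∃ g, g ∉ A := by
        by_contra hno
        push Not at hno
        rw [(Subgroup.eq_top_iff' A).mpr hno, Subgroup.index_top] at hidx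
        omega
      obtain ⟨θ, hθ, -⟩ := exists_commutator_hom hidx (fun a ha b hb => (comm_subgroup hA ha hb).eq) hg
      have h1 : Nat.card θ.range ≤ 2 := by
        rw [← hE.2]
        refine Subgroup.card_le_of_le ?_
        rintro _ ⟨a, rfl⟩
        rw [hθ, ← commutatorElement_def]
        exact hZ _ _
      have h3 : Nat.card θ.ker ≤ 2 := by
        have h4 : θ.ker.map A.subtype ≤ Subgroup.center X := by
          rintro _ ⟨a, ha, rfl⟩
          refine Subgroup.mem_center_iff.mpr fun w => ?_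
          have hga : Commute g (a : X) := by
            have h5 := MonoidHom.mem_ker.mp ha
            rw [hθ, ← commutatorElement_def] at h5
            exact commutatorElement_eq_one_iff_mul_comm.mp h5
          by_cases hw : w ∈ A
          · exact (comm_subgroup hA hw a.2).eq
          · have hwg : w * g⁻¹ ∈ A := by
              rw [Subgroup.mul_mem_iff_of_index_two hidx, inv_mem_iff]; exact iff_of_false hw hg
            have := (comm_subgroup hA hwg a.2).mul_left hga
            rw [inv_mul_cancel_right] at this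
            exact this.eq
        have h6 := Subgroup.card_le_of_le h4
        rwa [Subgroup.card_map_of_injective A.subtype_injective, hE.2] at h6
      have h7 := θ.ker.card_mul_index
      rw [Subgroup.index_ker, hA8] at h7
      nlinarith
    · obtain ⟨u, x, r, m, hu, hm, h⟩ := hinvc
      exact absurd hG (not_good_inv ⟨u, x, r, m, hu, by omega, h⟩)
    · exact absurd hgood (hchar Y hY hne)
    · refine Or.inr (Or.inl ?_)
      have hsq' : ∀ (e : X) (i : ℕ), (e * r ^ i) * (e * r ^ i) = e * e * (r * r) ^ i := fun e i => by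
        rw [(center_comm_of (x := e) (Subgroup.pow_mem _ hrc i)).symm.mul_mul_mul_comm,
          ← (Commute.refl r).mul_pow]
      rcases Nat.eq_zero_or_pos k with rfl | hk
      · have hrz' : r * r = z := by rw [← hrz, zero_add, pow_one, pow_two]
        have hsq : ∀ y : X, y * y = 1 ∨ y * y = z := by
          intro y
          obtain ⟨e, he, i, rfl⟩ := hdec y
          rw [hsq', hrz']
          refine two_mem hzz (Subgroup.mul_mem _ ?_ (Subgroup.pow_mem _ (Subgroup.mem_zpowers z) i))
          rcases hEsq e he with h | h <;> rw [h]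
          · exact Subgroup.one_mem _
          · exact Subgroup.mem_zpowers z
        have hcm : ∀ a b : X, ⁅a, b⁆ = 1 ∨ ⁅a, b⁆ = z := by
          intro a b
          obtain ⟨e, he, i, rfl⟩ := hdec a
          obtain ⟨e', he', j, rfl⟩ := hdec b
          have ci : ∀ w, Commute w (r ^ i) := fun w => center_comm_of (Subgroup.pow_mem _ hrc i)
          have cj : ∀ w, Commute w (r ^ j) := fun w => center_comm_of (Subgroup.pow_mem _ hrc j)
          have : ⁅e * r ^ i, e' * r ^ j⁆ = ⁅e, e'⁆ := by
            rw [commutatorElement_def, commutatorElement_def, mul_inv_rev, mul_inv_rev,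
              show e * r ^ i * (e' * r ^ j) * ((r ^ i)⁻¹ * e⁻¹) * ((r ^ j)⁻¹ * e'⁻¹) =
                e * (r ^ i * (e' * r ^ j) * (r ^ i)⁻¹) * e⁻¹ * (r ^ j)⁻¹ * e'⁻¹ by group,
              (ci _).symm.eq, mul_inv_cancel_right, show e * (e' * r ^ j) * e⁻¹ * (r ^ j)⁻¹ * e'⁻¹ =
                e * e' * (r ^ j * e⁻¹ * (r ^ j)⁻¹) * e'⁻¹ by group, (cj _).symm.eq, mul_inv_cancel_right]
          rw [this]
          exact hEcm e he e' he'
        have hU : Subgroup.zpowers r ≤ Subgroup.center X := Subgroup.zpowers_le.mpr hrc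
        have hU4 : Nat.card (Subgroup.zpowers r) = 4 := by rw [Nat.card_zpowers, hr]; norm_num
        have hUeq : Subgroup.zpowers r = Subgroup.center X := by
          refine le_antisymm hU fun c hc => ?_
          obtain ⟨e, he, i, rfl⟩ := hdec c
          have hec : e ∈ Subgroup.center X := by
            have := Subgroup.mul_mem _ hc (Subgroup.inv_mem _ (Subgroup.pow_mem _ hrc i))
            rwa [mul_inv_cancel_right] at this
          refine Subgroup.mul_mem _ ?_ (Subgroup.pow_mem _ (Subgroup.mem_zpowers r) i)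
          rcases hEc e he hec with rfl | rfl
          · exact Subgroup.one_mem _
          · rw [← hrz']; exact Subgroup.mul_mem _ (Subgroup.mem_zpowers r) (Subgroup.mem_zpowers r)
        have hzU : z ∈ Subgroup.zpowers r := by
          rw [← hrz']; exact Subgroup.mul_mem _ (Subgroup.mem_zpowers r) (Subgroup.mem_zpowers r)
        have hUi : ∀ k, ∀ u ∈ Subgroup.zpowers r, φ k u ∈ Subgroup.zpowers r := fun k u hu => by
          rw [hUeq] at hu ⊢
          exact Subgroup.characteristic_iff_map_le.mp inferInstance (φ k) ⟨u, hu, rfl⟩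
        have hzi : ∀ k, φ k z = z := fun k => by
          have h1 : φ k z ∈ Subgroup.center X := hUeq ▸ hUi k z hzU
          obtain ⟨i, hi⟩ := H30.exists_npow_of_mem_zpowers (hUi k z hzU)
          have h3 : (r ^ i) * (r ^ i) = 1 := by rw [hi, ← map_mul, hzz, map_one]
          have h4 : φ k z ≠ 1 := fun h => hz1 ((map_eq_one_iff _ (φ k).injective).mp h)
          rw [← pow_add, ← orderOf_dvd_iff_pow_eq_one, hr] at h3
          obtain ⟨j, rfl⟩ : 2 ∣ i := by norm_num at h3; omega
          rw [pow_mul, pow_two, hrz'] at hi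
          rcases two_mem hzz (w := φ k z) (hi ▸ Subgroup.pow_mem _ (Subgroup.mem_zpowers z) j) with h | h
          · exact absurd h h4
          · exact h
        obtain ⟨E0, hE0i, hzE0, hE0, hcard⟩ := exists_complement φ hK hz1 hzz hU hzU hU4 hUi hzi hsq hcm
        have h16' : Nat.card X = 16 := by
          by_contra hne
          have h32 := hbig (lt_of_le_of_ne h16 (Ne.symm hne))
          exact hinv E0 hE0 hE0i (good_of_squares h2 hz1 hzz hzE0
            (fun y _ => (center_comm_of (x := y) (hU hzU)).symm) (fun y _ => hsq y) (fun a _ b _ => hcm a b) (by omega))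
        obtain ⟨a, b, ha, hb, hab⟩ := pair_of_root hrc hrz' hsq hcm hna
        exact quaternion_case hU hU4 h16' hz1 hzz ha hb hab
      · exfalso
        set Y := Subgroup.closure {y : X | y ^ 4 = 1} with hY
        have hYc : Y.Characteristic := by
          refine Subgroup.characteristic_iff_map_le.mpr fun f => ?_
          rw [hY, MonoidHom.map_closure, Subgroup.closure_le]
          rintro _ ⟨y, hy, rfl⟩
          refine Subgroup.subset_closure ?_
          show (f y) ^ 4 = 1
          rw [← map_pow, show y ^ 4 = 1 from hy, map_one]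
        have hE4 : ∀ e ∈ E, e ^ 4 = 1 := fun e he => by
          rw [show 4 = 2 * 2 by norm_num, pow_mul, pow_two e]
          rcases hEsq e he with h | h <;> rw [h]
          · exact one_pow 2
          · rw [pow_two, hzz]
        have hYle : Y ≤ E ⊔ Subgroup.zpowers (r * r) := by
          refine (Subgroup.closure_le _).mpr fun y hy => ?_
          obtain ⟨e, he, i, rfl⟩ := hdec y
          have h1 : (r ^ i) ^ 4 = 1 := by
            have h2 := hy
            rwa [Set.mem_setOf_eq, (center_comm_of (x := e) (Subgroup.pow_mem _ hrc i)).mul_pow, hE4 e he,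
              one_mul] at h2
          rw [← pow_mul, ← orderOf_dvd_iff_pow_eq_one, hr] at h1
          obtain ⟨j, rfl⟩ : 2 ∣ i := by
            have h3 : 2 ^ 3 ∣ i * 4 := (pow_dvd_pow 2 (by omega)).trans h1
            norm_num at h3
            omega
          refine Subgroup.mul_mem_sup he ?_
          rw [pow_mul, pow_two]
          exact Subgroup.pow_mem _ (Subgroup.mem_zpowers _) j
        have hYne : Y ≠ ⊤ := fun h => hrE (by
          have hmem : r ∈ ((E ⊔ Subgroup.zpowers (r * r) : Subgroup X) : Set X) := by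
            rw [show E ⊔ Subgroup.zpowers (r * r) = ⊤ from top_le_iff.mp (h.symm.le.trans hYle)]; trivial
          rw [Subgroup.coe_mul_of_right_le_normalizer_left E _ (fun w hw =>
            Subgroup.centralizer_le_normalizer (E : Set X) (Subgroup.center_le_centralizer _
              ((Subgroup.zpowers_le.mpr (Subgroup.mul_mem _ hrc hrc)) hw)))] at hmem
          obtain ⟨e, he, w, hw, hew⟩ := Set.mem_mul.mp hmem
          obtain ⟨j, rfl⟩ := Subgroup.mem_zpowers_iff.mp hw
          have h1 : r ^ (1 - 2 * j) ∈ E := by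
            have : r ^ (1 - 2 * j) = e := by
              rw [zpow_sub, zpow_one, zpow_mul, zpow_two]
              exact mul_inv_eq_of_eq_mul hew.symm
            rw [this]; exact he
          obtain ⟨s, t, hst⟩ : IsCoprime (1 - 2 * j) ((2 ^ (k + 2) : ℕ) : ℤ) := by
            push_cast
            exact IsCoprime.pow_right ⟨1, j, by ring⟩
          have h2 : r ^ ((1 - 2 * j) * s + ((2 ^ (k + 2) : ℕ) : ℤ) * t) ∈ E := by
            rw [zpow_add, zpow_mul, zpow_mul, zpow_natCast, ← hr, pow_orderOf_eq_one, one_zpow, mul_one]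
            exact Subgroup.zpow_mem _ h1 s
          rwa [mul_comm _ s, mul_comm _ t, hst, zpow_one] at h2)
        obtain ⟨a, ha, b, hb, hab⟩ := hEn
        refine hchar Y hYc hYne (good_of_comm h2 (x := r ^ 2 ^ k) (y := a) ?_ ?_ ?_ ?_ ?_ ?_)
        · refine Subgroup.subset_closure ?_
          show (r ^ 2 ^ k) ^ 4 = 1
          rw [← pow_mul, show 2 ^ k * 4 = 2 ^ (k + 2) by ring, ← hr, pow_orderOf_eq_one]
        · exact Subgroup.subset_closure (hE4 a ha)
        · exact (center_comm_of (x := a) (Subgroup.pow_mem _ hrc _)).symm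
        · rw [orderOf_pow_of_dvd (by positivity) (by rw [hr]; exact pow_dvd_pow 2 (by omega)), hr,
            show 2 ^ (k + 2) = 2 ^ k * 4 by ring, Nat.mul_div_cancel_left _ (by positivity)]
        · rw [orderOf_pow_of_dvd (by positivity) (by rw [hr]; exact pow_dvd_pow 2 (by omega)), hr,
            show 2 ^ (k + 2) = 2 ^ k * 4 by ring, Nat.mul_div_cancel_left _ (by positivity)]
          exact orderOf_dvd_of_pow_eq_one (hE4 a ha)
        · intro h
          exact hab (center_comm_of ((Subgroup.zpowers_le.mpr (Subgroup.pow_mem _ hrc _)) h)).symm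
  · push Not at hsymp
    obtain ⟨U, hU, hUc, hUnc⟩ := hsymp
    obtain ⟨hU4, hUZ⟩ := hbad U hU hUc hUnc
    have hUeq : Subgroup.center X = U := by
      have h1 : ¬ IsCyclic (Subgroup.center X) := fun h =>
        hUnc (isCyclic_of_injective (Subgroup.inclusion hUZ) (Subgroup.inclusion_injective _))
      exact (Subgroup.eq_of_le_of_card_ge hUZ (by rw [(hbad _ inferInstance inferInstance h1).1, hU4])).symm
    haveI := hU
    have hUne : U ≠ ⊤ := fun h => hna (top_comm hUc h)
    haveI : Nontrivial X := by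
      by_contra hnt
      rw [not_nontrivial_iff_subsingleton] at hnt
      rw [Nat.card_of_subsingleton (1 : X)] at h16
      omega
    have hΦ : frattini X ≤ U := by
      intro y hy
      by_contra hyU
      have hne : frattini X ⊔ U ≠ ⊤ := fun h => hUne (frattini_nongenerating (by rw [sup_comm]; exact h))
      exact hinv _ hne (fun k w hw => by
        have h1 : ((frattini X ⊔ U).map (φ k).toMonoidHom) ≤ frattini X ⊔ U := by
          rw [Subgroup.map_sup]
          exact sup_le_sup (Subgroup.characteristic_iff_map_le.mp inferInstance (φ k))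
            (Subgroup.characteristic_iff_map_le.mp hU (φ k))
        exact h1 ⟨w, hw, rfl⟩)
        (good_of_four h2 hUc hUnc le_sup_right (Subgroup.mem_sup_left hy) hyU
          fun u hu => center_comm_of (hUZ hu))
    have hX' : commutator X ≤ U := (commutator_le_frattini h2).trans hΦ
    have hU2 := four_sq h2 hUnc hU4
    by_cases hfull : commutator X = U
    · refine Or.inr (Or.inr ⟨⟨h2, ?_, ?_⟩, by rw [hUeq, hU4]⟩)
      · rw [hUeq]
        exact le_antisymm hΦ (hfull ▸ commutator_le_frattini h2)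
      · rw [hUeq, hfull]
    obtain ⟨a₀, b₀, hab₀⟩ := not_comm_of (hna := hna)
    set z := ⁅a₀, b₀⁆ with hz
    have hzX' : z ∈ commutator X := Subgroup.commutator_mem_commutator (Subgroup.mem_top _) (Subgroup.mem_top _)
    have hz1 : z ≠ 1 := fun h => hab₀ (commutatorElement_eq_one_iff_mul_comm.mp h)
    have hzz : z * z = 1 := hU2 z (hX' hzX')
    have hX'eq : commutator X = Subgroup.zpowers z := by
      refine (Subgroup.eq_of_le_of_card_ge (Subgroup.zpowers_le.mpr hzX') ?_).symm
      rw [Nat.card_zpowers, card_pair hz1 hzz]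
      by_contra hgt
      obtain ⟨j, hj⟩ := IsPGroup.iff_card.mp (h2.to_subgroup (commutator X))
      apply hfull
      refine Subgroup.eq_of_le_of_card_ge hX' ?_
      rw [hU4, hj]
      rcases Nat.lt_or_ge j 2 with hj2 | hj2
      · exfalso
        have : 2 ^ j ≤ 2 ^ 1 := Nat.pow_le_pow_right (by norm_num) (by omega)
        omega
      · exact le_of_eq_of_le (show 4 = 2 ^ 2 by norm_num) (Nat.pow_le_pow_right (by norm_num) hj2)
    have hcm : ∀ a b : X, ⁅a, b⁆ = 1 ∨ ⁅a, b⁆ = z := fun a b =>
      two_mem hzz (hX'eq ▸ Subgroup.commutator_mem_commutator (Subgroup.mem_top a) (Subgroup.mem_top b))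
    have hzc : z ∈ Subgroup.center X := hUZ (hX' hzX')
    haveI hzch : (Subgroup.zpowers z).Characteristic := hX'eq ▸ inferInstance
    have hsqU : ∀ a : X, a * a ∈ U := fun a => by
      rw [← pow_two]; exact hΦ (pow_mem_frattini h2 a)
    have hmulsq : ∀ a b : X, (a * b) * (a * b) * (b * b)⁻¹ * (a * a)⁻¹ ∈ Subgroup.zpowers z := fun a b => by
      have h1 : (a * b) * (a * b) * (b * b)⁻¹ * (a * a)⁻¹ = a * ⁅b, a⁆ * a⁻¹ := by
        rw [commutatorElement_def]; group
      rw [h1]
      exact (Subgroup.normal_of_characteristic _).conj_mem _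
        (hX'eq ▸ Subgroup.commutator_mem_commutator (Subgroup.mem_top b) (Subgroup.mem_top a)) a
    let Y : Subgroup X :=
      { carrier := {a | a * a ∈ Subgroup.zpowers z}
        one_mem' := by simp
        mul_mem' := fun {a b} ha hb => by
          have := Subgroup.mul_mem _ (Subgroup.mul_mem _ (hmulsq a b) ha) hb
          rwa [inv_mul_cancel_right, inv_mul_cancel_right] at this
        inv_mem' := fun {a} ha => by
          show a⁻¹ * a⁻¹ ∈ Subgroup.zpowers z
          rw [← mul_inv_rev]; exact Subgroup.inv_mem _ ha }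
    have hsq : ∀ a : X, a * a = 1 ∨ a * a = z := by
      by_contra hno
      push Not at hno
      obtain ⟨a, ha1, haz⟩ := hno
      have hYne : Y ≠ ⊤ := fun h => by
        have : a ∈ Y := h ▸ Subgroup.mem_top a
        rcases two_mem hzz this with h | h
        · exact ha1 h
        · exact haz h
      have hidx : Y.index ≤ 2 := by
        rw [Subgroup.index_eq_card]
        by_contra hgt
        push Not at hgt
        haveI := Fintype.ofFinite (X ⧸ Y)
        obtain ⟨p₁, p₂, p₃, -, -, -, h12, h13, h23⟩ := Finset.two_lt_card_iff.mp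
          (show 2 < (Finset.univ : Finset (X ⧸ Y)).card by
            rw [Finset.card_univ, ← Nat.card_eq_fintype_card]; exact hgt)
        obtain ⟨c₁, rfl⟩ := QuotientGroup.mk_surjective p₁
        obtain ⟨c₂, rfl⟩ := QuotientGroup.mk_surjective p₂
        obtain ⟨c₃, rfl⟩ := QuotientGroup.mk_surjective p₃
        rw [Ne, QuotientGroup.eq] at h12 h13 h23
        have key : ∀ c d : X, c ∉ Y → d ∉ Y → c⁻¹ * d ∈ Y := by
          intro c d hc hd
          show c⁻¹ * d * (c⁻¹ * d) ∈ Subgroup.zpowers z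
          have hidx2 : ((Subgroup.zpowers z).subgroupOf U).index = 2 := by
            have h1 := ((Subgroup.zpowers z).subgroupOf U).card_mul_index
            rw [Nat.card_congr (Subgroup.subgroupOfEquivOfLe (Subgroup.zpowers_le.mpr (hX' hzX'))).toEquiv,
              Nat.card_zpowers, card_pair hz1 hzz, hU4] at h1
            omega
          have h3 : c⁻¹ * c⁻¹ * (d * d) ∈ Subgroup.zpowers z := by
            have := (Subgroup.mul_mem_iff_of_index_two hidx2 (a := ⟨c⁻¹ * c⁻¹, hsqU _⟩) (b := ⟨d * d, hsqU _⟩)).mpr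
              (iff_of_false (fun h => hc (Y.inv_mem_iff.mp h)) hd)
            exact this
          have := Subgroup.mul_mem _ (hmulsq c⁻¹ d) h3
          rwa [show c⁻¹ * d * (c⁻¹ * d) * (d * d)⁻¹ * (c⁻¹ * c⁻¹)⁻¹ * (c⁻¹ * c⁻¹ * (d * d)) =
            c⁻¹ * d * (c⁻¹ * d) by group] at this
        by_cases q1 : c₁ ∈ Y <;> by_cases q2 : c₂ ∈ Y
        · exact h12 (Y.mul_mem (Y.inv_mem q1) q2)
        · by_cases q3 : c₃ ∈ Y
          · exact h13 (Y.mul_mem (Y.inv_mem q1) q3)
          · exact h23 (key _ _ q2 q3)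
        · by_cases q3 : c₃ ∈ Y
          · exact h23 (Y.mul_mem (Y.inv_mem q2) q3)
          · exact h13 (key _ _ q1 q3)
        · exact h12 (key _ _ q1 q2)
      have hUY : U ≤ Y := fun u hu => by
        show u * u ∈ Subgroup.zpowers z
        rw [hU2 u hu]; exact Subgroup.one_mem _
      obtain ⟨y, hyY, hyU⟩ : ∃ y ∈ Y, y ∉ U := by
        by_contra hno
        push Not at hno
        have h7 := Subgroup.card_le_of_le (show Y ≤ U from hno)
        have h6 := Y.card_mul_index
        nlinarith
      exact hinv Y hYne (fun k w hw => by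
        show φ k w * φ k w ∈ Subgroup.zpowers z
        rw [← map_mul]
        exact Subgroup.characteristic_iff_map_le.mp hzch (φ k) ⟨_, hw, rfl⟩)
        (good_of_four h2 hUc hUnc hUY hyY hyU fun u hu => center_comm_of (hUZ hu))
    refine Or.inr (Or.inl ?_)
    obtain ⟨E0, hE0i, hzE0, hE0, hcard⟩ := exists_complement φ hK hz1 hzz hUZ (hX' hzX') hU4
      (fun k u hu => Subgroup.characteristic_iff_map_le.mp hU (φ k) ⟨u, hu, rfl⟩)
      (fun k => fixed_of_char hz1 hzz hzch (φ k)) hsq hcm
    have h16' : Nat.card X = 16 := by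
      by_contra hne
      have h32 := hbig (lt_of_le_of_ne h16 (Ne.symm hne))
      exact hinv E0 hE0 hE0i (good_of_squares h2 hz1 hzz hzE0
        (fun y _ => (center_comm_of (x := y) hzc).symm) (fun y _ => hsq y) (fun a _ b _ => hcm a b) (by omega))
    rcases pair_or_comm hsq hcm with ⟨a, b, ha, hb, hab⟩ | hW
    · exact quaternion_case hUZ hU4 h16' hz1 hzz ha hb hab
    · exfalso
      obtain ⟨f, hf⟩ : ∃ f : X, f * f ≠ 1 := by
        by_contra hno
        push Not at hno
        exact hna ⟨⟨fun a b => by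
          have e : ∀ w : X, w⁻¹ = w := fun w => inv_eq_of_mul_eq_one_right (hno w)
          calc a * b = (a * b)⁻¹ := (e _).symm
            _ = b⁻¹ * a⁻¹ := mul_inv_rev _ _
            _ = b * a := by rw [e, e]⟩⟩
      set W := Subgroup.closure {x : X | x * x ≠ 1}
      have hfW : f ∈ W := Subgroup.subset_closure hf
      have hUW : U ≤ W := fun u hu => by
        have h1 : f * u ∈ W := Subgroup.subset_closure (by
          show f * u * (f * u) ≠ 1
          rw [(center_comm_of (x := f) (hUZ hu)).symm.mul_mul_mul_comm, hU2 u hu, mul_one]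
          exact hf)
        have := W.mul_mem (W.inv_mem hfW) h1
        rwa [inv_mul_cancel_left] at this
      exact hchar W closure_nonInvolution_char (fun h => hna (top_comm hW h))
        (good_of_four h2 hUc hUnc hUW hfW (fun h => hf (hU2 f h)) fun u hu => center_comm_of (hUZ hu))

/-- A group with no non-cyclic abelian subgroup of order 8 and a nontrivial automorphism of odd order. -/
theorem small_of_aut (h2 : IsPGroup 2 X) (hG : ¬ Good (⊤ : Subgroup X)) {f : MulAut X} {n : ℕ} (hn : Odd n)
    (hfn : f ^ n = 1) (hf : f ≠ 1) : Nat.card X = 4 ∨ Nonempty (X ≃* QuaternionGroup 2) := by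
  haveI : Fact (Nat.Prime 2) := ⟨Nat.prime_two⟩
  obtain ⟨N, hN⟩ := IsPGroup.iff_card.mp h2
  have hcyc : ∀ U : Subgroup X, U.Characteristic → IsCyclic U → ∀ w ∈ U, f w = w := by
    intro U hU hc w hw
    obtain ⟨m, hm⟩ := IsPGroup.iff_orderOf.mp h2 w
    refine fix_cyclic hn hfn hm ?_
    obtain ⟨u, rfl⟩ := U.isCyclic_iff_exists_zpowers_eq_top.mp hc
    obtain ⟨i, rfl⟩ := Subgroup.mem_zpowers_iff.mp hw
    obtain ⟨m', hm'⟩ := IsPGroup.iff_orderOf.mp h2 u
    rw [map_zpow, fix_cyclic hn hfn hm' (Subgroup.characteristic_iff_map_le.mp hU f ⟨u, Subgroup.mem_zpowers u, rfl⟩)]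
    exact Subgroup.mem_zpowers _
  have hlt8 : ∀ U : Subgroup X, IsMulCommutative U → ¬ IsCyclic U → Nat.card U = 4 := by
    intro U hUc hUnc
    have h4 := noncyclic_card_ge h2 hUnc
    obtain ⟨k, hk⟩ := IsPGroup.iff_card.mp (h2.to_subgroup U)
    by_contra hne
    obtain ⟨a, ha, b, hb, haa, hbb, ha1, hb1, hab⟩ := exists_two_involutions h2 hUc hUnc
    refine hG ((good_of_big h2 le_rfl hUc ha hb haa hbb ha1 hb1 hab ?_).mono le_top)
    rcases Nat.lt_or_ge k 3 with hk3 | hk3
    · exfalso
      exact hne (le_antisymm (hk ▸ (Nat.pow_le_pow_right (by norm_num) (show k ≤ 2 by omega)).trans (by norm_num)) h4)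
    · rw [hk]
      exact le_of_eq_of_le (show 8 = 2 ^ 3 by norm_num) (Nat.pow_le_pow_right (by norm_num) hk3)
  by_cases hna : IsMulCommutative X
  · left
    have hc : IsMulCommutative (⊤ : Subgroup X) := inferInstance
    by_cases hcy : IsCyclic (⊤ : Subgroup X)
    · exact absurd (MulEquiv.ext fun x => hcyc ⊤ inferInstance hcy x trivial) hf
    · rw [← Subgroup.card_top]; exact hlt8 ⊤ hc hcy
  by_cases hsymp : ∀ A : Subgroup X, A.Characteristic → IsMulCommutative A → IsCyclic A
  · rcases symplectic_cases h2 hna hsymp with hE | hinvc | ⟨Y, hY, hne, hgood⟩ |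
      ⟨E, r, z, k, hr, hrz, hrc, hrE, hzE, hz1, hzz, hEcm, hEsq, hEn, hEc, hdec⟩
    · obtain ⟨z, hzo, hzc, hcomm, hpow⟩ := H30.center_data hE
      have hzz : z * z = 1 := by rw [← pow_two, ← hzo, pow_orderOf_eq_one]
      have hz1 : z ≠ 1 := fun h => by rw [h, orderOf_one] at hzo; omega
      have hsq : ∀ y : X, y * y = 1 ∨ y * y = z := fun y => two_mem hzz (pow_two y ▸ hpow y)
      have hcm : ∀ a b : X, ⁅a, b⁆ = 1 ∨ ⁅a, b⁆ = z := fun a b => two_mem hzz (hcomm a b)
      have h8 : Nat.card X ≤ 8 := by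
        by_contra hgt
        apply hG
        refine good_of_squares h2 hz1 hzz (Subgroup.mem_top z)
          (fun y _ => (center_comm_of (x := y) (by rw [hzc]; exact Subgroup.mem_zpowers z)).symm)
          (fun y _ => hsq y) (fun a _ b _ => hcm a b) ?_
        rw [Subgroup.card_top, hN] at *
        have : 4 ≤ N := by
          by_contra hlt
          have : 2 ^ N ≤ 2 ^ 3 := Nat.pow_le_pow_right (by norm_num) (by omega)
          omega
        exact le_of_eq_of_le (show 16 = 2 ^ 4 by norm_num) (Nat.pow_le_pow_right (by norm_num) this)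
      rcases pair_or_comm hsq hcm with ⟨a, b, ha, hb, hab⟩ | hW
      · obtain ⟨⟨e⟩, hc8⟩ := q8_of_pair hz1 hzz ha hb hab
        have htop := Subgroup.eq_top_of_card_eq _ (le_antisymm (Subgroup.card_le_card_group _) (hc8 ▸ h8))
        exact Or.inr ⟨Subgroup.topEquiv.symm.trans ((MulEquiv.subgroupCongr htop).symm.trans e)⟩
      · exfalso
        obtain ⟨a, b, hab⟩ := not_comm_of (hna := hna)
        obtain ⟨g, hg⟩ : ∃ g : X, g * g ≠ 1 := by
          by_contra hno
          push Not at hno
          apply hab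
          have e : ∀ w : X, w⁻¹ = w := fun w => inv_eq_of_mul_eq_one_right (hno w)
          calc a * b = (a * b)⁻¹ := (e _).symm
            _ = b⁻¹ * a⁻¹ := mul_inv_rev _ _
            _ = b * a := by rw [e, e]
        set W := Subgroup.closure {x : X | x * x ≠ 1}
        have hWch : W.Characteristic := closure_nonInvolution_char
        have hgW : g ∈ W := Subgroup.subset_closure hg
        have h4 : 4 ≤ Nat.card W := by
          have := Subgroup.card_le_of_le (Subgroup.zpowers_le.mpr hgW)
          rwa [Nat.card_zpowers, orderOf_eq_four ((hsq g).resolve_left hg) hz1 hzz] at this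
        have hlt := double_le (lt_top_iff_ne_top.mpr fun h : W = ⊤ => hna (top_comm hW h))
        rw [Subgroup.card_top] at hlt
        have hidx : W.index = 2 := by
          have h1 := W.card_mul_index
          have : W.index ≠ 1 := fun h => hna (top_comm hW (Subgroup.index_eq_one.mp h))
          have : 0 < W.index := Nat.pos_of_ne_zero Subgroup.index_ne_zero_of_finite
          nlinarith
        exact hf (fix_index_two hn hfn h2 hidx (hcyc W hWch (hsymp W hWch hW)))
    · obtain ⟨u, x, r, m, hu, hm, hidx, hx, hr, hr4⟩ := hinvc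
      refine absurd (fix_index_two hn hfn h2 hidx fun w hw => ?_) hf
      have hfu : f u ∈ Subgroup.zpowers u := by
        by_contra hfu
        have h4 := inv_outside_four hidx hx (by omega) hu hr hr4 hfu
        rw [← map_pow, map_eq_one_iff f f.injective, ← orderOf_dvd_iff_pow_eq_one, hu] at h4
        have := Nat.le_of_dvd (by norm_num) h4
        have : 2 ^ 3 ≤ 2 ^ m := Nat.pow_le_pow_right (by norm_num) hm
        omega
      obtain ⟨i, rfl⟩ := Subgroup.mem_zpowers_iff.mp hw
      rw [map_zpow, fix_cyclic hn hfn hu hfu]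
    · exact absurd (hgood.mono le_top) hG
    · exfalso
      apply hG
      obtain ⟨a, ha, b, hb, hab⟩ := hEn
      have ho : orderOf (r ^ 2 ^ k) = 4 := by
        rw [orderOf_pow_of_dvd (by positivity) (by rw [hr]; exact pow_dvd_pow 2 (by omega)), hr,
          show 2 ^ (k + 2) = 2 ^ k * 4 by ring, Nat.mul_div_cancel_left _ (by positivity)]
      refine good_of_comm h2 (x := r ^ 2 ^ k) (y := a) (Subgroup.mem_top _) (Subgroup.mem_top _)
        (center_comm_of (x := a) (Subgroup.pow_mem _ hrc _)).symm ho.ge ?_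
        fun h => hab (center_comm_of ((Subgroup.zpowers_le.mpr (Subgroup.pow_mem _ hrc _)) h)).symm
      rw [ho]
      refine orderOf_dvd_of_pow_eq_one ?_
      rw [show 4 = 2 * 2 by norm_num, pow_mul, pow_two a]
      rcases hEsq a ha with h | h <;> rw [h]
      · exact one_pow 2
      · rw [pow_two, hzz]
  · exfalso
    push Not at hsymp
    obtain ⟨U, hU, hUc, hUnc⟩ := hsymp
    haveI := hU
    have hU4 := hlt8 U hUc hUnc
    have hU2 := four_sq h2 hUnc hU4
    set C := Subgroup.centralizer (U : Set X) with hC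
    have hCU : C ≤ U := by
      intro y hy
      by_contra hyU
      exact hG ((good_of_four h2 hUc hUnc (Subgroup.le_centralizer_iff_isMulCommutative.mpr hUc) hy hyU
        fun u hu => (Subgroup.mem_centralizer_iff.mp hy u hu).symm).mono le_top)
    have hidx : U.index = 2 := by
      have h5 := H30.index_centralizer_le_of_card_le (p := 2) h2 (E := U) inferInstance (by rw [hU4]; norm_num)
      rw [← hC, le_antisymm hCU (Subgroup.le_centralizer_iff_isMulCommutative.mpr hUc)] at h5
      have : U.index ≠ 1 := fun h => hna (top_comm hUc (Subgroup.index_eq_one.mp h))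
      have : 0 < U.index := Nat.pos_of_ne_zero Subgroup.index_ne_zero_of_finite
      omega
    have hZU : Subgroup.center X ≤ U := (Subgroup.center_le_centralizer _).trans hCU
    have hZcy : IsCyclic (Subgroup.center X) := by
      by_contra hnc
      have h := Subgroup.eq_of_le_of_card_ge hZU (by rw [hlt8 _ inferInstance hnc, hU4])
      have hCtop : C = ⊤ := Subgroup.centralizer_eq_top_iff_subset.mpr (by rw [← h])
      rw [hCtop, top_le_iff] at hCU
      exact hna (top_comm hUc hCU)
    haveI : Nontrivial X := by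
      by_contra hnt
      rw [not_nontrivial_iff_subsingleton] at hnt
      exact hna ⟨⟨fun a b => Subsingleton.elim _ _⟩⟩
    haveI := h2.center_nontrivial
    obtain ⟨⟨z, hzc⟩, hz1'⟩ := exists_ne (1 : Subgroup.center X)
    have hz1 : z ≠ 1 := fun h => hz1' (Subtype.ext h)
    have hfz : f z = z := hcyc _ inferInstance hZcy z hzc
    have hzU : z ∈ U := hZU hzc
    refine hf (fix_index_two hn hfn h2 hidx fun w hw => ?_)
    have hit : ∀ c, f c = c * z → ∀ j : ℕ, (f ^ j) c = c * z ^ j := by
      intro c hc j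
      induction j with
      | zero => simp
      | succ j ih => rw [pow_succ', MulAut.mul_apply, ih, map_mul, map_pow, hfz, hc, mul_assoc, ← pow_succ']
    have hfw : f w ∈ U := Subgroup.characteristic_iff_map_le.mp hU f ⟨w, hw, rfl⟩
    have hzz := hU2 z hzU
    by_cases hwz : w ∈ Subgroup.zpowers z
    · rcases two_mem hzz hwz with rfl | rfl
      · exact map_one f
      · exact hfz
    have hcases : f w = w ∨ f w = w * z := by
      have hidx2 : ((Subgroup.zpowers z).subgroupOf U).index = 2 := by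
        have h1 := ((Subgroup.zpowers z).subgroupOf U).card_mul_index
        rw [Nat.card_congr (Subgroup.subgroupOfEquivOfLe (Subgroup.zpowers_le.mpr hzU)).toEquiv,
          Nat.card_zpowers, card_pair hz1 hzz, hU4] at h1
        omega
      have hnotin : f w ∉ Subgroup.zpowers z := fun h => by
        rcases two_mem hzz h with h | h
        · exact hwz (((map_eq_one_iff f f.injective).mp h) ▸ Subgroup.one_mem _)
        · rw [← hfz] at h
          exact hwz ((f.injective h) ▸ Subgroup.mem_zpowers _)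
      have h3 := (Subgroup.mul_mem_iff_of_index_two hidx2 (a := ⟨w⁻¹, U.inv_mem hw⟩) (b := ⟨f w, hfw⟩)).mpr
        (iff_of_false (fun h => hwz ((Subgroup.zpowers z).inv_mem_iff.mp h)) hnotin)
      rcases two_mem hzz (show w⁻¹ * f w ∈ Subgroup.zpowers z from h3) with h | h
      · exact Or.inl (inv_mul_eq_one.mp h).symm
      · exact Or.inr (inv_mul_eq_iff_eq_mul.mp h)
    rcases hcases with h | h
    · exact h
    · exfalso
      have := hit w h n
      rw [hfn, MulAut.one_apply, left_eq_mul] at this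
      obtain ⟨j, rfl⟩ := hn
      rw [pow_add, pow_mul, pow_two, hzz, one_pow, one_mul, pow_one] at this
      exact hz1 this

end H31.Eight
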