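import Cfsg.Agent.H31.EightMain
import Cfsg.Agent.H10.PSolvable
import Cfsg.Agent.H1.Hall
import Cfsg.Agent.H1.SchurZassenhausConj
import Cfsg.Agent.H58.AutQ8

/-! Solvable groups minimal with a non-cyclic abelian subgroup of order 8. -/

set_option autoImplicit false
set_option linter.style.haveILetI false

namespace H31.Eight

open scoped commutatorElement

universe u

variable {S : Type u} [Group S]

theorem good_map {X T : Type*} [Group X] [Group T] {f : X →* T} (hf : Function.Injective f) {Y : Subgroup X}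
    (h : Good Y) : Good (Y.map f) := by
  obtain ⟨A, hA, hc, hnc, h8⟩ := h
  refine ⟨A.map f, Subgroup.map_mono hA, ?_, ?_, ?_⟩
  · exact ⟨⟨by
      rintro ⟨_, a, ha, rfl⟩ ⟨_, b, hb, rfl⟩
      exact Subtype.ext (by
        show f a * f b = f b * f a
        rw [← map_mul, ← map_mul, (comm_subgroup hc ha hb).eq])⟩⟩
  · intro h'
    exact hnc (isCyclic_of_injective (A.equivMapOfInjective f hf).toMonoidHom (A.equivMapOfInjective f hf).injective)
  · rw [Subgroup.card_map_of_injective hf, h8]

theorem card_sup_inf (N A : Subgroup S) [Finite S] [N.Normal] :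
    Nat.card ↥(A ⊔ N) * Nat.card ↥(A ⊓ N) = Nat.card A * Nat.card N := by
  have h1 : (⊥ : Subgroup S).relIndex N * N.relIndex (A ⊔ N) = (⊥ : Subgroup S).relIndex (A ⊔ N) :=
    Subgroup.relIndex_mul_relIndex _ _ _ bot_le le_sup_right
  rw [Subgroup.relIndex_bot_left, Subgroup.relIndex_bot_left, Subgroup.relIndex_sup_right] at h1
  have h3 : Nat.card (N.subgroupOf A) * N.relIndex A = Nat.card A := (N.subgroupOf A).card_mul_index
  have h4 : Nat.card (N.subgroupOf A) = Nat.card ↥(A ⊓ N) := by
    rw [← Subgroup.inf_subgroupOf_right, inf_comm, Nat.card_congr (Subgroup.subgroupOfEquivOfLe inf_le_left).toEquiv]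
  rw [← h1, ← h3, h4]; ring

variable [Finite S]

theorem exists_odd_hall [Group.IsSolvable S] :
    ∃ (K : Subgroup S) (a : ℕ), Odd (Nat.card K) ∧ Nat.card S = 2 ^ a * Nat.card K := by
  obtain ⟨a, m, hm, ha⟩ := Nat.exists_eq_two_pow_mul_odd (n := Nat.card S) Nat.card_pos.ne'
  obtain ⟨K, hK⟩ := H1.hall_exists m (2 ^ a) (by rw [ha, mul_comm]) (Nat.Coprime.pow_right a (Nat.coprime_two_right.mpr hm))
  exact ⟨K, a, hK ▸ hm, hK ▸ ha⟩

/-- The largest normal 2-subgroup contains the abelian subgroup. -/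
theorem good_core [Group.IsSolvable S] (hO : Cfsg.pPrimeCore 2 S = ⊥) (h8 : Good (⊤ : Subgroup S)) :
    Good (Cfsg.pCore 2 S) := by
  haveI : Fact (Nat.Prime 2) := ⟨Nat.prime_two⟩
  set R := Cfsg.pCore 2 S with hR
  haveI hRn : R.Normal := H10.pCore_normal
  have hRp : IsPGroup 2 R := H10.pCore_isPGroup
  have hCR : Subgroup.centralizer (R : Set S) ≤ R :=
    H10.centralizer_pCore_le H10.isPSolvable_of_isSolvable hO
  by_contra hG
  obtain ⟨A, -, hA, hnc, hA8⟩ := h8
  have hAp : IsPGroup 2 A := IsPGroup.of_card (n := 3) (by rw [hA8]; norm_num)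
  have hAR : ¬ A ≤ R := fun h => hG ⟨A, h, hA, hnc, hA8⟩
  have hnCA : ¬ A ≤ Subgroup.centralizer (R : Set S) := fun h => hAR (h.trans hCR)
  set P := A ⊔ R with hP
  have hPp : IsPGroup 2 P := hAp.to_sup_of_normal_right hRp
  obtain ⟨K, a, hKo, hSc⟩ := exists_odd_hall (S := S)
  by_cases hK : Nat.card K = 1
  · -- `S` is a 2-group
    refine hAR (le_trans le_top (le_sSup ⟨inferInstance, IsPGroup.of_card (n := a) ?_⟩))
    rw [Subgroup.card_top, hSc, hK, mul_one]
  haveI : Nontrivial K := by
    by_contra hnt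
    rw [not_nontrivial_iff_subsingleton] at hnt
    exact hK (Nat.card_of_subsingleton 1)
  obtain ⟨k, hk1⟩ := exists_ne (1 : K)
  set f : MulAut R := MulAut.conjNormal (k : S) with hf
  have hko : Odd (orderOf (k : S)) := by
    rw [Subgroup.orderOf_coe]
    exact hKo.of_dvd_nat (orderOf_dvd_natCard k)
  have hfn : f ^ orderOf (k : S) = 1 := by rw [hf, ← map_pow, pow_orderOf_eq_one, map_one]
  have hfne : f ≠ 1 := by
    intro h
    have hkR : (k : S) ∈ R := hCR (Subgroup.mem_centralizer_iff.mpr fun r hr => by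
      have h1 : ((f ⟨r, hr⟩ : R) : S) = r := by rw [h]; rfl
      rw [hf, MulAut.conjNormal_apply, mul_inv_eq_iff_eq_mul] at h1
      exact h1.symm)
    obtain ⟨j, hj⟩ := IsPGroup.iff_orderOf.mp hRp ⟨k, hkR⟩
    rw [Subgroup.orderOf_mk] at hj
    have h1 : orderOf (k : S) = 1 := by
      rw [hj] at hko ⊢
      rcases Nat.eq_zero_or_pos j with rfl | hj0
      · rfl
      · exfalso
        rw [Nat.odd_iff] at hko
        have : 2 ∣ 2 ^ j := dvd_pow_self 2 (by omega)
        omega
    rw [orderOf_eq_one_iff] at h1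
    exact hk1 (Subtype.ext h1)
  have hGR : ¬ Good (⊤ : Subgroup R) := fun h => hG (by
    have := good_map R.subtype_injective h
    rwa [← MonoidHom.range_eq_map, Subgroup.range_subtype] at this)
  rcases small_of_aut hRp hGR hko hfn hfne with h4 | ⟨⟨e⟩⟩
  · -- order four
    have hRc : IsMulCommutative R :=
      IsPGroup.isMulCommutative_of_card_eq_prime_sq (p := 2) (by rw [h4]; norm_num)
    have hRP : R ≤ P := le_sup_right
    have hidx := H30.index_centralizer_le_of_card_le (p := 2) hPp (E := R.subgroupOf P) inferInstance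
      (by rw [Nat.card_congr (Subgroup.subgroupOfEquivOfLe hRP).toEquiv, h4]; norm_num)
    have hC : Subgroup.centralizer ((R.subgroupOf P : Subgroup P) : Set P) ≤ R.subgroupOf P := by
      intro c hc
      exact hCR (Subgroup.mem_centralizer_iff.mpr fun r hr =>
        congrArg Subtype.val (Subgroup.mem_centralizer_iff.mp hc ⟨r, hRP hr⟩ hr))
    have h1 := (Subgroup.centralizer ((R.subgroupOf P : Subgroup P) : Set P)).card_mul_index
    have h3 := Subgroup.card_le_of_le hC
    rw [Nat.card_congr (Subgroup.subgroupOfEquivOfLe hRP).toEquiv, h4] at h3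
    have hP8 : Nat.card P ≤ 8 := by nlinarith
    have hAP : A = P := Subgroup.eq_of_le_of_card_ge le_sup_left (by rw [hA8]; exact hP8)
    have hRA : R ≤ A := hAP ▸ hRP
    exact hnCA fun a ha => Subgroup.mem_centralizer_iff.mpr fun r hr => (comm_subgroup hA (hRA hr) ha).eq
  · -- quaternion
    set φ : S →* MulAut R := MulAut.conjNormal with hφ
    have hker : φ.ker = Subgroup.centralizer (R : Set S) := by
      ext s
      rw [MonoidHom.mem_ker, Subgroup.mem_centralizer_iff]
      constructor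
      · intro h r hr
        have h1 : ((φ s ⟨r, hr⟩ : R) : S) = r := by rw [h]; rfl
        rw [hφ, MulAut.conjNormal_apply, mul_inv_eq_iff_eq_mul] at h1
        exact h1.symm
      · intro h
        ext r
        show ((φ s r : R) : S) = (r : S)
        rw [hφ, MulAut.conjNormal_apply, ← h r r.2, mul_inv_cancel_right]
    have haut : Nat.card (MulAut R) = 24 := by
      rw [← H58.card_mulAut_q8]
      exact Nat.card_congr (MulAut.congr e).toEquiv
    have hR8 : Nat.card R = 8 := by
      rw [Nat.card_congr e.toEquiv, Nat.card_eq_fintype_card]; decide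
    -- the centre of `R` has order two
    set Z := Subgroup.centralizer (R : Set S) with hZ
    have hZ2 : Nat.card Z ≤ 2 := by
      have hle : (Z.subgroupOf R).map e.toMonoidHom ≤ Subgroup.center (QuaternionGroup 2) := by
        rintro _ ⟨w, hw, rfl⟩
        refine Subgroup.mem_center_iff.mpr fun g => ?_
        obtain ⟨g', rfl⟩ := e.surjective g
        show e g' * e w = e w * e g'
        rw [← map_mul, ← map_mul]
        exact congrArg e (Subtype.ext (Subgroup.mem_centralizer_iff.mp hw g' g'.2))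
      have h1 := Subgroup.card_le_of_le hle
      rw [Subgroup.card_map_of_injective (f := e.toMonoidHom) e.injective,
        Nat.card_congr (Subgroup.subgroupOfEquivOfLe hCR).toEquiv] at h1
      refine h1.trans ?_
      rw [Nat.card_eq_fintype_card]
      decide
    -- the image of `P`
    set g := φ.comp P.subtype with hg
    have h1 := g.ker.card_mul_index
    rw [Subgroup.index_ker] at h1
    have hgr : Nat.card g.range ≤ 8 := by
      obtain ⟨j, hj⟩ := IsPGroup.iff_card.mp (hPp.of_surjective g.rangeRestrict g.rangeRestrict_surjective)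
      rw [hj]
      have hd : 2 ^ j ∣ 24 := hj ▸ haut ▸ Subgroup.card_subgroup_dvd_card g.range
      have : j ≤ 3 := by
        by_contra hgt
        have : 2 ^ 4 ∣ 24 := (pow_dvd_pow 2 (by omega)).trans hd
        norm_num at this
      exact (Nat.pow_le_pow_right (by norm_num) this).trans (by norm_num)
    have hgk : Nat.card g.ker ≤ 2 := by
      refine le_trans ?_ hZ2
      rw [← Nat.card_congr (g.ker.equivMapOfInjective P.subtype P.subtype_injective).toEquiv.symm]
      refine Subgroup.card_le_of_le ?_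
      rintro _ ⟨w, hw, rfl⟩
      rw [← hker]
      exact hw
    have hPc : Nat.card P ≤ 16 := by
      rw [← h1]
      exact (Nat.mul_le_mul hgk hgr).trans (by norm_num)
    have hmul := card_sup_inf R A
    rw [hA8, hR8, ← hP] at hmul
    have hI4 : 4 ≤ Nat.card ↥(A ⊓ R) := by nlinarith
    have hq : ∀ q : QuaternionGroup 2, q * q = 1 → q = 1 ∨ q = .a 2 := by decide
    have hnc' : ¬ ∀ w ∈ A ⊓ R, w * w = 1 := by
      intro hall
      have hle : ((A ⊓ R).subgroupOf R).map e.toMonoidHom ≤ Subgroup.zpowers (QuaternionGroup.a 2 : QuaternionGroup 2) := by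
        rintro _ ⟨w, hw, rfl⟩
        rcases hq (e w) (by
          rw [← map_mul, show w * w = 1 from Subtype.ext (hall w hw), map_one]) with h | h
        · show e w ∈ _
          rw [h]; exact Subgroup.one_mem _
        · show e w ∈ _
          rw [h]; exact Subgroup.mem_zpowers _
      have h3 := Subgroup.card_le_of_le hle
      rw [Subgroup.card_map_of_injective (f := e.toMonoidHom) e.injective,
        Nat.card_congr (Subgroup.subgroupOfEquivOfLe inf_le_right).toEquiv, Nat.card_zpowers] at h3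
      have : orderOf (QuaternionGroup.a 2 : QuaternionGroup 2) ≤ 2 :=
        Nat.le_of_dvd (by norm_num) (orderOf_dvd_of_pow_eq_one (by decide))
      omega
    push Not at hnc'
    obtain ⟨i, ⟨hiA, hiR⟩, hi2⟩ := hnc'
    obtain ⟨c, hc, hcc, hcR⟩ : ∃ c ∈ A, c * c = 1 ∧ c ∉ R := by
      obtain ⟨a, ha, b, hb, haa, hbb, ha1, hb1, hab⟩ := exists_two_involutions' hAp hA hnc
      by_contra hno
      push Not at hno
      have ha' := hno a ha haa
      have hb' := hno b hb hbb
      have ea := (hq (e ⟨a, ha'⟩) (by rw [← map_mul, show (⟨a, ha'⟩ : R) * ⟨a, ha'⟩ = 1 from Subtype.ext haa, map_one])).resolve_left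
        (fun h => ha1 (congrArg Subtype.val ((map_eq_one_iff e e.injective).mp h)))
      have eb := (hq (e ⟨b, hb'⟩) (by rw [← map_mul, show (⟨b, hb'⟩ : R) * ⟨b, hb'⟩ = 1 from Subtype.ext hbb, map_one])).resolve_left
        (fun h => hb1 (congrArg Subtype.val ((map_eq_one_iff e e.injective).mp h)))
      exact hab (congrArg Subtype.val (e.injective (ea.trans eb.symm)))
    -- conjugation by `c`
    set t : MulAut (QuaternionGroup 2) := (MulAut.congr e) (φ c) with ht
    set q := e ⟨i, hiR⟩ with hqdef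
    have htt : ∀ x, t (t x) = x := by
      intro x
      rw [← MulAut.mul_apply, ht, ← map_mul, ← map_mul φ, hcc, map_one, map_one]; rfl
    have htq : t q = q := by
      show e (φ c (e.symm (e ⟨i, hiR⟩))) = e ⟨i, hiR⟩
      rw [e.symm_apply_apply]
      congr 1
      refine Subtype.ext ?_
      rw [hφ, MulAut.conjNormal_apply, (comm_subgroup hA hc hiA).eq, mul_inv_cancel_right]
    have hq2 : q * q ≠ 1 := by
      rw [hqdef, ← map_mul]
      exact fun h => hi2 (congrArg Subtype.val ((map_eq_one_iff e e.injective).mp h))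
    have hgen : (∀ x, t x = x) ∨ (∀ x, t x = q * x * q⁻¹) := q8_involutory q hq2 t htq htt
    apply hcR
    rcases hgen with hg1 | hg1
    · refine hCR (hker ▸ ?_)
      rw [MonoidHom.mem_ker]
      refine MulEquiv.ext fun r => e.injective ?_
      have := hg1 (e r)
      rw [ht] at this
      simpa using this
    · have hci : c * i⁻¹ ∈ R := by
        refine hCR (hker ▸ ?_)
        rw [MonoidHom.mem_ker, map_mul, map_inv, mul_inv_eq_one]
        refine MulEquiv.ext fun r => e.injective ?_
        have := hg1 (e r)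
        rw [ht, hqdef] at this
        have h5 : φ i r = (⟨i, hiR⟩ : R) * r * (⟨i, hiR⟩ : R)⁻¹ := Subtype.ext (by
          rw [hφ, MulAut.conjNormal_apply]; rfl)
        rw [h5, map_mul, map_mul, map_inv]
        simpa using this
      have := R.mul_mem hci hiR
      rwa [inv_mul_cancel_right] at this
where
  exists_two_involutions' {A : Subgroup S} (hAp : IsPGroup 2 A) (hA : IsMulCommutative A) (hnc : ¬ IsCyclic A) :
      ∃ a ∈ A, ∃ b ∈ A, a * a = 1 ∧ b * b = 1 ∧ a ≠ 1 ∧ b ≠ 1 ∧ a ≠ b := by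
    haveI := hA
    have hc : IsMulCommutative (⊤ : Subgroup A) := inferInstance
    obtain ⟨a, -, b, -, haa, hbb, ha1, hb1, hab⟩ := exists_two_involutions (X := A) hAp hc (fun h => hnc
      (isCyclic_of_injective (Subgroup.topEquiv (G := A)).symm.toMonoidHom (Subgroup.topEquiv (G := A)).symm.injective))
    exact ⟨a, a.2, b, b.2, congrArg Subtype.val haa, congrArg Subtype.val hbb, fun h => ha1 (Subtype.ext h),
      fun h => hb1 (Subtype.ext h), fun h => hab (Subtype.ext h)⟩
  q8_involutory (q : QuaternionGroup 2) (hq : q * q ≠ 1) (t : MulAut (QuaternionGroup 2)) (htq : t q = q)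
      (htt : ∀ x, t (t x) = x) : (∀ x, t x = x) ∨ (∀ x, t x = q * x * q⁻¹) := by
    obtain ⟨w, hw⟩ : ∃ w : QuaternionGroup 2, w * q ≠ q * w :=
      (show ∀ q : QuaternionGroup 2, q * q ≠ 1 → ∃ w, w * q ≠ q * w by decide) q hq
    have hgen : ∀ x : QuaternionGroup 2, ∃ i j : Fin 4, x = q ^ (i : ℕ) * w ^ (j : ℕ) :=
      (show ∀ q w : QuaternionGroup 2, w * q ≠ q * w → ∀ x, ∃ i j : Fin 4, x = q ^ (i : ℕ) * w ^ (j : ℕ) by decide)
        q w hw
    have hne : t w * q ≠ q * t w := by
      intro h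
      apply hw
      apply t.injective
      rw [map_mul, map_mul, htq, h]
    obtain ⟨i, j, hij⟩ := hgen (t w)
    have h2 : t (t w) = q ^ (i : ℕ) * (q ^ (i : ℕ) * w ^ (j : ℕ)) ^ (j : ℕ) := by
      conv_lhs => rw [hij]
      rw [map_mul, map_pow, map_pow, htq, hij]
    have key : ∀ (q w : QuaternionGroup 2) (i j : Fin 4), w * q ≠ q * w →
        q ^ (i : ℕ) * w ^ (j : ℕ) * q ≠ q * (q ^ (i : ℕ) * w ^ (j : ℕ)) →
        q ^ (i : ℕ) * (q ^ (i : ℕ) * w ^ (j : ℕ)) ^ (j : ℕ) = w →
        q ^ (i : ℕ) * w ^ (j : ℕ) = w ∨ q ^ (i : ℕ) * w ^ (j : ℕ) = q * w * q⁻¹ := by decide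
    rcases key q w i j hw (hij ▸ hne) (h2.symm.trans (htt w)) with h | h
    · refine Or.inl fun x => ?_
      obtain ⟨a, b, rfl⟩ := hgen x
      rw [map_mul, map_pow, map_pow, htq, hij, h]
    · refine Or.inr fun x => ?_
      obtain ⟨a, b, rfl⟩ := hgen x
      rw [map_mul, map_pow, map_pow, htq, hij, h, conj_pow]
      group

theorem sylow_structure [Group.IsSolvable S] (hO : Cfsg.pPrimeCore 2 S = ⊥) (h8 : Good (⊤ : Subgroup S))
    (hmin : ∀ R : Subgroup S, R ≠ ⊤ → (∃ k : ℕ, R.index = 2 ^ k) → ¬ Good R) (X : Sylow 2 S) :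
    (X : Subgroup S).Normal ∧
      (IsMulCommutative ↥X ∨
        (Cfsg.IsExtraspecial 2 ↥X ∧ 32 ≤ Nat.card ↥X) ∨
        (∃ (X₀ : Subgroup S) (k : ℕ), X₀ ≤ (X : Subgroup S) ∧ X₀.relIndex (X : Subgroup S) = 2 ∧
          Nonempty (↥X₀ ≃* QuaternionGroup (2 ^ (k + 1))) ∧
          X₀ ⊔ ((X : Subgroup S) ⊓ Subgroup.centralizer (X₀ : Set S)) = (X : Subgroup S)) ∨
        (Cfsg.IsSpecial 2 ↥X ∧ Nat.card ↥(Subgroup.center ↥X) = 4)) := by
  haveI : Fact (Nat.Prime 2) := ⟨Nat.prime_two⟩
  set R := Cfsg.pCore 2 S with hR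
  haveI hRn : R.Normal := H10.pCore_normal
  have hRp : IsPGroup 2 R := H10.pCore_isPGroup
  have hGR := good_core hO h8
  obtain ⟨K, a, hKo, hSc⟩ := exists_odd_hall (S := S)
  have hcopR : (Nat.card R).Coprime (Nat.card K) := by
    obtain ⟨j, hj⟩ := IsPGroup.iff_card.mp hRp
    rw [hj]
    exact Nat.Coprime.pow_left _ (Nat.coprime_two_left.mpr hKo)
  have hindex : ∀ H : Subgroup S, K ≤ H → ∃ k : ℕ, H.index = 2 ^ k := by
    intro H hH
    have h1 : H.index ∣ K.index := Subgroup.index_dvd_of_le hH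
    have h2 : K.index = 2 ^ a := by
      have := K.card_mul_index
      rw [hSc, mul_comm] at this
      exact Nat.eq_of_mul_eq_mul_right Nat.card_pos this
    rw [h2] at h1
    obtain ⟨k, -, hk⟩ := (Nat.dvd_prime_pow Nat.prime_two).mp h1
    exact ⟨k, hk⟩
  have htop : R ⊔ K = ⊤ := by
    by_contra hne
    exact hmin _ hne (hindex _ le_sup_right) (hGR.mono le_sup_left)
  have hnK : K ≤ Subgroup.normalizer (R : Set S) := by
    rw [Subgroup.normalizer_eq_top (H := R)]; exact le_top
  have hRX : (X : Subgroup S) = R := by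
    refine (Subgroup.eq_of_le_of_card_ge (H10.pCore_le_sylow X) ?_).symm
    have h1 := H1.card_sup_of_coprime hnK hcopR
    rw [htop, Subgroup.card_top] at h1
    obtain ⟨j, hj⟩ := IsPGroup.iff_card.mp X.isPGroup'
    refine Nat.le_of_dvd Nat.card_pos ?_
    refine Nat.Coprime.dvd_of_dvd_mul_right ?_ (h1 ▸ Subgroup.card_subgroup_dvd_card (X : Subgroup S))
    rw [show Nat.card (X : Subgroup S) = 2 ^ j from hj]
    exact Nat.Coprime.pow_left _ (Nat.coprime_two_left.mpr hKo)
  haveI hXn : (X : Subgroup S).Normal := by rw [hRX]; exact hRn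
  refine ⟨hXn, ?_⟩
  have hGX : Good (⊤ : Subgroup ↥(X : Subgroup S)) := by
    obtain ⟨A, hA, hc, hnc, hA8⟩ := hGR
    replace hA : A ≤ (X : Subgroup S) := hA.trans_eq hRX.symm
    refine ⟨A.subgroupOf X, le_top, ?_, ?_, ?_⟩
    · exact ⟨⟨fun a b => Subtype.ext (Subtype.ext (comm_subgroup hc a.2 b.2).eq)⟩⟩
    · intro h
      exact hnc (isCyclic_of_injective (Subgroup.subgroupOfEquivOfLe hA).symm.toMonoidHom
        (Subgroup.subgroupOfEquivOfLe hA).symm.injective)
    · rw [Nat.card_congr (Subgroup.subgroupOfEquivOfLe hA).toEquiv, hA8]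
  let φ : K →* MulAut ↥(X : Subgroup S) := MulAut.conjNormal.comp K.subtype
  have hinvY : ∀ Y : Subgroup ↥(X : Subgroup S), Y ≠ ⊤ → (∀ k, ∀ y ∈ Y, φ k y ∈ Y) → ¬ Good Y := by
    intro Y hY hinv hgood
    set Y' := Y.map (X : Subgroup S).subtype with hY'
    have hn : K ≤ Subgroup.normalizer (Y' : Set S) := by
      intro g hg
      rw [Subgroup.mem_normalizer_iff]
      intro y
      constructor
      · rintro ⟨w, hw, rfl⟩
        exact ⟨φ ⟨g, hg⟩ w, hinv ⟨g, hg⟩ w hw, by
          show ((MulAut.conjNormal g w : (X : Subgroup S)) : S) = g * (w : S) * g⁻¹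
          exact MulAut.conjNormal_apply _ _⟩
      · rintro ⟨w, hw, hwy⟩
        refine ⟨φ ⟨g⁻¹, K.inv_mem hg⟩ w, hinv _ w hw, ?_⟩
        show ((MulAut.conjNormal g⁻¹ w : (X : Subgroup S)) : S) = y
        rw [MulAut.conjNormal_apply, show ((w : (X : Subgroup S)) : S) = g * y * g⁻¹ from hwy]
        group
    obtain ⟨j, hj⟩ := IsPGroup.iff_card.mp (X.isPGroup'.to_subgroup Y)
    have hc := H1.card_sup_of_coprime hn (by
      rw [Subgroup.card_map_of_injective (X : Subgroup S).subtype_injective, hj]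
      exact Nat.Coprime.pow_left _ (Nat.coprime_two_left.mpr hKo))
    refine hmin (Y' ⊔ K) (fun h => hY ?_) (hindex _ le_sup_right)
      ((good_map (X : Subgroup S).subtype_injective hgood).mono le_sup_left)
    refine Subgroup.eq_top_of_card_eq _ ?_
    have h1 := H1.card_sup_of_coprime hnK hcopR
    rw [htop, Subgroup.card_top] at h1
    rw [h, Subgroup.card_top, Subgroup.card_map_of_injective (X : Subgroup S).subtype_injective, h1] at hc
    rw [← hRX] at hc
    exact (Nat.eq_of_mul_eq_mul_right Nat.card_pos hc).symm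
  rcases core X.isPGroup' hGX φ hKo hinvY with h | h | ⟨X₀, k, hidx, ⟨e⟩, hsup⟩ | h
  · exact Or.inl h
  · exact Or.inr (Or.inl h)
  · refine Or.inr (Or.inr (Or.inl ⟨X₀.map (X : Subgroup S).subtype, k, Subgroup.map_subtype_le X₀, ?_,
      ⟨(X₀.equivMapOfInjective _ (X : Subgroup S).subtype_injective).symm.trans e⟩, ?_⟩))
    · show ((X₀.map (X : Subgroup S).subtype).subgroupOf (X : Subgroup S)).index = 2
      rw [Subgroup.subgroupOf, Subgroup.comap_map_eq_self_of_injective (X : Subgroup S).subtype_injective, hidx]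
    · refine le_antisymm (sup_le (Subgroup.map_subtype_le X₀) inf_le_left) ?_
      intro x hx
      have hm : (⟨x, hx⟩ : ↥(X : Subgroup S)) ∈ X₀ ⊔ Subgroup.centralizer (X₀ : Set ↥(X : Subgroup S)) := by
        rw [hsup]; trivial
      have h1 := Subgroup.mem_map_of_mem (X : Subgroup S).subtype hm
      rw [Subgroup.map_sup] at h1
      refine (sup_le_sup_left ?_ _ : _ ≤ X₀.map (X : Subgroup S).subtype ⊔ _) h1
      rintro _ ⟨c, hc, rfl⟩
      refine ⟨c.2, Subgroup.mem_centralizer_iff.mpr ?_⟩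
      rintro _ ⟨y, hy, rfl⟩
      exact congrArg Subtype.val (Subgroup.mem_centralizer_iff.mp hc y hy)
  · exact Or.inr (Or.inr (Or.inr h))

end H31.Eight
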