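import Mathlib
import Cfsg.Agent.H34.PolySymbol
import Cfsg.Agent.H30.MaxClassRank

/-! Exponent `p` forces `[a, x, …, x] ∈ γ_{p+1}` (`p - 1` entries `x`). -/

set_option autoImplicit false
set_option linter.style.haveILetI false

namespace H31.Engel

open Subgroup
open scoped commutatorElement
open H30 (lcsT)

universe u

theorem lcsT_succ {G : Type u} [Group G] (i : ℕ) : lcsT G (i + 1) = ⁅lcsT G i, (⊤ : Subgroup G)⁆ :=
  Subgroup.lowerCentralSeries_succ _ _

/-- Commutators with central values are bilinear in powers. -/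
theorem comm_pow_pow {G : Type u} [Group G] {u v : G} (hc : ∀ g, Commute g ⁅u, v⁆) (m n : ℕ) :
    ⁅u ^ m, v ^ n⁆ = ⁅u, v⁆ ^ (m * n) := by
  have hleft : ∀ (a b : G), (∀ g, Commute g ⁅a, b⁆) → ∀ k : ℕ, ⁅a ^ k, b⁆ = ⁅a, b⁆ ^ k := by
    intro a b h k
    induction k with
    | zero => simp
    | succ k ih =>
      calc ⁅a ^ (k + 1), b⁆ = a * ⁅a ^ k, b⁆ * a⁻¹ * ⁅a, b⁆ := by
            simp only [commutatorElement_def]; group
        _ = ⁅a, b⁆ ^ (k + 1) := by
            rw [ih, ((h a).pow_right k).eq, mul_inv_cancel_right, pow_succ]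
  have h1 := hleft u v hc m
  have hc' : ∀ g, Commute g ⁅v, u ^ m⁆ := fun g => by
    rw [← commutatorElement_inv, h1]; exact ((hc g).pow_right m).inv_right
  have h2 := hleft v (u ^ m) hc' n
  rw [← commutatorElement_inv (v ^ n), h2, ← inv_pow, commutatorElement_inv, h1, ← pow_mul]

theorem scale_zero {M : Type u} [Group M] (θ : M →* M) {t : ℕ} {S : Set M} (hS : closure S = ⊤)
    (hθ : ∀ s ∈ S, θ s = s ^ t) (w : M) : θ w * (w ^ t)⁻¹ ∈ lcsT M 1 := by
  set g := QuotientGroup.mk' (lcsT M 1)
  have hcomm : ∀ a b : M, Commute (g a) (g b) := fun a b => by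
    rw [← commutatorElement_eq_one_iff_commute, ← map_commutatorElement, QuotientGroup.mk'_apply,
      QuotientGroup.eq_one_iff, lcsT_succ]
    exact commutator_mem_commutator (mem_top _) (mem_top _)
  rw [← QuotientGroup.eq_one_iff, ← QuotientGroup.mk'_apply, map_mul, map_inv, map_pow, mul_inv_eq_one]
  have hw : w ∈ closure S := hS ▸ mem_top w
  induction hw using closure_induction with
  | mem s hs => rw [hθ s hs, map_pow]
  | one => rw [map_one, map_one, one_pow]
  | mul a b _ _ ha hb => rw [map_mul, map_mul, map_mul, (hcomm a b).mul_pow, ha, hb]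
  | inv a _ ha => rw [map_inv, map_inv, map_inv, inv_pow, ha]

/-- An endomorphism acting as `t` on generators acts as `t ^ (k + 1)` on `γ k / γ (k + 1)`. -/
theorem scale {M : Type u} [Group M] (θ : M →* M) {t : ℕ} {S : Set M} (hS : closure S = ⊤)
    (hθ : ∀ s ∈ S, θ s = s ^ t) : ∀ k, ∀ u ∈ lcsT M k, θ u * (u ^ t ^ (k + 1))⁻¹ ∈ lcsT M (k + 1) := by
  intro k
  induction k with
  | zero =>
    intro u _
    rw [zero_add, pow_one]
    exact scale_zero θ hS hθ u
  | succ k ih =>
    intro u hu
    set f := QuotientGroup.mk' (lcsT M (k + 2)) with hf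
    have hcen : ∀ v ∈ lcsT M (k + 1), ∀ g, Commute g (f v) := by
      intro v hv g
      obtain ⟨g, rfl⟩ := QuotientGroup.mk'_surjective _ g
      refine (commutatorElement_eq_one_iff_commute.mp ?_).symm
      rw [← map_commutatorElement, hf, QuotientGroup.mk'_apply, QuotientGroup.eq_one_iff, lcsT_succ]
      exact commutator_mem_commutator hv (mem_top _)
    let L : Subgroup M :=
      { carrier := {w | w ∈ lcsT M (k + 1) ∧ f (θ w) = f w ^ t ^ (k + 1 + 1)}
        one_mem' := ⟨one_mem _, by rw [map_one, map_one, one_pow]⟩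
        mul_mem' := fun {a b} ha hb => ⟨mul_mem ha.1 hb.1, by
          rw [map_mul, map_mul, map_mul, ha.2, hb.2, ((hcen b hb.1 (f a))).mul_pow]⟩
        inv_mem' := fun {a} ha => ⟨inv_mem ha.1, by rw [map_inv, map_inv, map_inv, ha.2, inv_pow]⟩ }
    have hle : lcsT M (k + 1) ≤ L := by
      rw [lcsT_succ k, commutator_le]
      intro v hv w _
      have hvw : ⁅v, w⁆ ∈ lcsT M (k + 1) := by
        rw [lcsT_succ]; exact commutator_mem_commutator hv (mem_top w)
      refine ⟨hvw, ?_⟩
      obtain ⟨c, hc, hvc⟩ : ∃ c ∈ lcsT M (k + 1), θ v = c * v ^ t ^ (k + 1) :=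
        ⟨_, ih v hv, by rw [inv_mul_cancel_right]⟩
      obtain ⟨d, hd, hwd⟩ : ∃ d ∈ lcsT M 1, θ w = d * w ^ t := by
        exact ⟨θ w * (w ^ t)⁻¹, scale_zero θ hS hθ w, by rw [inv_mul_cancel_right]⟩
      have hcd : Commute (f (v ^ t ^ (k + 1))) (f d) := by
        refine commutatorElement_eq_one_iff_commute.mp ?_
        rw [← map_commutatorElement, hf, QuotientGroup.mk'_apply, QuotientGroup.eq_one_iff]
        exact H30.commutator_lcsT_le k 1 (commutator_mem_commutator (pow_mem hv _) hd)
      rw [map_commutatorElement θ, hvc, hwd, map_commutatorElement, map_mul f c, map_mul f d]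
      rw [map_commutatorElement f v w, map_pow, map_pow]
      have hcf := hcen c hc
      rw [map_pow] at hcd
      have e1 : ⁅f c * f v ^ t ^ (k + 1), f d * f w ^ t⁆ = ⁅f v ^ t ^ (k + 1), f d * f w ^ t⁆ := by
        simp only [commutatorElement_def, mul_inv_rev]
        calc f c * f v ^ t ^ (k + 1) * (f d * f w ^ t) * ((f v ^ t ^ (k + 1))⁻¹ * (f c)⁻¹) * ((f w ^ t)⁻¹ * (f d)⁻¹)
            = f c * (f v ^ t ^ (k + 1) * (f d * f w ^ t) * (f v ^ t ^ (k + 1))⁻¹) * (f c)⁻¹ *
              ((f w ^ t)⁻¹ * (f d)⁻¹) := by group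
          _ = f v ^ t ^ (k + 1) * (f d * f w ^ t) * (f v ^ t ^ (k + 1))⁻¹ * ((f w ^ t)⁻¹ * (f d)⁻¹) := by
            rw [← (hcf _).eq, mul_inv_cancel_right]
      have hcv : ∀ g, Commute g ⁅f v, f w⁆ := fun g => by
        rw [← map_commutatorElement]; exact hcen _ hvw g
      have e2 : ⁅f v ^ t ^ (k + 1), f d * f w ^ t⁆ = ⁅f v, f w⁆ ^ t ^ (k + 1 + 1) := by
        have h3 := comm_pow_pow hcv (t ^ (k + 1)) t
        have h4 : ⁅f v ^ t ^ (k + 1), f d * f w ^ t⁆ = f d * ⁅f v ^ t ^ (k + 1), f w ^ t⁆ * (f d)⁻¹ := by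
          simp only [commutatorElement_def, mul_inv_rev]
          calc f v ^ t ^ (k + 1) * (f d * f w ^ t) * (f v ^ t ^ (k + 1))⁻¹ * ((f w ^ t)⁻¹ * (f d)⁻¹)
              = (f v ^ t ^ (k + 1) * f d) * f w ^ t * (f v ^ t ^ (k + 1))⁻¹ * ((f w ^ t)⁻¹ * (f d)⁻¹) := by group
            _ = _ := by rw [hcd.eq]; group
        rw [h4, h3, ((hcv (f d)).pow_right _).eq, mul_inv_cancel_right, pow_succ t (k + 1)]
      rw [e1, e2]
    have h := (hle hu).2
    rw [← QuotientGroup.eq_one_iff, ← QuotientGroup.mk'_apply, map_mul, map_inv, map_pow, ← hf, h,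
      mul_inv_cancel]

/-- In an elementary abelian group `(σ - 1) ^ (p - 1)` is the norm of `σ`. -/
theorem iterate_eq_norm {p : ℕ} [hp : Fact p.Prime] {A : Type u} [AddCommGroup A] (hA : ∀ v : A, p • v = 0)
    (σ : A →+ A) (v : A) :
    (fun w => σ w - w)^[p - 1] v = ∑ j ∈ Finset.range p, σ^[j] v := by
  set D : Polynomial ℤ := (Polynomial.X - 1) ^ (p - 1) - ∑ j ∈ Finset.range p, Polynomial.X ^ j with hD
  have hmap : D.map (Int.castRingHom (ZMod p)) = 0 := by
    rw [hD, Polynomial.map_sub, Polynomial.map_pow, Polynomial.map_sub, Polynomial.map_one, Polynomial.map_X,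
      Polynomial.map_sum, sub_eq_zero]
    simp only [Polynomial.map_pow, Polynomial.map_X]
    refine mul_right_cancel₀ (b := (Polynomial.X : Polynomial (ZMod p)) - 1) ?_ ?_
    · exact sub_ne_zero.mpr (fun h => absurd (congrArg Polynomial.natDegree h) (by simp))
    · rw [← pow_succ, Nat.sub_add_cancel hp.out.one_le, geom_sum_mul, sub_pow_char, one_pow]
  have hdvd : Polynomial.C (p : ℤ) ∣ D := by
    rw [Polynomial.C_dvd_iff_dvd_coeff]
    intro i
    have h := congrArg (fun q : Polynomial (ZMod p) => q.coeff i) hmap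
    simp only [Polynomial.coeff_map, Polynomial.coeff_zero] at h
    exact (ZMod.intCast_zmod_eq_zero_iff_dvd _ p).mp h
  obtain ⟨q, hq⟩ := hdvd
  let T : AddMonoid.End A := σ
  have h0 : Polynomial.aeval T D = 0 := by
    rw [hq, map_mul, Polynomial.aeval_C]
    ext w
    show (algebraMap ℤ (AddMonoid.End A) (p : ℤ)) ((Polynomial.aeval T q) w) = 0
    rw [map_natCast, AddMonoid.End.natCast_apply]
    exact hA _
  rw [hD, map_sub, sub_eq_zero, map_pow, map_sub, map_one, Polynomial.aeval_X, map_sum] at h0
  simp only [map_pow, Polynomial.aeval_X] at h0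
  have h := DFunLike.congr_fun h0 v
  have hpow : ∀ (k : ℕ) (S : AddMonoid.End A) (w : A), (S ^ k) w = (fun y => S y)^[k] w := by
    intro k S
    induction k with
    | zero => intro w; rfl
    | succ k ih => intro w; rw [pow_succ', Function.iterate_succ_apply', ← ih]; rfl
  rw [hpow] at h
  refine Eq.trans ?_ (h.trans ((AddMonoidHom.finsetSum_apply _ _ _).trans (Finset.sum_congr rfl fun j _ => ?_)))
  · rfl
  · exact hpow j T v

variable (p : ℕ)

/-- The relations of exponent `p` and class `p`. -/
def expClassRels : Subgroup (FreeGroup Bool) :=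
  normalClosure ({w | ∃ v, w = v ^ p} ∪ (lcsT (FreeGroup Bool) p : Set _))

instance : (expClassRels p).Normal := normalClosure_normal

/-- The relatively free group of rank two, exponent `p` and class `p`. -/
abbrev RelFree : Type := FreeGroup Bool ⧸ expClassRels p

theorem relFree_pow (r : RelFree p) : r ^ p = 1 := by
  obtain ⟨w, rfl⟩ := QuotientGroup.mk_surjective r
  rw [← QuotientGroup.mk_pow, QuotientGroup.eq_one_iff]
  exact subset_normalClosure (Or.inl ⟨w, rfl⟩)

theorem relFree_lcs : lcsT (RelFree p) p = ⊥ := by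
  rw [← H30.map_lcsT, Subgroup.map_eq_bot_iff, QuotientGroup.ker_mk']
  exact fun w hw => subset_normalClosure (Or.inr hw)

/-- Evaluation of the relatively free group. -/
def evalHom {G : Type u} [Group G] (hexp : ∀ g : G, g ^ p = 1) (hcl : lcsT G p = ⊥) (f : Bool → G) :
    RelFree p →* G :=
  QuotientGroup.lift _ (FreeGroup.lift f) (normalClosure_le_normal (by
    rintro w (⟨v, rfl⟩ | hw)
    · show FreeGroup.lift f (v ^ p) = 1
      rw [map_pow, hexp]
    · show FreeGroup.lift f w = 1
      have h1 : (lcsT (FreeGroup Bool) p).map (FreeGroup.lift f) ≤ lcsT G p := by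
        show ((⊤ : Subgroup (FreeGroup Bool)).lowerCentralSeries p).map _ ≤ (⊤ : Subgroup G).lowerCentralSeries p
        rw [Subgroup.map_lowerCentralSeries]
        exact Subgroup.lowerCentralSeries_mono p le_top
      have h2 := h1 (mem_map_of_mem _ hw)
      rwa [hcl, mem_bot] at h2))

theorem evalHom_of {G : Type u} [Group G] (hexp : ∀ g : G, g ^ p = 1) (hcl : lcsT G p = ⊥) (f : Bool → G) (b : Bool) :
    evalHom p hexp hcl f (FreeGroup.of b : FreeGroup Bool) = f b := by
  show FreeGroup.lift f (FreeGroup.of b) = f b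
  exact FreeGroup.lift_apply_of

variable [hp : Fact p.Prime]

theorem relFree_engel :
    (H34.tau ((FreeGroup.of true : FreeGroup Bool) : RelFree p))^[p - 1]
      ((FreeGroup.of false : FreeGroup Bool) : RelFree p) = 1 := by
  set R := RelFree p
  set x : R := ((FreeGroup.of true : FreeGroup Bool) : RelFree p) with hx
  set a : R := ((FreeGroup.of false : FreeGroup Bool) : RelFree p) with ha
  obtain ⟨g, hg⟩ := IsCyclic.exists_generator (α := (ZMod p)ˣ)
  set t := (g : ZMod p).val with ht
  set θ : R →* R := evalHom p (relFree_pow p) (relFree_lcs p) (fun b => cond b x (a ^ t)) with hθ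
  have hθx : θ x = x := evalHom_of p _ _ _ true
  have hθa : θ a = a ^ t := evalHom_of p _ _ _ false
  -- congruences for the iterates
  have htau : ∀ u, θ (H34.tau x u) = H34.tau x (θ u) := fun u => by
    simp only [H34.tau, map_mul, map_inv, hθx]
  have hmem : ∀ l, (H34.tau x)^[l] a ∈ lcsT R l := by
    intro l
    induction l with
    | zero => exact mem_top _
    | succ l ih =>
      rw [Function.iterate_succ_apply']
      exact show _ ∈ H11.gammaFil R (l + 1 + 1) from H34.tau_mem (i := l + 1) ih
  have hcong : ∀ l, θ ((H34.tau x)^[l] a) * (((H34.tau x)^[l] a) ^ t)⁻¹ ∈ lcsT R (l + 1) := by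
    intro l
    induction l with
    | zero =>
      show θ a * (a ^ t)⁻¹ ∈ _
      rw [hθa, mul_inv_cancel]; exact one_mem _
    | succ l ih =>
      rw [Function.iterate_succ_apply', htau]
      set u := (H34.tau x)^[l] a
      set f := QuotientGroup.mk' (lcsT R (l + 2)) with hf
      have htm : ∀ i, ∀ v ∈ lcsT R i, H34.tau x v ∈ lcsT R (i + 1) := fun i v hv =>
        show _ ∈ H11.gammaFil R (i + 1 + 1) from H34.tau_mem (i := i + 1) hv
      have hmulτ : ∀ v ∈ lcsT R l, ∀ w ∈ lcsT R l,
          f (H34.tau x (v * w)) = f (H34.tau x v) * f (H34.tau x w) := by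
        intro v hv w _
        have hc : Commute (f w⁻¹) (f (H34.tau x v)) := by
          refine (commutatorElement_eq_one_iff_commute.mp ?_).symm
          rw [← map_commutatorElement, hf, QuotientGroup.mk'_apply, QuotientGroup.eq_one_iff, lcsT_succ]
          exact commutator_mem_commutator (htm l v hv) (mem_top _)
        rw [show H34.tau x (v * w) = w⁻¹ * H34.tau x v * (w * H34.tau x w) by simp only [H34.tau]; group,
          map_mul, map_mul, hc.eq, map_mul, ← mul_assoc, mul_assoc (f (H34.tau x v)), ← map_mul f w⁻¹,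
          inv_mul_cancel, map_one, mul_one]
      have hpowτ : ∀ v ∈ lcsT R l, ∀ m : ℕ, f (H34.tau x (v ^ m)) = f (H34.tau x v) ^ m := by
        intro v hv m
        induction m with
        | zero => simp only [pow_zero, H34.tau, inv_one, mul_one, mul_inv_cancel, map_one]
        | succ m ihm => rw [pow_succ, pow_succ, hmulτ _ (pow_mem hv m) v hv, ihm]
      have hdeep : f (H34.tau x (θ u * (u ^ t)⁻¹)) = 1 := by
        rw [hf, QuotientGroup.mk'_apply, QuotientGroup.eq_one_iff]
        exact htm (l + 1) _ ih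
      have h1 := hmulτ _ (Subgroup.lowerCentralSeries_antitone _ (Nat.le_succ l) ih) _ (pow_mem (hmem l) t)
      rw [inv_mul_cancel_right, hdeep, one_mul, hpowτ u (hmem l) t] at h1
      rw [← QuotientGroup.eq_one_iff, ← QuotientGroup.mk'_apply, ← hf, map_mul, map_inv, map_pow, h1,
        mul_inv_cancel]
  set e := (H34.tau x)^[p - 1] a with he
  have hθe : θ e = e ^ t := by
    have h := hcong (p - 1)
    rw [Nat.sub_add_cancel hp.out.one_le, relFree_lcs, mem_bot, mul_inv_eq_one] at h
    exact h
  -- the subgroup generated by the conjugates of `a`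
  set S : Set R := Set.range fun i : ℕ => x ^ i * a * (x ^ i)⁻¹ with hS
  set N := closure S with hN
  have hSmem : ∀ i : ℕ, x ^ i * a * (x ^ i)⁻¹ ∈ N := fun i => subset_closure ⟨i, rfl⟩
  have haN : a ∈ N := by simpa using hSmem 0
  have hσN : ∀ w ∈ N, x * w * x⁻¹ ∈ N := by
    intro w hw
    have hle : N ≤ N.comap (MulAut.conj x).toMonoidHom := (closure_le _).mpr (by
      rintro _ ⟨i, rfl⟩
      show x * (x ^ i * a * (x ^ i)⁻¹) * x⁻¹ ∈ N
      have := hSmem (i + 1)
      rw [pow_succ', mul_inv_rev] at this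
      simpa [mul_assoc] using this)
    exact hle hw
  have hθN : ∀ w ∈ N, θ w ∈ N := by
    intro w hw
    have hle : N ≤ N.comap θ := (closure_le _).mpr (by
      rintro _ ⟨i, rfl⟩
      show θ (x ^ i * a * (x ^ i)⁻¹) ∈ N
      rw [map_mul, map_mul, map_inv, map_pow, hθx, hθa, ← conj_pow]
      exact pow_mem (hSmem i) t)
    exact hle hw
  set θN : N →* N := (θ.comp N.subtype).codRestrict N fun w => hθN w w.2 with hθN'
  have hscale := scale θN (t := t) (S := N.subtype ⁻¹' S)
    (by rw [hN]; exact closure_closure_coe_preimage) (fun s hs => Subtype.ext (by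
      obtain ⟨i, hi⟩ := hs
      show θ (s : R) = ((s ^ t : N) : R)
      rw [Subgroup.coe_pow, show (s : R) = x ^ i * a * (x ^ i)⁻¹ from hi.symm, map_mul, map_mul, map_inv,
        map_pow, hθx, hθa, conj_pow]))
  -- lower central series of `N`
  have hNle : ∀ j, (lcsT N (j + 1)).map N.subtype ≤ lcsT R (j + 2) := by
    intro j
    induction j with
    | zero =>
      rw [lcsT_succ, show lcsT N 0 = ⊤ from Subgroup.lowerCentralSeries_zero _, map_commutator,
        ← MonoidHom.range_eq_map, range_subtype, zero_add]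
      have hNsup : N ≤ zpowers a ⊔ lcsT R 1 := (closure_le _).mpr (by
        rintro _ ⟨i, rfl⟩
        show x ^ i * a * (x ^ i)⁻¹ ∈ zpowers a ⊔ lcsT R 1
        have h1 : a⁻¹ * (x ^ i * a * (x ^ i)⁻¹) ∈ lcsT R 1 := by
          rw [show a⁻¹ * (x ^ i * a * (x ^ i)⁻¹) = ⁅a⁻¹, x ^ i⁆ by rw [commutatorElement_def]; group,
            lcsT_succ]
          exact commutator_mem_commutator (mem_top _) (mem_top _)
        simpa using mul_mem (mem_sup_left (T := lcsT R 1) (mem_zpowers a)) (mem_sup_right h1))
      refine (commutator_mono hNsup hNsup).trans ?_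
      set f := QuotientGroup.mk' (lcsT R 2) with hf
      have hker : ∀ w, f w = 1 ↔ w ∈ lcsT R 2 := fun w => by
        rw [hf, QuotientGroup.mk'_apply, QuotientGroup.eq_one_iff]
      have hA : ((zpowers a ⊔ lcsT R 1).map f) ≤
          centralizer (((zpowers a ⊔ lcsT R 1).map f : Subgroup _) : Set _) := by
        have hc : (lcsT R 1).map f ≤ center _ := by
          rintro _ ⟨w, hw, rfl⟩
          rw [mem_center_iff]
          intro q
          obtain ⟨q, rfl⟩ := QuotientGroup.mk'_surjective _ q
          refine (commutatorElement_eq_one_iff_mul_comm.1 ?_).symm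
          rw [← map_commutatorElement, hker, lcsT_succ 1]
          exact commutator_mem_commutator hw (mem_top q)
        rw [Subgroup.map_sup, MonoidHom.map_zpowers]
        have h2 : zpowers (f a) ⊔ (lcsT R 1).map f ≤ centralizer ({f a} : Set _) :=
          sup_le (zpowers_le.2 (mem_centralizer_singleton_iff.2 rfl)) (hc.trans (center_le_centralizer _))
        refine sup_le (zpowers_le.2 (mem_centralizer_iff.2 fun g hg => ?_)) (hc.trans (center_le_centralizer _))
        exact mem_centralizer_singleton_iff.1 (h2 hg)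
      rw [commutator_le]
      intro v hv w hw
      rw [← hker, map_commutatorElement, commutatorElement_eq_one_iff_mul_comm]
      exact (mem_centralizer_iff.1 (hA (mem_map_of_mem f hw)) _ (mem_map_of_mem f hv))
    | succ j ih =>
      rw [lcsT_succ, map_commutator, ← MonoidHom.range_eq_map, range_subtype,
        show lcsT R (j + 1 + 2) = ⁅lcsT R (j + 2), (⊤ : Subgroup R)⁆ from lcsT_succ _]
      exact commutator_mono ih le_top
  -- `e` lies in `N`
  have hiterN : ∀ l, (H34.tau x)^[l] a ∈ N := by
    intro l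
    induction l with
    | zero => exact haN
    | succ l ih => rw [Function.iterate_succ_apply']; exact mul_mem (inv_mem ih) (hσN _ ih)
  set eN : N := ⟨e, hiterN (p - 1)⟩ with heN
  have hθeN : θN eN = eN ^ t := Subtype.ext (by rw [Subgroup.coe_pow]; exact hθe)
  -- `e` lies in the derived group of `N`
  have h1mem : eN ∈ lcsT N 1 := by
    rw [← QuotientGroup.eq_one_iff]
    letI : CommGroup (N ⧸ lcsT N 1) :=
      { (inferInstance : Group (N ⧸ lcsT N 1)) with
        mul_comm := fun q r => by
          obtain ⟨q, rfl⟩ := QuotientGroup.mk'_surjective _ q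
          obtain ⟨r, rfl⟩ := QuotientGroup.mk'_surjective _ r
          rw [← commutatorElement_eq_one_iff_mul_comm, ← map_commutatorElement, QuotientGroup.mk'_apply,
            QuotientGroup.eq_one_iff, lcsT_succ]
          exact commutator_mem_commutator (mem_top _) (mem_top _) }
    let sg : N →* N :=
      { toFun := fun w => ⟨x * w * x⁻¹, hσN w w.2⟩
        map_one' := Subtype.ext (by simp)
        map_mul' := fun v w => Subtype.ext (by simp [mul_assoc]) }
    have hsg1 : lcsT N 1 ≤ (lcsT N 1).comap sg := by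
      rw [lcsT_succ, commutator_le]
      intro v _ w _
      rw [Subgroup.mem_comap, map_commutatorElement]
      exact commutator_mem_commutator (mem_top _) (mem_top _)
    let σA : Additive (N ⧸ lcsT N 1) →+ Additive (N ⧸ lcsT N 1) :=
      MonoidHom.toAdditive (QuotientGroup.map _ _ sg hsg1)
    have hσA : ∀ w : N, σA (Additive.ofMul (w : N ⧸ lcsT N 1)) = Additive.ofMul ((sg w : N) : N ⧸ lcsT N 1) :=
      fun w => rfl
    have hA : ∀ v : Additive (N ⧸ lcsT N 1), p • v = 0 := by
      intro v
      obtain ⟨w, hw⟩ := QuotientGroup.mk_surjective v.toMul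
      rw [← ofMul_toMul v, ← hw, ← ofMul_pow, ← QuotientGroup.mk_pow,
        show w ^ p = 1 from Subtype.ext (by rw [Subgroup.coe_pow]; exact relFree_pow p _), QuotientGroup.mk_one,
        ofMul_one]
    set aN : N := ⟨a, haN⟩
    have hn := iterate_eq_norm hA σA (Additive.ofMul (aN : N ⧸ lcsT N 1))
    have hlhs : ∀ l, (fun w => σA w - w)^[l] (Additive.ofMul (aN : N ⧸ lcsT N 1)) =
        Additive.ofMul ((⟨_, hiterN l⟩ : N) : N ⧸ lcsT N 1) := by
      intro l
      induction l with
      | zero => rfl
      | succ l ih =>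
        rw [Function.iterate_succ_apply', ih, hσA, sub_eq_add_neg, add_comm, ← ofMul_inv, ← ofMul_mul,
          ← QuotientGroup.mk_inv, ← QuotientGroup.mk_mul]
        refine congrArg (fun z : N => Additive.ofMul (z : N ⧸ lcsT N 1)) (Subtype.ext ?_)
        show _ = (H34.tau x)^[l + 1] a
        rw [Function.iterate_succ_apply']
        rfl
    rw [hlhs] at hn
    -- the norm is trivial as `(a x) ^ p = 1`
    have hrhs : ∀ m : ℕ, ∃ w : N, (w : R) = (a * x) ^ m * (x ^ m)⁻¹ ∧
        ∑ j ∈ Finset.range m, σA^[j] (Additive.ofMul (aN : N ⧸ lcsT N 1)) = Additive.ofMul (w : N ⧸ lcsT N 1) := by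
      intro m
      induction m with
      | zero => exact ⟨1, by simp, (Finset.sum_range_zero _).trans rfl⟩
      | succ m ih =>
        obtain ⟨w, hw, hws⟩ := ih
        have hiter : ∀ j, σA^[j] (Additive.ofMul (aN : N ⧸ lcsT N 1)) =
            Additive.ofMul ((⟨_, hSmem j⟩ : N) : N ⧸ lcsT N 1) := by
          intro j
          induction j with
          | zero =>
            exact congrArg (fun z : N => Additive.ofMul (z : N ⧸ lcsT N 1)) (Subtype.ext (by simp [aN]))
          | succ j ihj =>
            rw [Function.iterate_succ_apply', ihj, hσA]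
            refine congrArg (fun z : N => Additive.ofMul (z : N ⧸ lcsT N 1)) (Subtype.ext ?_)
            show x * (x ^ j * a * (x ^ j)⁻¹) * x⁻¹ = x ^ (j + 1) * a * (x ^ (j + 1))⁻¹
            rw [pow_succ']; group
        refine ⟨w * ⟨_, hSmem m⟩, ?_, ?_⟩
        · rw [Subgroup.coe_mul, hw]
          show (a * x) ^ m * (x ^ m)⁻¹ * (x ^ m * a * (x ^ m)⁻¹) = _
          rw [pow_succ, pow_succ x]; group
        · rw [Finset.sum_range_succ, hws, hiter, QuotientGroup.mk_mul, ofMul_mul]
    obtain ⟨w, hw, hws⟩ := hrhs p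
    rw [hws, show w = 1 from Subtype.ext (by rw [hw, relFree_pow, relFree_pow, inv_one, one_mul]; rfl)] at hn
    have := Additive.ofMul.injective hn
    rw [QuotientGroup.mk_one] at this
    exact this
  -- push `e` down the series
  have hcop : ∀ k, k + 1 < p → ∀ v : N, v ^ t * (v ^ t ^ (k + 1))⁻¹ ∈ lcsT N (k + 1) → 1 ≤ k →
      v ∈ lcsT N (k + 1) := by
    intro k hk v hv hk1
    set q : N ⧸ lcsT N (k + 1) := (v : N ⧸ lcsT N (k + 1))
    rw [← QuotientGroup.eq_one_iff] at hv ⊢
    rw [QuotientGroup.mk_mul, QuotientGroup.mk_inv, mul_inv_eq_one, QuotientGroup.mk_pow,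
      QuotientGroup.mk_pow, H30.pow_eq_pow_iff_int] at hv
    have hqp : q ^ p = 1 := by
      rw [← QuotientGroup.mk_pow, show v ^ p = 1 from Subtype.ext (by rw [Subgroup.coe_pow]; exact relFree_pow p _),
        QuotientGroup.mk_one]
    rcases (Nat.dvd_prime hp.out).mp (orderOf_dvd_of_pow_eq_one hqp) with h | h
    · exact orderOf_eq_one_iff.mp h
    · exfalso
      rw [h, ← ZMod.intCast_eq_intCast_iff_dvd_sub] at hv
      push_cast at hv
      rw [ht, ZMod.natCast_zmod_val] at hv
      have h2 : g ^ (k + 1) = g ^ 1 := Units.ext (by rw [Units.val_pow_eq_pow_val, hv, pow_one])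
      rw [pow_eq_pow_iff_modEq, orderOf_eq_card_of_forall_mem_zpowers hg, Nat.card_eq_fintype_card,
        ZMod.card_units p] at h2
      have h3 := (Nat.modEq_iff_dvd' (by omega)).mp h2.symm
      have := Nat.le_of_dvd (by omega) h3
      omega
  have hall : ∀ k, 1 ≤ k → k < p → eN ∈ lcsT N k := by
    intro k hk1 hkp
    induction k with
    | zero => omega
    | succ k ih =>
      rcases Nat.eq_zero_or_pos k with rfl | hk0
      · exact h1mem
      · refine hcop k hkp eN ?_ hk0
        have h := hscale k eN (ih hk0 (by omega))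
        rwa [hθeN] at h
  have h2 := hp.out.two_le
  have hfin := hNle (p - 2) (mem_map_of_mem N.subtype (hall (p - 2 + 1) (by omega) (by omega)))
  rw [show p - 2 + 2 = p by omega, relFree_lcs, mem_bot] at hfin
  exact hfin

/-- **Engel condition in exponent `p`.** -/
theorem engel {G : Type u} [Group G] (hexp : ∀ g : G, g ^ p = 1) (hcl : lcsT G p = ⊥) (a x : G) :
    (H34.tau x)^[p - 1] a = 1 := by
  set φ := evalHom p hexp hcl (fun b => cond b x a) with hφ
  have h := congrArg φ (relFree_engel p)
  have hsemi : ∀ (y : RelFree p), φ (H34.tau ((FreeGroup.of true : FreeGroup Bool) : RelFree p) y) =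
      H34.tau x (φ y) := fun y => by
    simp only [H34.tau, map_mul, map_inv, hφ, evalHom_of, cond_true]
  rwa [Function.Semiconj.iterate_right hsemi (p - 1), map_one, hφ, evalHom_of, cond_false] at h

/-- A group of maximal class and exponent `p` has order at most `p ^ p`. -/
theorem exp_bound {G : Type u} [Group G] [Finite G] {n : ℕ} (h : H30.MaxCls G p n) (hexp : ∀ g : G, g ^ p = 1) :
    n ≤ p := by
  by_contra hlt
  push Not at hlt
  set Q := G ⧸ lcsT G (p + 1 - 1) with hQ
  have h2 := hp.out.two_le
  have hq : H30.MaxCls Q p (p + 1) := h.quotient (by omega) hlt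
  have hexpQ : ∀ g : Q, g ^ p = 1 := fun g => by
    obtain ⟨g, rfl⟩ := QuotientGroup.mk_surjective g
    rw [← QuotientGroup.mk_pow, hexp, QuotientGroup.mk_one]
  obtain ⟨x, hx⟩ := H30.exists_avoiding hq.isPGroup (Finset.range (p - 1))
    (fun i => if i = 0 then lcsT Q 1 else H30.twoStep Q i) (by rw [Finset.card_range]; omega)
    (fun i hi => by
      rw [Finset.mem_range] at hi
      split_ifs with h0
      · intro he
        have := hq.lcs_index (i := 1) le_rfl (by omega)
        rw [he, index_top] at this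
        exact (Nat.one_lt_pow two_ne_zero hp.out.one_lt).ne this
      · exact hq.twoStep_ne_top (by omega))
  have hx1 : x ∉ lcsT Q 1 := by
    have := hx 0 (Finset.mem_range.mpr (by omega))
    simpa using this
  obtain ⟨a, ha⟩ : ∃ a, a ∉ lcsT Q 1 ⊔ zpowers x := by
    by_contra hno
    push Not at hno
    haveI := hq.isPGroup.isNilpotent
    have hb : zpowers x = ⊤ := frattini_nongenerating (eq_top_iff.2 fun g _ => by
      have hg := hno g
      rw [sup_comm] at hg
      refine (sup_le_sup le_rfl ?_ : zpowers x ⊔ lcsT Q 1 ≤ zpowers x ⊔ frattini Q) hg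
      show (⊤ : Subgroup Q).lowerCentralSeries 1 ≤ _
      rw [Subgroup.top_lowerCentralSeries_one]
      exact H31.commutator_le_frattini hq.isPGroup)
    have hc : Nat.card Q ∣ p := by
      rw [← card_top (G := Q), ← hb, Nat.card_zpowers]
      exact orderOf_dvd_of_pow_eq_one (hexpQ x)
    rw [hq.card] at hc
    have := (Nat.pow_dvd_pow_iff_le_right hp.out.one_lt).mp (hc.trans (dvd_of_eq (pow_one p).symm))
    omega
  -- the iterated commutators do not vanish
  have hgen : ∀ i, i + 2 ≤ p + 1 → i ≤ p - 1 → (H34.tau x)^[i] a ∈ lcsT Q i ∧ (1 ≤ i → (H34.tau x)^[i] a ∉ lcsT Q (i + 1)) := by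
    intro i
    induction i with
    | zero => exact fun _ _ => ⟨mem_top _, fun h => absurd h (by omega)⟩
    | succ i ih =>
      intro hi hi'
      obtain ⟨hm, hn⟩ := ih (by omega) (by omega)
      rw [Function.iterate_succ_apply']
      set u := (H34.tau x)^[i] a with hu
      refine ⟨show _ ∈ H11.gammaFil Q (i + 1 + 1) from H34.tau_mem (i := i + 1) hm, fun _ hc => ?_⟩
      set f := QuotientGroup.mk' (lcsT Q (i + 2)) with hf
      have hker : ∀ w, f w = 1 ↔ w ∈ lcsT Q (i + 2) := fun w => by
        rw [hf, QuotientGroup.mk'_apply, QuotientGroup.eq_one_iff]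
      have hux : Commute (f u) (f x) := by
        have h1 := (hker _).mpr hc
        simp only [H34.tau, map_mul, map_inv, inv_mul_eq_one] at h1
        exact (eq_mul_inv_iff_mul_eq.mp h1)
      rcases Nat.eq_zero_or_pos i with rfl | hi0
      · -- the quotient by `γ 2` would be abelian
        have hu0 : u = a := rfl
        rw [hu0] at hux
        refine hq.lcs_not_le (i := 1) (by omega) ?_
        have hgen' : closure ({a, x} : Set Q) = ⊤ := by
          haveI := hq.isPGroup.isNilpotent
          refine frattini_nongenerating (eq_top_iff.2 ?_)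
          refine le_trans ?_ (sup_le_sup le_rfl (show lcsT Q 1 ≤ frattini Q by
            show (⊤ : Subgroup Q).lowerCentralSeries 1 ≤ _; rw [Subgroup.top_lowerCentralSeries_one]; exact H31.commutator_le_frattini hq.isPGroup))
          refine le_of_eq (eq_top_of_le_card _ ?_).symm
          set L := lcsT Q 1 ⊔ zpowers x
          have l1 : lcsT Q 1 < L := lt_of_le_of_ne le_sup_left fun e => hx1 (e.ge (mem_sup_right (mem_zpowers x)))
          have l2 : L < closure ({a, x} : Set Q) ⊔ lcsT Q 1 :=
            lt_of_le_of_ne (sup_le le_sup_right (zpowers_le.2 (mem_sup_left (subset_closure (Or.inr rfl)))))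
              fun e => ha (e.ge (mem_sup_left (subset_closure (Or.inl rfl))))
          refine le_trans ?_ ((Nat.mul_le_mul_left p (H30.card_mul_le_of_lt hq.isPGroup l1)).trans
            (H30.card_mul_le_of_lt hq.isPGroup l2))
          rw [hq.card, hq.lcs_card le_rfl (by omega), ← pow_succ', ← pow_succ']
          exact le_of_eq (congrArg (p ^ ·) (by omega))
        have hab : ∀ v w : Q, Commute (f v) (f w) := by
          intro v w
          have hcl : ∀ y : Q, f y ∈ closure ({f a, f x} : Set _) := fun y => by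
            have := mem_map_of_mem f (hgen' ▸ mem_top y : y ∈ closure ({a, x} : Set Q))
            rwa [MonoidHom.map_closure, Set.image_pair] at this
          haveI : IsMulCommutative (closure ({f a, f x} : Set (Q ⧸ lcsT Q (0 + 2)))) :=
            Subgroup.isMulCommutative_closure (by
              rintro v (rfl | rfl) w (rfl | rfl)
              · rfl
              · exact hux.eq
              · exact hux.eq.symm
              · rfl)
          exact congrArg Subtype.val (IsMulCommutative.is_comm.comm
            (⟨f v, hcl v⟩ : closure ({f a, f x} : Set _)) ⟨f w, hcl w⟩)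
        rw [lcsT_succ 0, commutator_le]
        intro v _ w _
        rw [show lcsT Q (1 + 1) = lcsT Q (0 + 2) from rfl, ← hker, map_commutatorElement,
          commutatorElement_eq_one_iff_commute]
        exact hab v w
      · have hxi := hx i (Finset.mem_range.mpr (by omega))
        rw [if_neg (by omega), H30.mem_twoStep] at hxi
        apply hxi
        intro y hy
        obtain ⟨s, a', ha', rfl⟩ := hq.exists_pow_mul (i := i) hi0 (by omega) hm (hn hi0) hy
        rw [← hker, map_commutatorElement, commutatorElement_eq_one_iff_commute, map_mul]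
        refine Commute.mul_left ?_ (by rw [map_zpow]; exact hux.zpow_left s)
        rw [← commutatorElement_eq_one_iff_commute, ← map_commutatorElement, hker, lcsT_succ (i + 1)]
        exact commutator_mem_commutator ha' (mem_top x)
  obtain ⟨-, hne⟩ := hgen (p - 1) (by omega) le_rfl
  refine hne (by omega) ?_
  rw [engel p hexpQ (hq.lcs_bot (by omega)) a x]
  exact one_mem _

end H31.Engel
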