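import Mathlib
import Cfsg.Agent.H31.AutMinus
import Cfsg.Agent.CompLayer

/-! An involution outside the 2-core of a group of order 320. -/

set_option autoImplicit false

namespace H31.AutMinus

open Subgroup

theorem perm_fix_unique {σ c : Equiv.Perm (Fin 5)} (hc : orderOf c = 5) (hσ : σ ≠ 1) {k : ℤ}
    (hk : σ * c * σ⁻¹ = c ^ k) {a b : Fin 5} (ha : σ a = a) (hb : σ b = b) : a = b := by
  haveI : Fact (Nat.Prime 5) := ⟨by norm_num⟩
  have hcy : c.IsCycle := Equiv.Perm.isCycle_of_prime_order' (by rw [hc]; norm_num) (by rw [hc]; simp)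
  have hsupp : c.support = Finset.univ := by
    apply Finset.eq_univ_of_card
    rw [← hcy.orderOf, hc]; simp
  have hmove : ∀ x, c x ≠ x := fun x => Equiv.Perm.mem_support.mp (hsupp ▸ Finset.mem_univ x)
  by_contra hab
  obtain ⟨j, hj⟩ := hcy.exists_zpow_eq (hmove a) (hmove b)
  have hpow : σ * c ^ j * σ⁻¹ = c ^ (k * j) := by rw [← conj_zpow, hk, ← zpow_mul]
  have hσi : σ⁻¹ a = a := by rw [Equiv.Perm.inv_eq_iff_eq]; exact ha.symm
  have h1 : (c ^ (k * j)) a = (c ^ j) a := by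
    rw [← hpow, Equiv.Perm.mul_apply, Equiv.Perm.mul_apply, hσi, hj, hb]
  have hc5 : c ^ (5 : ℕ) = 1 := by have := pow_orderOf_eq_one c; rwa [hc] at this
  have hfree : ∀ i : ℤ, (c ^ i) a = a → (5 : ℤ) ∣ i := by
    intro i hi
    have hdiv : c ^ i = c ^ (i % 5).toNat := by
      rw [← zpow_natCast, Int.toNat_of_nonneg (Int.emod_nonneg _ (by norm_num))]
      conv_lhs => rw [← Int.mul_ediv_add_emod i 5, zpow_add, zpow_mul, zpow_ofNat, hc5, one_zpow, one_mul]
    have h2 : c ^ i = 1 := by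
      rw [hdiv] at hi ⊢
      exact (hcy.pow_eq_one_iff' (hmove a)).mpr hi
    have h3 := orderOf_dvd_iff_zpow_eq_one.mpr h2
    rwa [hc] at h3
  have hj5 : ¬ (5 : ℤ) ∣ j := by
    rintro ⟨t, rfl⟩
    apply hab
    rw [← hj, zpow_mul, zpow_ofNat, hc5, one_zpow, Equiv.Perm.one_apply]
  have h5 : (5 : ℤ) ∣ (k - 1) * j := by
    apply hfree
    rw [show (k - 1) * j = -j + k * j by ring, zpow_add, Equiv.Perm.mul_apply, h1, ← Equiv.Perm.mul_apply, ← zpow_add,
      neg_add_cancel, zpow_zero, Equiv.Perm.one_apply]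
  obtain ⟨t, ht⟩ := ((Int.Prime.dvd_mul' (by norm_num : Nat.Prime 5) h5).resolve_right hj5)
  have hcomm : σ * c * σ⁻¹ = c := by
    rw [hk, show k = 1 + ((5 : ℕ) : ℤ) * t by push_cast at ht ⊢; omega, zpow_add, zpow_one, zpow_mul, zpow_natCast,
      hc5, one_zpow, mul_one]
  apply hσ
  apply Equiv.ext
  intro x
  obtain ⟨i, rfl⟩ := hcy.exists_zpow_eq (hmove a) (hmove x)
  have h6 : σ * c ^ i * σ⁻¹ = c ^ i := by rw [← conj_zpow, hcomm]
  have h7 := Equiv.congr_fun h6 a
  rw [Equiv.Perm.mul_apply, Equiv.Perm.mul_apply, hσi] at h7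
  exact h7

theorem pair_cases : ∀ q : Minus, q * q ≠ 1 →
    ∃ a b, a ≠ b ∧ (q = pt a * pt b ∨ q = ⟨1, 0, 0, 0, 0⟩ * (pt a * pt b)) := by decide +kernel

theorem pair_unique : ∀ a b c d : Fin 5, a ≠ b →
    (pt c * pt d = pt a * pt b ∨ pt c * pt d = ⟨1, 0, 0, 0, 0⟩ * (pt a * pt b)) →
    (c = a ∧ d = b) ∨ (c = b ∧ d = a) := by decide +kernel

theorem pair_rev : ∀ a b : Fin 5, a ≠ b → pt b * pt a = ⟨1, 0, 0, 0, 0⟩ * (pt a * pt b) := by decide +kernel

theorem z_facts : ∀ x : Minus, ⟨1, 0, 0, 0, 0⟩ * (⟨1, 0, 0, 0, 0⟩ * x) = x ∧ ⟨1, 0, 0, 0, 0⟩ * x ≠ x ∧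
    x * ⟨1, 0, 0, 0, 0⟩ = ⟨1, 0, 0, 0, 0⟩ * x := by decide +kernel

theorem center_cases : ∀ x : Minus, (∀ y, y * x = x * y) → x = 1 ∨ x = ⟨1, 0, 0, 0, 0⟩ := by decide +kernel

theorem conj_idx : ∀ (x : Minus) (i : Fin 5), idx (x * pt i * x⁻¹) = i := by decide +kernel

theorem z_ne_one : (1 : Minus) ≠ ⟨1, 0, 0, 0, 0⟩ := by decide +kernel

theorem fixed_small (α : MulAut Minus) (hα : ∀ x, α (α x) = x)
    (huniq : ∀ a b, permHom α a = a → permHom α b = b → a = b) :
    ∃ f : Fin 5, ∀ q, α q = q → q = 1 ∨ q = ⟨1, 0, 0, 0, 0⟩ ∨ q = pt f ∨ q = ⟨1, 0, 0, 0, 0⟩ * pt f := by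
  set σ := permHom α with hσ
  have him : ∀ i, α (pt i) = pt (σ i) ∨ α (pt i) = ⟨1, 0, 0, 0, 0⟩ * pt (σ i) := image_cases α
  by_cases hex : ∃ f, σ f = f
  swap
  · refine ⟨0, fun q hq => ?_⟩
    push Not at hex
    exfalso
    have h2 : ∀ a, σ (σ a) = a := fun a => by
      have h := Equiv.congr_fun (congrArg permHom (show α * α = 1 from MulEquiv.ext hα)) a
      rw [map_mul, map_one] at h
      exact h
    have hno : ∀ g : Fin 5 → Fin 5, (∀ a, g (g a) = a) → ∃ a, g a = a := by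
      intro g hg
      let e : Equiv.Perm (Fin 5) := ⟨g, g, hg, hg⟩
      obtain ⟨a, ha⟩ := Equiv.Perm.exists_fixed_point_of_prime (p := 2) (n := 1) (σ := e) (by simp)
        (by ext a; simp [e, pow_two, hg])
      exact ⟨a, ha⟩
    obtain ⟨a, ha⟩ := hno σ h2
    exact hex a ha
  obtain ⟨f, hf⟩ := hex
  refine ⟨f, fun q hq => ?_⟩
  by_cases hqq : q * q = 1
  · by_cases h1 : q = 1
    · exact Or.inl h1
    by_cases h2 : q = ⟨1, 0, 0, 0, 0⟩
    · exact Or.inr (Or.inl h2)
    obtain h := pt_idx q hqq h1 h2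
    have hfix : σ (idx q) = idx q := by
      show idx (α (pt (idx q))) = idx q
      rcases h with h | h
      · rw [← h, hq]
      · have h' : pt (idx q) = ⟨1, 0, 0, 0, 0⟩ * q := by
          conv_rhs => rw [h]
          exact (z_facts _).1.symm
        rw [h', map_mul, map_z, hq, idx_zmul]
    rw [huniq _ _ hfix hf] at h
    exact Or.inr (Or.inr h)
  · exfalso
    obtain ⟨a, b, hab, hq'⟩ := pair_cases q hqq
    have hfixw : α (pt a * pt b) = pt a * pt b := by
      rcases hq' with h | h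
      · rwa [← h]
      · have h' : pt a * pt b = ⟨1, 0, 0, 0, 0⟩ * q := by rw [h, (z_facts _).1]
        rw [h', map_mul, map_z, hq]
    have hprod : pt (σ a) * pt (σ b) = pt a * pt b ∨ pt (σ a) * pt (σ b) = ⟨1, 0, 0, 0, 0⟩ * (pt a * pt b) := by
      rw [map_mul] at hfixw
      rcases him a with h1 | h1 <;> rcases him b with h2 | h2 <;> rw [h1, h2] at hfixw
      · exact Or.inl hfixw
      · rw [← mul_assoc, (z_facts _).2.2, mul_assoc] at hfixw
        exact Or.inr (by rw [← hfixw, (z_facts _).1])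
      · rw [mul_assoc] at hfixw
        exact Or.inr (by rw [← hfixw, (z_facts _).1])
      · rw [mul_assoc, ← mul_assoc (pt (σ a)), (z_facts _).2.2, mul_assoc, (z_facts _).1] at hfixw
        exact Or.inl hfixw
    rcases pair_unique a b _ _ hab hprod with ⟨h1, h2⟩ | ⟨h1, h2⟩
    · exact hab (huniq a b h1 h2)
    · -- swapped pair
      have ha2 := hα (pt a)
      apply (z_facts (pt a * pt b)).2.1
      rcases him a with e1 | e1
      · rw [h1] at e1
        have e2 : α (pt b) = pt a := by rw [← e1]; exact hα _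
        rw [map_mul, e1, e2, pair_rev a b hab] at hfixw
        exact hfixw
      · rw [h1] at e1
        have e2 : α (pt b) = ⟨1, 0, 0, 0, 0⟩ * pt a := by
          have := hα (pt a)
          rw [e1, map_mul, map_z] at this
          calc α (pt b) = ⟨1, 0, 0, 0, 0⟩ * (⟨1, 0, 0, 0, 0⟩ * α (pt b)) := (z_facts _).1.symm
            _ = ⟨1, 0, 0, 0, 0⟩ * pt a := by rw [this]
        rw [map_mul, e1, e2, mul_assoc, ← mul_assoc (pt b), (z_facts _).2.2, mul_assoc, (z_facts _).1, pair_rev a b hab] at hfixw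
        exact hfixw

theorem group320 {G : Type*} [Group G] [Finite G]
    (hG : Nat.card G = 320) (hHF : Cfsg.pCore 2 G = Cfsg.fittingSubgroup G)
    (hex : Cfsg.IsExtraspecial 2 (Cfsg.pCore 2 G)) (h32 : Nat.card (Cfsg.pCore 2 G) = 32)
    (hminus : ∀ A : Subgroup G, A ≤ Cfsg.pCore 2 G → Cfsg.IsElementaryAbelian 2 A → Nat.card A ≤ 4)
    (T : G) (hT : orderOf T = 2) (hTH : T ∉ Cfsg.pCore 2 G)
    (V : Subgroup G) (hV : V ≤ Cfsg.pCore 2 G ⊓ centralizer ({T} : Set G)) (hV4 : Nat.card V = 4)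
    (hVe : Cfsg.IsElementaryAbelian 2 V) :
    Nat.card (Cfsg.pCore 2 G ⊓ centralizer ({T} : Set G) : Subgroup G) = 4 ∧
      Cfsg.IsElementaryAbelian 2 (Cfsg.pCore 2 G ⊓ centralizer ({T} : Set G)) := by
  haveI : Fact (Nat.Prime 2) := ⟨Nat.prime_two⟩
  set Q := Cfsg.pCore 2 G with hQ
  haveI hQn : Q.Normal := by rw [hQ]; infer_instance
  obtain ⟨e⟩ := exists_minus_equiv hex h32 (fun A hA => by
    have h1 : Cfsg.IsElementaryAbelian 2 (A.map Q.subtype) := by
      refine ⟨IsMulCommutative.of_comm ?_, ?_⟩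
      · rintro ⟨_, x, hx, rfl⟩ ⟨_, y, hy, rfl⟩
        exact Subtype.ext (congrArg (fun w : A => ((w : Q) : G)) (hA.1.is_comm.comm ⟨x, hx⟩ ⟨y, hy⟩))
      · rintro _ ⟨x, hx, rfl⟩
        rw [← map_pow, hA.2 x hx, map_one]
    have := hminus _ (map_subtype_le A) h1
    rwa [card_map_of_injective Q.subtype_injective] at this)
  -- solvable, hence C(Q) ≤ Q
  have hQidx : Q.index = 10 := by
    have h := card_mul_index Q
    rw [h32, hG] at h
    omega
  have hsolv : Group.IsSolvable G := by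
    haveI : Group.IsSolvable Q := by haveI := hex.1.1.isNilpotent; infer_instance
    haveI : Group.IsSolvable (G ⧸ Q) := by
      haveI : Fact (Nat.Prime 5) := ⟨by norm_num⟩
      obtain ⟨P⟩ : Nonempty (Sylow 5 (G ⧸ Q)) := inferInstance
      have hP : Nat.card (P : Subgroup (G ⧸ Q)) = 5 := by
        rw [P.card_eq_multiplicity, ← index_eq_card, hQidx, show (10 : ℕ) = 2 * 5 from rfl,
          Nat.factorization_mul (by norm_num) (by norm_num), Nat.prime_two.factorization, (by norm_num : Nat.Prime 5).factorization]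
        simp
      have hPi : (P : Subgroup (G ⧸ Q)).index = 2 := by
        have h := card_mul_index (P : Subgroup (G ⧸ Q))
        rw [hP, ← index_eq_card Q, hQidx] at h
        omega
      haveI := normal_of_index_eq_two hPi
      haveI : Group.IsSolvable (P : Subgroup (G ⧸ Q)) := by
        haveI := isCyclic_of_prime_card hP
        letI := IsCyclic.commGroup (α := (P : Subgroup (G ⧸ Q)))
        infer_instance
      haveI : Group.IsSolvable ((G ⧸ Q) ⧸ (P : Subgroup (G ⧸ Q))) := by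
        haveI := isCyclic_of_prime_card (α := (G ⧸ Q) ⧸ (P : Subgroup (G ⧸ Q))) (p := 2) (by rw [← index_eq_card]; exact hPi)
        letI := IsCyclic.commGroup (α := (G ⧸ Q) ⧸ (P : Subgroup (G ⧸ Q)))
        infer_instance
      exact solvable_of_ker_le_range (P : Subgroup (G ⧸ Q)).subtype (QuotientGroup.mk' (P : Subgroup (G ⧸ Q))) (by rw [QuotientGroup.ker_mk', range_subtype])
    exact solvable_of_ker_le_range Q.subtype (QuotientGroup.mk' Q) (by rw [QuotientGroup.ker_mk', range_subtype])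
  have hCQ : centralizer (Q : Set G) ≤ Q := by
    have hlayer : Cfsg.layer G = ⊥ := eq_bot_iff.mpr (Cfsg.Comp.layer_le_iff.mpr fun L hL =>
      absurd (Group.isSolvable_of_isSolvable_injective (f := L.subtype) L.subtype_injective) (Cfsg.Comp.isComponent_not_isSolvable hL))
    have hF : Cfsg.generalizedFittingSubgroup G = Q := by
      rw [Cfsg.generalizedFittingSubgroup, hlayer, bot_sup_eq, hHF]
    have := Cfsg.Comp.centralizer_fStar_le (G := G)
    rwa [hF] at this
  let Φ : G →* Equiv.Perm (Fin 5) := permHom.comp ((MulAut.congr e).toMonoidHom.comp MulAut.conjNormal)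
  have hΦker : ∀ g, Φ g = 1 → g ∈ Q := by
    intro g hg
    have hk : Nat.card permHom.ker ≤ 16 := ker_card_le
    let i : Minus →* MulAut Minus := MulAut.conj
    have hle : i.range ≤ permHom.ker := by
      rintro _ ⟨p, rfl⟩
      rw [MonoidHom.mem_ker]
      apply Equiv.ext
      intro j
      show idx (p * pt j * p⁻¹) = j
      exact conj_idx _ _
    have hcard : 16 ≤ Nat.card i.range := by
      have hker : ∀ p, p ∈ i.ker → p = 1 ∨ p = ⟨1, 0, 0, 0, 0⟩ := by
        intro p hp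
        refine center_cases p fun y => ?_
        have h := DFunLike.congr_fun (MonoidHom.mem_ker.mp hp) y
        simp only [i, MulAut.conj_apply, MulAut.one_apply, mul_inv_eq_iff_eq_mul] at h
        exact h.symm
      have hk2 : Nat.card i.ker ≤ 2 := by
        have hsub : (i.ker : Set Minus) ⊆ {1, ⟨1, 0, 0, 0, 0⟩} := fun p hp => by simpa using hker p hp
        rw [← SetLike.coe_sort_coe, Nat.card_coe_set_eq]
        exact (Set.ncard_le_ncard hsub).trans (by rw [Set.ncard_pair z_ne_one])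
      have h := card_mul_index i.ker
      rw [index_ker, card_minus] at h
      nlinarith
    have heq : i.range = permHom.ker := eq_of_le_of_card_ge hle (hk.trans hcard)
    obtain ⟨p, hp⟩ : MulAut.congr e (MulAut.conjNormal g) ∈ i.range := heq ▸ hg
    have hmem : ((e.symm p : Q) : G)⁻¹ * g ∈ centralizer (Q : Set G) := by
      intro w hw
      have h := DFunLike.congr_fun hp (e ⟨w, hw⟩)
      have h2 := congrArg (fun u => ((e.symm u : Q) : G)) h
      simp only [i, MulAut.conj_apply, map_mul, map_inv, MulEquiv.symm_apply_apply] at h2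
      have h3 : ((e.symm p : Q) : G) * w * ((e.symm p : Q) : G)⁻¹ = g * w * g⁻¹ := by
        simpa [MulAut.congr] using h2
      calc w * (((e.symm p : Q) : G)⁻¹ * g) = ((e.symm p : Q) : G)⁻¹ * (((e.symm p : Q) : G) * w * ((e.symm p : Q) : G)⁻¹) * g := by group
        _ = ((e.symm p : Q) : G)⁻¹ * g * w := by rw [h3]; group
    have := Q.mul_mem (e.symm p).2 (hCQ hmem)
    rwa [mul_inv_cancel_left] at this
  -- the image has order 10
  haveI : Fact (Nat.Prime 5) := ⟨by norm_num⟩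
  obtain ⟨u, hu⟩ := exists_prime_orderOf_dvd_card' (G := G) 5 (by rw [hG]; norm_num)
  have huQ : u ∉ Q := by
    intro h
    have := orderOf_dvd_natCard (⟨u, h⟩ : Q)
    rw [orderOf_mk, hu, h32] at this
    norm_num at this
  have hc : orderOf (Φ u) = 5 := by
    refine orderOf_eq_prime ?_ (fun h => huQ (hΦker u h))
    rw [← map_pow, show u ^ 5 = 1 by have := pow_orderOf_eq_one u; rwa [hu] at this, map_one]
  have hσne : Φ T ≠ 1 := fun h => hTH (hΦker T h)
  obtain ⟨k, hk⟩ : ∃ k : ℤ, (Φ u) ^ k = Φ T * Φ u * (Φ T)⁻¹ := by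
    set N := zpowers (Φ u) with hN
    have hR : Nat.card Φ.range ≤ 10 := by
      have hle : Q ≤ Φ.ker := by
        intro q hq
        rw [MonoidHom.mem_ker]
        apply Equiv.ext
        intro j
        show idx (e (MulAut.conjNormal q (e.symm (pt j)))) = j
        have h : MulAut.conjNormal q (e.symm (pt j)) = ⟨q, hq⟩ * e.symm (pt j) * (⟨q, hq⟩ : Q)⁻¹ :=
          Subtype.ext (MulAut.conjNormal_apply q _)
        rw [h, map_mul, map_mul, MulEquiv.apply_symm_apply, map_inv]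
        exact conj_idx _ _
      rw [← index_ker, ← hQidx]
      exact Nat.le_of_dvd (by omega) (index_dvd_of_le hle)
    have hle : N ≤ Φ.range := zpowers_le.mpr ⟨u, rfl⟩
    have hNcard : Nat.card N = 5 := by rw [hN, Nat.card_zpowers, hc]
    by_cases hmem : Φ T * Φ u * (Φ T)⁻¹ ∈ N
    · exact mem_zpowers_iff.mp hmem
    exfalso
    set M := zpowers (Φ T * Φ u * (Φ T)⁻¹) with hM
    have hMcard : Nat.card M = 5 := by
      rw [hM, Nat.card_zpowers]
      refine Eq.trans ?_ hc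
      exact orderOf_injective (MulAut.conj (Φ T)).toMonoidHom (MulAut.conj (Φ T)).injective (Φ u)
    have hinf : N ⊓ M = ⊥ := by
      rcases (Nat.dvd_prime (by norm_num : Nat.Prime 5)).mp (hMcard ▸ card_dvd_of_le (inf_le_right : N ⊓ M ≤ M)) with h | h
      · exact eq_bot_of_card_eq _ h
      · exfalso
        apply hmem
        have h1 : N ⊓ M = M := eq_of_le_of_card_ge inf_le_right (by rw [h, hMcard])
        exact (h1.ge.trans inf_le_left) (mem_zpowers _)
    let g : N × M → Φ.range := fun p => ⟨(p.1 : Equiv.Perm (Fin 5)) * p.2,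
      mul_mem (hle p.1.2) ((zpowers_le.mpr ⟨T * u * T⁻¹, by simp⟩ : M ≤ Φ.range) p.2.2)⟩
    have hg : Function.Injective g := by
      rintro ⟨a, b⟩ ⟨a', b'⟩ h
      have h1 : (a : Equiv.Perm (Fin 5)) * b = a' * b' := congrArg Subtype.val h
      have h2 : (a' : Equiv.Perm (Fin 5))⁻¹ * a = b' * (b : Equiv.Perm (Fin 5))⁻¹ := by
        rw [eq_mul_inv_iff_mul_eq, mul_assoc, h1, inv_mul_cancel_left]
      have h3 : (a' : Equiv.Perm (Fin 5))⁻¹ * a ∈ N ⊓ M :=
        ⟨N.mul_mem (N.inv_mem a'.2) a.2, h2 ▸ M.mul_mem b'.2 (M.inv_mem b.2)⟩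
      rw [hinf, mem_bot] at h3
      have ha : a = a' := Subtype.ext (inv_mul_eq_one.mp h3).symm
      subst ha
      exact Prod.ext rfl (Subtype.ext (mul_left_cancel h1))
    have h25 := Nat.card_le_card_of_injective g hg
    rw [Nat.card_prod, hNcard, hMcard] at h25
    omega
  set α := MulAut.congr e (MulAut.conjNormal T) with hα
  have hTT : T * T = 1 := by rw [← pow_two, ← hT, pow_orderOf_eq_one]
  have hαα : ∀ x, α (α x) = x := by
    intro x
    rw [← MulAut.mul_apply, hα, ← map_mul, ← map_mul, hTT, map_one, map_one, MulAut.one_apply]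
  obtain ⟨f, hf⟩ := fixed_small α hαα (fun a b ha hb => perm_fix_unique hc hσne hk.symm ha hb)
  set C := Q ⊓ centralizer ({T} : Set G) with hC
  have hmap : ∀ q (hq : q ∈ C), e ⟨q, hq.1⟩ = 1 ∨ e ⟨q, hq.1⟩ = ⟨1, 0, 0, 0, 0⟩ ∨ e ⟨q, hq.1⟩ = pt f ∨
      e ⟨q, hq.1⟩ = ⟨1, 0, 0, 0, 0⟩ * pt f := by
    intro q hq
    apply hf
    show e (MulAut.conjNormal T (e.symm (e ⟨q, hq.1⟩))) = _
    rw [MulEquiv.symm_apply_apply]
    congr 1
    apply Subtype.ext
    rw [MulAut.conjNormal_apply]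
    show T * q * T⁻¹ = q
    rw [← mem_centralizer_singleton_iff.mp hq.2, mul_inv_cancel_right]
  have hC4 : Nat.card C ≤ 4 := by
    let S : Set Minus := {1, ⟨1, 0, 0, 0, 0⟩, pt f, ⟨1, 0, 0, 0, 0⟩ * pt f}
    have h1 : Nat.card C ≤ Nat.card S :=
      Nat.card_le_card_of_injective (fun q : C => (⟨e ⟨q, q.2.1⟩, by
        rcases hmap q q.2 with h | h | h | h <;> simp [S, h]⟩ : S))
        (fun a b h => Subtype.ext (congrArg (fun w : Q => (w : G)) (e.injective (congrArg Subtype.val h))))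
    refine h1.trans ?_
    rw [Nat.card_coe_set_eq]
    calc S.ncard ≤ ({⟨1, 0, 0, 0, 0⟩, pt f, ⟨1, 0, 0, 0, 0⟩ * pt f} : Set Minus).ncard + 1 := Set.ncard_insert_le _ _
      _ ≤ ({pt f, ⟨1, 0, 0, 0, 0⟩ * pt f} : Set Minus).ncard + 1 + 1 := by gcongr; exact Set.ncard_insert_le _ _
      _ ≤ 4 := by
        have := Set.ncard_insert_le (pt f) ({⟨1, 0, 0, 0, 0⟩ * pt f} : Set Minus)
        rw [Set.ncard_singleton] at this
        omega
  have hVC : V = C := eq_of_le_of_card_ge hV (by rw [hV4]; exact hC4)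
  exact ⟨hVC ▸ hV4, hVC ▸ hVe⟩

end H31.AutMinus
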