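import Cfsg.Agent.H31.FourComm
import Cfsg.Agent.H83.MaxNormalElem
import Cfsg.Agent.H80.Rank
import Cfsg.Agent.H80.Rank2Cor
import Cfsg.Agent.H80.Rank2Solv
import Cfsg.Agent.H80.NarrowSolv
import Cfsg.Agent.H10.PSolvable
import Cfsg.Agent.H1.Hall
import Cfsg.Agent.H1.Cores

/-! A cyclic 3-group with commutator of order four in a solvable group of rank three. -/

set_option autoImplicit false
set_option linter.style.haveILetI false
set_option linter.unusedSectionVars false

namespace H31.FourComm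

universe u

section Fix

variable {M : Type u} [CommGroup M] [Finite M]

/-- The pointwise stabiliser. -/
def fixer (V : Subgroup M) : Subgroup (MulAut M) where
  carrier := {f | ∀ v ∈ V, f v = v}
  one_mem' _ _ := rfl
  mul_mem' {f g} hf hg v hv := by rw [MulAut.mul_apply, hg v hv, hf v hv]
  inv_mem' {f} hf v hv := by
    conv_lhs => rw [← hf v hv]
    exact MulAut.inv_apply_self _ _ _

theorem index_fix_three [Fact (Nat.Prime 3)] (hexp : ∀ m : M, m * m = 1) {A : Subgroup (MulAut M)}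
    (hA : IsPGroup 3 A) {V : Subgroup M} (hV4 : Nat.card V = 4)
    (hAV : ∀ a ∈ A, V.map a.toMonoidHom = V) : (fixer V).relIndex A ≤ 3 := by
  let res : A →* MulAut V :=
    { toFun := fun f =>
        { toFun := fun w => ⟨(f : MulAut M) w, (hAV f f.2).le ⟨w, w.2, rfl⟩⟩
          invFun := fun w => ⟨(f : MulAut M)⁻¹ w, (hAV _ (A.inv_mem f.2)).le ⟨w, w.2, rfl⟩⟩
          left_inv := fun w => Subtype.ext (MulAut.inv_apply_self _ _ _)
          right_inv := fun w => Subtype.ext (MulAut.apply_inv_self _ _ _)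
          map_mul' := fun a b => Subtype.ext (map_mul _ _ _) }
      map_one' := rfl
      map_mul' := fun f g => rfl }
  have hker : res.ker = (fixer V).subgroupOf A := by
    ext a
    rw [MonoidHom.mem_ker, Subgroup.mem_subgroupOf]
    refine ⟨fun h v hv => congrArg Subtype.val (DFunLike.congr_fun h ⟨v, hv⟩),
      fun h => MulEquiv.ext fun v => Subtype.ext (h v v.2)⟩
  rw [Subgroup.relIndex, ← hker, Subgroup.index_ker]
  obtain ⟨j, hj⟩ := IsPGroup.iff_card.mp (hA.of_surjective res.rangeRestrict res.rangeRestrict_surjective)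
  haveI : Fact (Nat.Prime 2) := ⟨Nat.prime_two⟩
  have hexpV : ∀ v : V, v * v = 1 := fun v => Subtype.ext (hexp v)
  have h := (Subgroup.card_subgroup_dvd_card res.range).trans
    (Cfsg.Agent.H29.card_automorphisms_dvd (p := 2) (n := 2) (r := 2) (show Nat.card V = 2 ^ 2 by rw [hV4]; norm_num)
      (by rw [frattini_eq_bot hexpV, Subgroup.index_bot, hV4]; norm_num))
  rw [hj] at h ⊢
  have hj1 : j ≤ 1 := by
    by_contra hgt
    have : 3 ^ 2 ∣ 2 ^ (2 * (2 - 2)) * ∏ i ∈ Finset.range 2, (2 ^ 2 - 2 ^ i) := (pow_dvd_pow 3 (by omega)).trans h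
    revert this
    decide
  calc 3 ^ j ≤ 3 ^ 1 := Nat.pow_le_pow_right (by norm_num) hj1
    _ = 3 := by norm_num

end Fix

variable {S : Type u} [Group S] [Finite S]

theorem exists_three {r : ℕ} [Fact r.Prime] {A : Subgroup S} (hA : Cfsg.IsElementaryAbelian r A)
    (hA3 : r ^ 3 ≤ Nat.card A) {V : Subgroup S} {A₀ : Subgroup S} (h0 : A₀ ≤ A) (hidx : A₀.relIndex A ≤ r)
    (hfix : A₀ ≤ Subgroup.centralizer (V : Set S)) :
    ∃ F : Subgroup S, Cfsg.IsElementaryAbelian r F ∧ Nat.card F = r ^ 3 ∧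
      ¬ IsCyclic ↥(F ⊓ Subgroup.centralizer (V : Set S)) := by
  have hr : r.Prime := Fact.out
  have hAp : IsPGroup r A := fun a => ⟨1, Subtype.ext (by rw [pow_one]; exact hA.2 a a.2)⟩
  obtain ⟨k, hk⟩ := IsPGroup.iff_card.mp hAp
  obtain ⟨l, hl⟩ := IsPGroup.iff_card.mp (hAp.to_subgroup (A₀.subgroupOf A))
  have hk3 : 3 ≤ k := (Nat.pow_le_pow_iff_right hr.one_lt).mp (hk ▸ hA3)
  have hl2 : 2 ≤ l := by
    have h1 : Nat.card (A₀.subgroupOf A) * A₀.relIndex A = Nat.card A := (A₀.subgroupOf A).card_mul_index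
    rw [hl, hk] at h1
    have h2 : r ^ k ≤ r ^ (l + 1) := by
      rw [← h1, pow_succ]; exact Nat.mul_le_mul_left _ hidx
    have := (Nat.pow_le_pow_iff_right hr.one_lt).mp h2
    omega
  obtain ⟨B, hB, hBle⟩ := Sylow.exists_subgroup_card_pow_prime r (G := ↥(A₀.subgroupOf A)) (n := 2)
    (hl ▸ pow_dvd_pow r hl2) |>.elim fun B hB => (⟨B.map (A₀.subgroupOf A).subtype,
      by rw [Subgroup.card_map_of_injective (A₀.subgroupOf A).subtype_injective, hB], Subgroup.map_subtype_le B⟩ :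
      ∃ B : Subgroup A, Nat.card B = r ^ 2 ∧ B ≤ A₀.subgroupOf A)
  obtain ⟨F, hF, hBF⟩ := Sylow.exists_subgroup_card_pow_prime_le r (G := A) (n := 2) (m := 3)
    (hk ▸ pow_dvd_pow r hk3) B hB (by norm_num)
  refine ⟨F.map A.subtype, ⟨?_, ?_⟩, ?_, ?_⟩
  · haveI := hA.1
    exact inferInstance
  · rintro _ ⟨a, -, rfl⟩
    exact hA.2 a a.2
  · rw [Subgroup.card_map_of_injective A.subtype_injective, hF]
  · intro hc
    haveI : IsCyclic ↥(B.map A.subtype) := isCyclic_of_injective (Subgroup.inclusion (le_inf (Subgroup.map_mono hBF) (by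
      rintro _ ⟨b, hb, rfl⟩
      exact hfix (hBle hb)))) (Subgroup.inclusion_injective _)
    have h1 : Monoid.exponent ↥(B.map A.subtype) ∣ r := Monoid.exponent_dvd_of_forall_pow_eq_one fun b =>
      Subtype.ext (by rw [Subgroup.coe_pow]; exact hA.2 b (Subgroup.map_subtype_le B b.2))
    rw [IsCyclic.exponent_eq_card, Subgroup.card_map_of_injective A.subtype_injective, hB] at h1
    have := Nat.le_of_dvd hr.pos h1
    nlinarith [hr.two_le]

theorem exists_normalized_rank_three [Group.IsSolvable S] {p : ℕ} [Fact p.Prime] (hp5 : 5 ≤ p)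
    (h3 : Cfsg.PRankLE 3 2 S) {Q : Subgroup S} (hQ : IsPGroup 3 Q) {E : Subgroup S}
    (hE : Cfsg.IsElementaryAbelian p E) :
    ∃ (P E' : Subgroup S), IsPGroup p P ∧ (∀ q ∈ Q, ∀ x ∈ P, q * x * q⁻¹ ∈ P) ∧ E' ≤ P ∧
      Cfsg.IsElementaryAbelian p E' ∧ Nat.card E' = Nat.card E := by
  haveI : Fact (Nat.Prime 3) := ⟨Nat.prime_three⟩
  have hp : p.Prime := Fact.out
  set a := (Nat.card S).factorization 3
  set b := (Nat.card S).factorization p
  have hcop : (3 ^ a).Coprime (p ^ b) := Nat.Coprime.pow _ _ ((Nat.coprime_primes Nat.prime_three hp).mpr (by omega))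
  obtain ⟨n, hn⟩ : 3 ^ a * p ^ b ∣ Nat.card S :=
    hcop.mul_dvd_of_dvd_of_dvd (Nat.ordProj_dvd _ _) (Nat.ordProj_dvd _ _)
  have hmn : (3 ^ a * p ^ b).Coprime n := by
    refine Nat.Coprime.mul_left ?_ ?_
    · refine Nat.Coprime.pow_left _ ((Nat.Prime.coprime_iff_not_dvd Nat.prime_three).mpr fun h => ?_)
      obtain ⟨t, rfl⟩ := h
      exact Nat.pow_succ_factorization_not_dvd Nat.card_pos.ne' Nat.prime_three
        (Dvd.intro (p ^ b * t) (show 3 ^ (a + 1) * (p ^ b * t) = Nat.card S by rw [hn]; ring))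
    · refine Nat.Coprime.pow_left _ ((Nat.Prime.coprime_iff_not_dvd hp).mpr fun h => ?_)
      obtain ⟨t, rfl⟩ := h
      exact Nat.pow_succ_factorization_not_dvd Nat.card_pos.ne' hp
        (Dvd.intro (3 ^ a * t) (show p ^ (b + 1) * (3 ^ a * t) = Nat.card S by rw [hn]; ring))
  obtain ⟨H, hH, hQH⟩ := H1.hall_exists_ge _ n hn hmn Q (by
    obtain ⟨j, hj⟩ := IsPGroup.iff_card.mp hQ
    obtain ⟨t, ht⟩ : ∃ t, Nat.card Q ∣ 3 ^ t := ⟨j, hj.dvd⟩
    rw [hj]
    refine Nat.Coprime.pow_left _ ?_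
    rcases Nat.eq_zero_or_pos a with ha | ha
    · refine (Nat.Prime.coprime_iff_not_dvd Nat.prime_three).mpr fun h => ?_
      obtain ⟨t, rfl⟩ := h
      exact Nat.pow_succ_factorization_not_dvd Nat.card_pos.ne' Nat.prime_three
        (Dvd.intro (p ^ b * t) (show 3 ^ (a + 1) * (p ^ b * t) = Nat.card S by rw [hn]; ring))
    · exact (Nat.Coprime.coprime_dvd_left ((dvd_pow_self 3 (by omega)).mul_right _) hmn))
  set R := Cfsg.pCore p H with hR
  haveI hRn : R.Normal := H10.pCore_normal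
  have hRp : IsPGroup p R := H10.pCore_isPGroup
  obtain ⟨e, he⟩ := IsPGroup.iff_card.mp hRp
  have h3H : Cfsg.PRankLE 3 2 (H ⧸ R) :=
    H80.pRankLE_quotient_coprime R (by
      rw [he]
      exact fun h => by
        have := (Nat.prime_dvd_prime_iff_eq Nat.prime_three hp).mp (Nat.prime_three.dvd_of_dvd_pow h)
        omega) (H80.pRankLE_of_injective H.subtype H.subtype_injective h3)
  have hpRbot : Cfsg.pCore p (H ⧸ R) = ⊥ := H1.pCore_quotient_pCore p H
  -- `H / R` is a `3`-group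
  have hnp : ¬ p ∣ Nat.card (H ⧸ R) := by
    intro hdvd
    obtain ⟨x, hx⟩ := exists_prime_orderOf_dvd_card' p hdvd
    have hbot : Cfsg.pPrimeCore 3 (H ⧸ R) = ⊥ := by
      rw [Cfsg.pPrimeCore, sSup_eq_bot]
      rintro N ⟨hN, hNc⟩
      rw [← le_bot_iff, ← hpRbot]
      refine le_sSup ⟨hN, ?_⟩
      have h1 : Nat.card N ∣ 3 ^ a * p ^ b := by
        refine (Subgroup.card_subgroup_dvd_card N).trans ?_
        rw [← hH]
        exact Subgroup.card_quotient_dvd_card R
      have h2 := (Nat.Coprime.pow_right a hNc).dvd_of_dvd_mul_left h1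
      obtain ⟨i, -, hi⟩ := (Nat.dvd_prime_pow hp).mp h2
      exact IsPGroup.of_card hi
    have hC := H10.centralizer_pCore_le (p := 3) (G := H ⧸ R) H10.isPSolvable_of_isSolvable hbot
    set T := Cfsg.pCore 3 (H ⧸ R)
    haveI : T.Normal := H10.pCore_normal
    have hTp : IsPGroup 3 T := H10.pCore_isPGroup
    have hxT : x ∉ T := fun h => by
      obtain ⟨i, hi⟩ := IsPGroup.iff_orderOf.mp hTp ⟨x, h⟩
      rw [Subgroup.orderOf_mk, hx] at hi
      have := (Nat.prime_dvd_prime_iff_eq hp Nat.prime_three).mp (hp.dvd_of_dvd_pow (hi ▸ dvd_rfl : p ∣ 3 ^ i))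
      omega
    have hfaith : Subgroup.zpowers x ⊓ Subgroup.centralizer (T : Set (H ⧸ R)) = ⊥ := by
      by_contra hne
      have hd : Nat.card ↥(Subgroup.zpowers x ⊓ Subgroup.centralizer (T : Set (H ⧸ R))) ∣ p := by
        have := Subgroup.card_dvd_of_le (inf_le_left : Subgroup.zpowers x ⊓ Subgroup.centralizer (T : Set (H ⧸ R)) ≤ _)
        rwa [Nat.card_zpowers, hx] at this
      rcases (Nat.dvd_prime hp).mp hd with h | h
      · exact hne (Subgroup.card_eq_one.mp h)
      · have heq := Subgroup.eq_of_le_of_card_ge (inf_le_left : Subgroup.zpowers x ⊓ Subgroup.centralizer (T : Set (H ⧸ R)) ≤ _)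
          (by rw [Nat.card_zpowers, hx, h])
        exact hxT (hC (show x ∈ Subgroup.centralizer (T : Set (H ⧸ R)) from (heq.ge (Subgroup.mem_zpowers x)).2))
    have := H80.rank2_prime_dvd (p := 3) (by norm_num) hTp
      (H80.pRankLE_of_injective T.subtype T.subtype_injective h3H)
      (A := Subgroup.zpowers x) (by rw [Subgroup.normalizer_eq_top (H := T)]; exact le_top) hfaith hp (by omega)
      (by omega) (by rw [Nat.card_zpowers, hx])
    rcases this with h | h <;> have := Nat.le_of_dvd (by norm_num) h <;> omega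
  have hRcard : Nat.card R = p ^ b := by
    refine Nat.dvd_antisymm ?_ ?_
    · have h1 : Nat.card R ∣ 3 ^ a * p ^ b := hH ▸ Subgroup.card_subgroup_dvd_card R
      rw [he] at h1 ⊢
      exact (Nat.Coprime.pow _ _ ((Nat.coprime_primes hp Nat.prime_three).mpr (by omega))).dvd_of_dvd_mul_left h1
    · have h1 : p ^ b ∣ Nat.card R * R.index := by
        rw [R.card_mul_index, hH]; exact dvd_mul_left _ _
      exact (Nat.Coprime.pow_left _ ((Nat.Prime.coprime_iff_not_dvd hp).mpr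
        (by rw [Subgroup.index_eq_card]; exact hnp))).dvd_of_dvd_mul_right h1
  set P := R.map H.subtype with hP
  have hPc : Nat.card P = p ^ b := by rw [hP, Subgroup.card_map_of_injective H.subtype_injective, hRcard]
  have hPp : IsPGroup p P := IsPGroup.of_card hPc
  let PS : Sylow p S := Sylow.ofCard P hPc
  have hEp : IsPGroup p E := fun a => ⟨1, Subtype.ext (by rw [pow_one]; exact hE.2 a a.2)⟩
  obtain ⟨T, hT⟩ := hEp.exists_le_sylow
  obtain ⟨g, hg⟩ := MulAction.exists_smul_eq S T PS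
  refine ⟨P, E.map (MulAut.conj g).toMonoidHom, hPp, fun q hq x hx => ?_, ?_, H80.elemAb_map _ hE, ?_⟩
  · obtain ⟨y, hy, rfl⟩ := hx
    exact ⟨⟨q, hQH hq⟩ * y * ⟨q, hQH hq⟩⁻¹, hRn.conj_mem y hy _, rfl⟩
  · refine (Subgroup.map_mono hT).trans (le_of_eq ?_)
    show _ = ((PS : Sylow p S) : Subgroup S)
    rw [← hg, Sylow.coe_subgroup_smul]
    rfl
  · rw [Subgroup.card_map_of_injective (f := (MulAut.conj g).toMonoidHom) (MulAut.conj g).injective]

theorem main [Group.IsSolvable S] (M : Subgroup S) [M.Normal] (hM : Cfsg.IsElementaryAbelian 2 M)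
    (p : ℕ) (hp : p.Prime) (hp2 : p ≠ 2) (E : Subgroup S) (hE : Cfsg.IsElementaryAbelian p E)
    (hE3 : Nat.card E = p ^ 3) (Q : Subgroup S) (hQc : IsCyclic Q) (hQ3 : IsPGroup 3 Q)
    (hQ1 : ∀ x ∈ Q, x ^ 3 ∈ Subgroup.centralizer (M : Set S)) (hQM : Nat.card ↥⁅Q, M⁆ = 4) :
    ∃ (r : ℕ) (F : Subgroup S), r.Prime ∧ r ≠ 2 ∧ Cfsg.IsElementaryAbelian r F ∧ Nat.card F = r ^ 3 ∧
      ¬ IsCyclic ↥(F ⊓ Subgroup.centralizer ((⁅Q, M⁆ : Subgroup S) : Set S)) := by
  haveI : Fact (Nat.Prime 3) := ⟨Nat.prime_three⟩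
  haveI := Fact.mk hp
  letI : CommGroup M := { (inferInstance : Group M) with mul_comm := hM.1.is_comm.comm }
  obtain ⟨q, rfl⟩ := Q.isCyclic_iff_exists_zpowers_eq_top.mp hQc
  set ρ : S →* MulAut M := MulAut.conjNormal with hρ
  set c := ρ q with hc
  have hexp : ∀ m : M, m * m = 1 := fun m => Subtype.ext (by
    show (m : S) * m = 1
    rw [← pow_two]; exact hM.2 m m.2)
  have hc3 : c ^ 3 = 1 := by
    refine MulEquiv.ext fun m => Subtype.ext ?_
    rw [hc, ← map_pow, hρ, MulAut.conjNormal_apply, MulAut.one_apply,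
      ← Subgroup.mem_centralizer_iff.mp (hQ1 q (Subgroup.mem_zpowers q)) m m.2, mul_inv_cancel_right]
  set V := ⁅Subgroup.zpowers q, M⁆ with hV
  have hVeq : (supp c).map M.subtype = V := by
    refine le_antisymm ?_ (Subgroup.commutator_le.mpr fun x hx m hm => ?_)
    · rintro _ ⟨_, ⟨m, rfl⟩, rfl⟩
      exact Subgroup.commutator_mem_commutator (Subgroup.mem_zpowers q) m.2
    · obtain ⟨i, rfl⟩ := Subgroup.mem_zpowers_iff.mp hx
      refine ⟨ρ (q ^ i) ⟨m, hm⟩ * ⟨m, hm⟩⁻¹, ?_, ?_⟩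
      · rw [map_zpow]
        exact (stab (supp c)).zpow_mem (mem_stab.mpr le_rfl) i ⟨m, hm⟩
      · rw [commutatorElement_def]; rfl
  have hc4 : Nat.card (supp c) = 4 := by
    rw [← hQM, ← hVeq]
    exact (Nat.card_congr ((supp c).equivMapOfInjective M.subtype M.subtype_injective).toEquiv)
  have hcent : ∀ x : S, ρ x ∈ fixer (supp c) → x ∈ Subgroup.centralizer (V : Set S) := by
    intro x hx
    rw [← hVeq]
    refine Subgroup.mem_centralizer_iff.mpr ?_
    rintro _ ⟨v, hv, rfl⟩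
    have h := congrArg Subtype.val (hx v hv)
    rw [hρ, MulAut.conjNormal_apply, mul_inv_eq_iff_eq_mul] at h
    exact h.symm
  by_cases h3 : Cfsg.PRankLE 3 2 S
  · -- all of the rank lies at `p`
    have hp5 : 5 ≤ p := by
      have hne3 : p ≠ 3 := by
        rintro rfl
        have := h3 E hE.1 hE.2
        rw [hE3] at this
        norm_num at this
      have := hp.two_le
      by_contra hlt
      interval_cases p <;> simp_all (config := { decide := true })
    obtain ⟨P, E', hPp, hnorm, hE'P, hE', hE'c⟩ := exists_normalized_rank_three hp5 h3 hQ3 hE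
    obtain ⟨P₀, hP₀le, hidx, hfix⟩ := index_fix_le hexp hc3 hc4 hp5 (hPp.map ρ) (by
      rintro _ ⟨x, hx, rfl⟩
      exact ⟨q * x * q⁻¹, hnorm q (Subgroup.mem_zpowers q) x hx, by rw [map_mul, map_mul, map_inv]⟩)
    have hidx' : (P₀.comap ρ ⊓ E').relIndex E' ≤ p := by
      rw [Subgroup.inf_relIndex_right, Subgroup.relIndex_comap]
      refine le_trans (Subgroup.relIndex_le_of_le_right (Subgroup.map_mono hE'P) ?_) hidx
      exact Subgroup.index_ne_zero_of_finite
    obtain ⟨F, hF, hF3, hFc⟩ := exists_three hE' (le_of_eq (hE'c.trans hE3).symm)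
      (A₀ := P₀.comap ρ ⊓ E') inf_le_right hidx' (V := V) fun x hx => hcent x (hfix _ hx.1)
    exact ⟨p, F, hp, hp2, hF, hF3, hFc⟩
  · obtain ⟨T, hT⟩ := hQ3.exists_le_sylow
    have hr : ¬ Cfsg.PRankLE 3 2 (T : Subgroup S) := fun h => h3 (H80.pRankLE_of_sylow T h)
    obtain ⟨B, -, hBn, hB, hmax⟩ := H83.exists_maximal_normal_elemAb (R := (T : Subgroup S)) (p := 3)
      (E := ⊥) inferInstance ⟨inferInstance, fun a ha => by rw [Subgroup.mem_bot] at ha; rw [ha, one_pow]⟩
    have hBc := H83.lt_card_of_maximal_normal_elemAb (by norm_num) T.isPGroup' hr hB hmax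
    set A := B.map (T : Subgroup S).subtype with hA
    have hAe : Cfsg.IsElementaryAbelian 3 A := H80.elemAb_map _ hB
    have hAT : A ≤ (T : Subgroup S) := Subgroup.map_subtype_le B
    have hA27 : 3 ^ 3 ≤ Nat.card A := by
      rw [hA, Subgroup.card_map_of_injective (T : Subgroup S).subtype_injective]
      obtain ⟨k, hk⟩ := IsPGroup.iff_card.mp (T.isPGroup'.to_subgroup B)
      rw [hk] at hBc ⊢
      exact Nat.pow_le_pow_right (by norm_num) ((Nat.pow_lt_pow_iff_right (by norm_num)).mp hBc)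
    have hpres : ∀ a ∈ A.map ρ, (supp c).map a.toMonoidHom = supp c := by
      intro a ha
      refine map_supp_of_three hexp hc3 hc4 (T.isPGroup'.map ρ) ⟨q, hT (Subgroup.mem_zpowers q), rfl⟩
        (Subgroup.map_mono hAT) ?_ ?_ ha
      · rintro _ ⟨x, hx, rfl⟩ _ ⟨y, hy, rfl⟩
        rw [← map_mul, ← map_mul]
        exact congrArg ρ (congrArg Subtype.val (hAe.1.is_comm.comm ⟨x, hx⟩ ⟨y, hy⟩))
      · rintro _ ⟨x, hx, rfl⟩
        refine ⟨q * x * q⁻¹, ?_, by rw [map_mul, map_mul, map_inv]⟩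
        obtain ⟨y, hy, rfl⟩ := hx
        exact ⟨⟨q, hT (Subgroup.mem_zpowers q)⟩ * y * ⟨q, hT (Subgroup.mem_zpowers q)⟩⁻¹,
          hBn.conj_mem y hy _, rfl⟩
    have hidx := index_fix_three hexp ((T.isPGroup'.to_le hAT).map ρ) hc4 hpres
    have hidx' : ((fixer (supp c)).comap ρ ⊓ A).relIndex A ≤ 3 := by
      rw [Subgroup.inf_relIndex_right, Subgroup.relIndex_comap]
      exact hidx
    obtain ⟨F, hF, hF3, hFc⟩ := exists_three hAe hA27 (A₀ := (fixer (supp c)).comap ρ ⊓ A) inf_le_right hidx'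
      (V := V) fun x hx => hcent x hx.1
    exact ⟨3, F, Nat.prime_three, by norm_num, hF, hF3, hFc⟩

end H31.FourComm
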