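import Mathlib
import Cfsg.Agent.H35.DerivedLinear

/-! An irreducible representation of a `q`-group over an algebraically closed field has `q`-power dimension. -/

set_option autoImplicit false
set_option linter.style.haveILetI false

namespace H31.QDeg

universe u v w

variable {K : Type v} [Field K] [IsAlgClosed K]

/-- Schur. -/
theorem scalar_of_commute {V : Type w} [AddCommGroup V] [Module K V] [FiniteDimensional K V] [Nontrivial V]
    {P : Type u} [Monoid P] (ρ : P →* Module.End K V)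
    (hirr : ∀ U : Submodule K V, (∀ g, ∀ v ∈ U, ρ g v ∈ U) → U = ⊥ ∨ U = ⊤)
    (c : Module.End K V) (hc : ∀ g, c * ρ g = ρ g * c) : ∃ μ : K, c = μ • 1 := by
  obtain ⟨a, ha⟩ := Module.End.exists_eigenvalue c
  refine ⟨a, ?_⟩
  rcases hirr (c.eigenspace a) (fun g v hv => by
    rw [Module.End.mem_eigenspace_iff] at hv ⊢
    rw [← Module.End.mul_apply, hc g, Module.End.mul_apply, hv, map_smul]) with h | h
  · exact absurd h ha
  · exact LinearMap.ext fun v => by
      rw [LinearMap.smul_apply, Module.End.one_apply]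
      exact Module.End.mem_eigenspace_iff.mp (h ▸ Submodule.mem_top)

theorem finrank_eq_pow_aux {q : ℕ} [Fact q.Prime] :
    ∀ (n : ℕ) (P : Type u) [Group P] [Finite P], Nat.card P = n → IsPGroup q P →
      ∀ (V : Type w) [AddCommGroup V] [Module K V] [FiniteDimensional K V] [Nontrivial V]
        (ρ : P →* Module.End K V), (∀ U : Submodule K V, (∀ g, ∀ v ∈ U, ρ g v ∈ U) → U = ⊥ ∨ U = ⊤) →
        ∃ m, Module.finrank K V = q ^ m := by
  intro n
  induction n using Nat.strong_induction_on with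
  | _ n ih =>
  intro P _ _ hn hP V _ _ _ _ ρ hirr
  classical
  by_cases hab : ∀ g h, ρ g * ρ h = ρ h * ρ g
  · refine ⟨0, ?_⟩
    obtain ⟨v, hv⟩ := exists_ne (0 : V)
    rw [pow_zero]
    refine (finrank_eq_one_iff_of_nonzero' v hv).mpr fun w => ?_
    rcases hirr (Submodule.span K {v}) (fun g z hz => by
      obtain ⟨μ, hμ⟩ := scalar_of_commute ρ hirr (ρ g) (hab g)
      rw [hμ, LinearMap.smul_apply, Module.End.one_apply]
      exact Submodule.smul_mem _ _ hz) with h | h
    · exact absurd h (by rwa [Submodule.span_singleton_eq_bot])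
    · exact Submodule.mem_span_singleton.mp (h ▸ Submodule.mem_top)
  -- an element central modulo scalars
  let Z : Subgroup P := (Subgroup.center ρ.toHomUnits.range).comap ρ.toHomUnits.rangeRestrict
  have hZ : ∀ z, z ∈ Z ↔ ∀ h, ρ z * ρ h = ρ h * ρ z := by
    intro z
    simp only [Z, Subgroup.mem_comap, Subgroup.mem_center_iff]
    constructor
    · intro h g
      exact (congrArg (fun t : ρ.toHomUnits.range => ((t : (Module.End K V)ˣ) : Module.End K V))
        (h (ρ.toHomUnits.rangeRestrict g))).symm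
    · rintro h ⟨_, g, rfl⟩
      exact Subtype.ext (Units.ext (h g).symm)
  have hscal : ∀ z ∈ Z, ∃ c : K, ρ z = c • 1 := fun z hz => scalar_of_commute ρ hirr _ ((hZ z).mp hz)
  haveI : Nontrivial (P ⧸ Z) := QuotientGroup.nontrivial_iff.2 fun ht => hab fun g h =>
    (hZ g).mp (ht ▸ Subgroup.mem_top g) h
  haveI := (hP.to_quotient Z).center_nontrivial
  obtain ⟨⟨x', hx'⟩, hx'1⟩ := exists_ne (1 : Subgroup.center (P ⧸ Z))
  obtain ⟨x, rfl⟩ := QuotientGroup.mk'_surjective Z x'
  have htw : ∀ g, ∃ c : K, ρ x * ρ g = c • (ρ g * ρ x) := by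
    intro g
    have hz : (g * x)⁻¹ * (x * g) ∈ Z := QuotientGroup.eq.mp (Subgroup.mem_center_iff.mp hx' (g : P ⧸ Z))
    obtain ⟨c, hc⟩ := hscal _ hz
    refine ⟨c, ?_⟩
    calc ρ x * ρ g = ρ (g * x) * ρ ((g * x)⁻¹ * (x * g)) := by
          rw [← map_mul, ← map_mul, mul_inv_cancel_left]
      _ = _ := by rw [hc, mul_smul_comm, mul_one, map_mul]
  choose f hf using htw
  have hinj : ∀ g, Function.Injective (ρ g) := fun g a b e => by
    have := congrArg (ρ g⁻¹) e
    rwa [← Module.End.mul_apply, ← Module.End.mul_apply, ← map_mul, inv_mul_cancel, map_one] at this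
  obtain ⟨μ, hμ⟩ := Module.End.exists_eigenvalue (ρ x)
  set E := (ρ x).eigenspace μ with hE
  haveI hEnt : Nontrivial E := Submodule.nontrivial_iff_ne_bot.mpr hμ
  obtain ⟨⟨y, hy⟩, hy0⟩ := exists_ne (0 : E)
  have hy0' : y ≠ 0 := fun e => hy0 (Subtype.ext e)
  have hμ0 : μ ≠ 0 := fun e => hy0' (hinj x (by
    rw [map_zero, Module.End.mem_eigenspace_iff.mp hy, e, zero_smul]))
  let M : Subgroup P := (Subgroup.centralizer {ρ.toHomUnits x}).comap ρ.toHomUnits
  have hM : ∀ g, g ∈ M ↔ ρ g * ρ x = ρ x * ρ g := fun g => by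
    simp only [M, Subgroup.mem_comap, Subgroup.mem_centralizer_singleton_iff, Units.ext_iff]
    exact ⟨fun h => h, fun h => h⟩
  have hMne : M ≠ ⊤ := fun h => hx'1 (Subtype.ext ((QuotientGroup.eq_one_iff x).mpr
    ((hZ x).mpr fun g => ((hM g).mp (h ▸ Subgroup.mem_top g)).symm)))
  have hmap : ∀ g, ∀ z ∈ E, ρ g z ∈ (ρ x).eigenspace (f g * μ) := fun g z hz => by
    rw [Module.End.mem_eigenspace_iff, ← Module.End.mul_apply, hf, LinearMap.smul_apply, Module.End.mul_apply,
      Module.End.mem_eigenspace_iff.mp hz, map_smul, smul_smul]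
  have hMinv : ∀ g ∈ M, ∀ z ∈ E, ρ g z ∈ E := by
    intro g hg z hz
    rw [hE, Module.End.mem_eigenspace_iff, ← Module.End.mul_apply, ← (hM g).mp hg, Module.End.mul_apply,
      Module.End.mem_eigenspace_iff.mp hz, map_smul]
  have hfinj : ∀ g h, f g = f h → g⁻¹ * h ∈ M := by
    intro g h e
    have hf0 : f h ≠ 0 := fun e0 => hy0' (hinj (x * h) (by
      rw [map_zero, map_mul, hf, e0, zero_smul, LinearMap.zero_apply]))
    rw [hM]
    calc ρ (g⁻¹ * h) * ρ x = ρ g⁻¹ * (ρ h * ρ x) := by rw [map_mul, mul_assoc]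
      _ = (f h)⁻¹ • (ρ g⁻¹ * (ρ x * ρ h)) := by rw [hf h, mul_smul_comm, smul_smul, inv_mul_cancel₀ hf0, one_smul]
      _ = (f h)⁻¹ • (ρ g⁻¹ * (ρ x * (ρ g * ρ (g⁻¹ * h)))) := by rw [← map_mul ρ g, mul_inv_cancel_left]
      _ = (f h)⁻¹ • (f g • (ρ g⁻¹ * ((ρ g * ρ x) * ρ (g⁻¹ * h)))) := by
          rw [← mul_assoc (ρ x), hf g, smul_mul_assoc, mul_smul_comm]
      _ = ρ g⁻¹ * ((ρ g * ρ x) * ρ (g⁻¹ * h)) := by rw [e, smul_smul, inv_mul_cancel₀ hf0, one_smul]
      _ = ρ x * ρ (g⁻¹ * h) := by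
          rw [mul_assoc (ρ g), ← mul_assoc (ρ g⁻¹), ← map_mul, inv_mul_cancel, map_one, one_mul]
  -- translates of an invariant subspace of `E`
  have key : ∀ U : Submodule K V, U ≤ E → U ≠ ⊥ → (∀ g ∈ M, ∀ z ∈ U, ρ g z ∈ U) →
      Module.finrank K V = M.index * Module.finrank K U := by
    intro U hUE hU hUM
    let T : P ⧸ M → Submodule K V := fun a => U.map (ρ a.out)
    have hT : ∀ g, U.map (ρ g) = T (g : P ⧸ M) := by
      intro g
      obtain ⟨m, hm⟩ := QuotientGroup.mk_out_eq_mul M g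
      refine le_antisymm ?_ ?_ <;> rintro _ ⟨z, hz, rfl⟩
      · refine ⟨ρ (m : P)⁻¹ z, hUM _ (M.inv_mem m.2) z hz, ?_⟩
        rw [← Module.End.mul_apply, ← map_mul, hm, mul_inv_cancel_right]
      · refine ⟨ρ (m : P) z, hUM _ m.2 z hz, ?_⟩
        rw [← Module.End.mul_apply, ← map_mul, ← hm]
    have hind : iSupIndep T := by
      refine ((Module.End.eigenspaces_iSupIndep (ρ x)).comp (f := fun a : P ⧸ M => f a.out * μ)
        (fun a b e => ?_)).mono fun a => ?_
      · have h1 := hfinj a.out b.out (mul_right_cancel₀ hμ0 e)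
        rw [← QuotientGroup.out_eq' a, ← QuotientGroup.out_eq' b]
        exact QuotientGroup.eq.mpr h1
      · rintro _ ⟨z, hz, rfl⟩; exact hmap _ z (hUE hz)
    have htop : ⨆ a, T a = ⊤ := by
      refine (hirr _ fun g v hv => ?_).resolve_left ?_
      · suffices (⨆ a, T a) ≤ (⨆ a, T a).comap (ρ g) from this hv
        refine iSup_le fun a => ?_
        rintro _ ⟨z, hz, rfl⟩
        rw [Submodule.mem_comap, ← Module.End.mul_apply, ← map_mul]
        refine le_iSup T ((g * a.out : P) : P ⧸ M) ?_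
        rw [← hT]
        exact ⟨z, hz, rfl⟩
      · intro h
        apply hU
        rw [Submodule.eq_bot_iff]
        intro z hz
        have : ρ (((1 : P) : P ⧸ M).out) z ∈ (⊥ : Submodule K V) := h ▸ le_iSup T _ ⟨z, hz, rfl⟩
        exact hinj _ (((Submodule.mem_bot K).mp this).trans (map_zero _).symm)
    haveI : Fintype (P ⧸ M) := Fintype.ofFinite _
    have hint : DirectSum.IsInternal T := DirectSum.isInternal_submodule_iff_iSupIndep_and_iSup_eq_top T |>.mpr ⟨hind, htop⟩
    rw [← (LinearEquiv.ofBijective (DirectSum.coeLinearMap T) hint).finrank_eq, Module.finrank_directSum,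
      Subgroup.index_eq_card, Nat.card_eq_fintype_card]
    rw [Finset.sum_const_nat (m := Module.finrank K U) fun a _ =>
      (LinearEquiv.finrank_eq (Submodule.equivMapOfInjective _ (hinj a.out) U)).symm, Finset.card_univ]
  have hEdim := key E le_rfl hμ hMinv
  let σ : M →* Module.End K E := H35.restrictRep ρ M E hMinv
  obtain ⟨m, hm⟩ := ih (Nat.card M) (by
      rw [← hn]
      refine lt_of_le_of_ne (Subgroup.card_le_card_group M) fun e => hMne (M.eq_top_of_card_eq e))
    M rfl (hP.to_subgroup M) E σ (fun U hU => by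
      by_cases hU0 : U = ⊥
      · exact Or.inl hU0
      · right
        have h1 := key (U.map E.subtype) (Submodule.map_subtype_le E U)
          (fun e => hU0 (Submodule.map_injective_of_injective E.injective_subtype (e.trans (Submodule.map_bot _).symm)))
          (fun g hg z hz => by
            obtain ⟨z', hz', rfl⟩ := hz
            exact ⟨σ ⟨g, hg⟩ z', hU ⟨g, hg⟩ z' hz', rfl⟩)
        rw [hEdim, (Submodule.equivMapOfInjective _ E.injective_subtype U).finrank_eq.symm] at h1
        exact Submodule.eq_top_of_finrank_eq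
          (Nat.eq_of_mul_eq_mul_left (Nat.pos_of_ne_zero Subgroup.index_ne_zero_of_finite) h1).symm)
  obtain ⟨i, hi⟩ := hP.index M
  exact ⟨i + m, by rw [hEdim, hi, hm, pow_add]⟩

/-- An irreducible representation of a `q`-group, has `q`-power dimension. -/
theorem finrank_eq_pow {q : ℕ} [Fact q.Prime] {P : Type u} [Group P] [Finite P]
    (hP : IsPGroup q P) {V : Type w} [AddCommGroup V] [Module K V] [FiniteDimensional K V] [Nontrivial V]
    (ρ : P →* Module.End K V) (hirr : ∀ U : Submodule K V, (∀ g, ∀ v ∈ U, ρ g v ∈ U) → U = ⊥ ∨ U = ⊤) :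
    ∃ m, Module.finrank K V = q ^ m :=
  finrank_eq_pow_aux _ P rfl hP V ρ hirr

end H31.QDeg
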