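import Cfsg.Agent.H11.HallHigmanCore
import Cfsg.Agent.H31.QGroupDegree

/-! The critical case behind the theorem of Hall and Higman. -/

set_option autoImplicit false
set_option linter.style.haveILetI false

namespace H31.HHCrit

open Finset

universe u v w

/-- A weight choosing one point in each regular orbit of a permutation of order dividing `N`. -/
theorem exists_weight {K : Type v} [Semiring K] {α : Type u} [Fintype α] (σ : Equiv.Perm α) {N : ℕ}
    (hN : 0 < N) (hσ : σ ^ N = 1) :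
    ∃ wt : α → K, ∀ t, (∀ i < N, ∀ j < N, (σ ^ i) t = (σ ^ j) t → i = j) →
      ∑ i ∈ range N, wt ((σ ^ i).symm t) = 1 := by
  classical
  let e := Fintype.equivFin α
  refine ⟨fun t => if ∀ a : ℤ, e t ≤ e ((σ ^ a) t) then 1 else 0, fun t hfree => ?_⟩
  have hsymm : ∀ i : ℕ, (σ ^ i).symm t = (σ ^ (-(i : ℤ))) t := fun i => by
    rw [zpow_neg, zpow_natCast]; rfl
  obtain ⟨i₀, hi₀, hmin⟩ := (range N).exists_min_image (fun i : ℕ => e ((σ ^ i).symm t))
    ⟨0, mem_range.mpr hN⟩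
  have hall : ∀ a : ℤ, ∃ i ∈ range N, (σ ^ a) t = (σ ^ i).symm t := by
    intro a
    obtain ⟨i, hi⟩ := Int.eq_ofNat_of_zero_le (Int.emod_nonneg (-a) (b := (N : ℤ)) (by omega))
    refine ⟨i, mem_range.mpr ?_, ?_⟩
    · have := Int.emod_lt_of_pos (-a) (b := (N : ℤ)) (by omega)
      omega
    · rw [hsymm, ← hi]
      have hd := Int.mul_ediv_add_emod (-a) (N : ℤ)
      have hz : σ ^ (N : ℤ) = 1 := by rw [zpow_natCast]; exact hσ
      rw [show -((-a) % (N : ℤ)) = (N : ℤ) * ((-a) / (N : ℤ)) + a by omega, zpow_add, zpow_mul, hz, one_zpow, one_mul]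
  have hgood : ∀ a : ℤ, e ((σ ^ i₀).symm t) ≤ e ((σ ^ a) ((σ ^ i₀).symm t)) := by
    intro a
    obtain ⟨i, hi, he⟩ := hall (a + -(i₀ : ℤ))
    rw [hsymm i₀, ← Equiv.Perm.mul_apply, ← zpow_add, he, ← hsymm i₀]
    exact hmin i hi
  rw [Finset.sum_eq_single i₀]
  · exact if_pos hgood
  · intro i hi hne
    refine if_neg fun h => hne ?_
    have h1 := h (-(i₀ : ℤ) + i)
    rw [hsymm i, ← Equiv.Perm.mul_apply, ← zpow_add, show (-(i₀ : ℤ) + i) + -(i : ℤ) = -(i₀ : ℤ) by ring,
      ← hsymm, ← hsymm] at h1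
    have h2 : (σ ^ i).symm t = (σ ^ i₀).symm t := e.injective (le_antisymm h1 (hmin i hi))
    refine (hfree i₀ (mem_range.mp hi₀) i (mem_range.mp hi) ?_).symm
    have h3 : (σ ^ i₀) t = (σ ^ i) ((σ ^ i₀) ((σ ^ i₀).symm t)) := by
      rw [← h2]
      rw [← Equiv.Perm.mul_apply, ← pow_add, add_comm, pow_add, Equiv.Perm.mul_apply, Equiv.apply_symm_apply]
    rwa [Equiv.apply_symm_apply] at h3
  · exact fun h => absurd hi₀ h

variable {G : Type u} [Group G] {K : Type v} [Field K] {V : Type w} [AddCommGroup V] [Module K V]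

theorem commute_of_coprime_pow {y z : G} {a : ℕ} (hcop : a.Coprime (orderOf y)) (h : Commute (y ^ a) z) :
    Commute y z := by
  obtain ⟨m, hm⟩ := exists_pow_eq_self_of_coprime hcop
  exact hm ▸ h.pow_left m

/-- The critical case. -/
theorem critical [Finite G] [IsAlgClosed K] [FiniteDimensional K V] [Nontrivial V] {p q : ℕ} [Fact p.Prime]
    [Fact q.Prime] [CharP K p] (hpq : p ≠ q) (Q : Subgroup G) (hQn : Q.Normal) (hQ : IsPGroup q Q) (x : G)
    {n : ℕ} (hn : 1 ≤ n) (hx : orderOf x = p ^ n)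
    (hC : ∀ y ∈ Subgroup.zpowers x, y ≠ 1 → ∀ g ∈ Q, Commute g y → g ∈ Subgroup.center G)
    (ρ : G →* Module.End K V) (hfaith : Function.Injective ρ)
    (hirr : ∀ U : Submodule K V, (∀ g ∈ Q, ∀ v ∈ U, ρ g v ∈ U) → U = ⊥ ∨ U = ⊤) :
    (ρ x - 1) ^ (p ^ n - 2) ≠ 0 ∧
      ((ρ x - 1) ^ (p ^ n - 1) = 0 → (∃ b, p ^ n - 1 = q ^ b) ∧ ¬ IsMulCommutative Q) := by
  classical
  have hp := (Fact.out : p.Prime)
  have hq := (Fact.out : q.Prime)
  haveI : Fintype Q := Fintype.ofFinite _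
  set N := p ^ n with hN
  have hNpos : 2 ≤ N := by
    calc 2 ≤ p := hp.two_le
      _ = p ^ 1 := (pow_one p).symm
      _ ≤ N := Nat.pow_le_pow_right hp.pos hn
  have hxN : x ^ N = 1 := hx ▸ pow_orderOf_eq_one x
  have hschur : ∀ c : Module.End K V, (∀ g ∈ Q, c * ρ g = ρ g * c) → ∃ μ : K, c = μ • 1 := fun c hc =>
    QDeg.scalar_of_commute (ρ.comp Q.subtype) (fun U hU => hirr U fun g hg => hU ⟨g, hg⟩) c fun g => hc g g.2
  obtain ⟨m, hm⟩ := QDeg.finrank_eq_pow (q := q) hQ (ρ.comp Q.subtype) (fun U hU => hirr U fun g hg => hU ⟨g, hg⟩)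
  have hqK : (q : K) ≠ 0 := fun h => by
    rw [CharP.cast_eq_zero_iff K p] at h
    exact hpq ((Nat.prime_dvd_prime_iff_eq hp hq).mp h)
  have hdK : (Module.finrank K V : K) ≠ 0 := by rw [hm, Nat.cast_pow]; exact pow_ne_zero _ hqK
  have hQK : (Fintype.card Q : K) ≠ 0 := by
    obtain ⟨e, he⟩ := hQ.exists_card_eq
    rw [← Nat.card_eq_fintype_card, he, Nat.cast_pow]; exact pow_ne_zero _ hqK
  have hx1 : x ≠ 1 := fun h => by rw [h, orderOf_one] at hx; omega
  -- `x` is not scalar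
  have hnsc : ∀ μ : K, ρ x ≠ μ • 1 := by
    intro μ hμ
    apply hx1
    apply hfaith
    rw [map_one, hμ]
    have h1 : (μ ^ N) • (1 : Module.End K V) = 1 := by
      rw [← one_pow N, ← smul_pow, one_pow, ← hμ, ← map_pow, hxN, map_one]
    have h2 : μ ^ N = 1 := by
      obtain ⟨v, hv⟩ := exists_ne (0 : V)
      have h3 := LinearMap.congr_fun h1 v
      rw [LinearMap.smul_apply, Module.End.one_apply] at h3
      have h4 : (μ ^ N - 1) • v = 0 := by rw [sub_smul, one_smul, h3, sub_self]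
      exact sub_eq_zero.mp ((smul_eq_zero.mp h4).resolve_right hv)
    have h3 : μ - 1 = 0 := by
      refine (pow_eq_zero_iff (n := N) (by omega)).mp ?_
      rw [hN, sub_pow_char_pow, one_pow, ← hN, h2, sub_self]
    rw [sub_eq_zero.mp h3, one_smul]
  have hnc : ¬ IsMulCommutative Q := by
    intro hc
    obtain ⟨μ, hμ⟩ := hschur (ρ x) fun g hg => by
      obtain ⟨ν, hν⟩ := hschur (ρ g) fun h hh => by
        rw [← map_mul, ← map_mul, show g * h = h * g from congrArg Subtype.val (hc.is_comm.comm ⟨g, hg⟩ ⟨h, hh⟩)]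
      rw [hν, mul_smul_comm, smul_mul_assoc, one_mul, mul_one]
    exact hnsc μ hμ
  -- the centre acts by scalars
  have hsc : ∀ z ∈ Subgroup.center G, ∃ μ : K, ρ z = μ • 1 := fun z hz => hschur _ fun g _ => by
    rw [← map_mul, ← map_mul, (Subgroup.mem_center_iff.mp hz g)]
  -- conjugation on endomorphisms
  let π : G → Module.End K V → Module.End K V := fun g f => ρ g * f * ρ g⁻¹
  have hπmul : ∀ g h f, π (g * h) f = π g (π h f) := fun g h f => by
    simp only [π, map_mul, mul_inv_rev, mul_assoc]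
  have hπone : ∀ f, π 1 f = f := fun f => by simp [π]
  have hπsum : ∀ g {ι : Type u} (s : Finset ι) (F : ι → Module.End K V), π g (∑ i ∈ s, F i) = ∑ i ∈ s, π g (F i) :=
    fun g _ s F => by simp only [π, Finset.mul_sum, Finset.sum_mul]
  have hπnat : ∀ g {ι : Type} (s : Finset ι) (F : ι → Module.End K V), π g (∑ i ∈ s, F i) = ∑ i ∈ s, π g (F i) :=
    fun g _ s F => by simp only [π, Finset.mul_sum, Finset.sum_mul]
  have hπsmul : ∀ g (c : K) f, π g (c • f) = c • π g f := fun g c f => by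
    simp only [π, mul_smul_comm, smul_mul_assoc]
  have hπcen : ∀ z ∈ Subgroup.center G, ∀ f, π z f = f := by
    intro z hz f
    obtain ⟨μ, hμ⟩ := hsc z hz
    show ρ z * f * ρ z⁻¹ = f
    rw [show ρ z * f = f * ρ z by rw [hμ, smul_mul_assoc, one_mul, mul_smul_comm, mul_one], mul_assoc,
      ← map_mul, mul_inv_cancel, map_one, mul_one]
  have htrπ : ∀ g f, LinearMap.trace K V (π g f) = LinearMap.trace K V f := fun g f => by
    show LinearMap.trace K V (ρ g * f * ρ g⁻¹) = _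
    rw [LinearMap.trace_mul_comm, ← mul_assoc, ← map_mul, inv_mul_cancel, map_one, one_mul]
  -- averaging over `Q` kills trace zero
  have havg : ∀ f, LinearMap.trace K V f = 0 → ∑ t : Q, π t f = 0 := by
    intro f hf
    obtain ⟨μ, hμ⟩ := hschur (∑ t : Q, π t f) fun h hh => by
      have h1 : π h (∑ t : Q, π t f) = ∑ t : Q, π t f := by
        rw [hπsum]
        exact Fintype.sum_equiv (Equiv.mulLeft (⟨h, hh⟩ : Q)) _ _ fun t => (hπmul h t f).symm
      have h2 := congrArg (· * ρ h) h1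
      simp only [π, mul_assoc, H11.HB.rep_inv_mul, mul_one] at h2
      simpa only [π, mul_assoc] using h2.symm
    have h1 := congrArg (LinearMap.trace K V) hμ
    have h0 : ∑ t : Q, LinearMap.trace K V (π (t : G) f) = 0 :=
      Finset.sum_eq_zero fun t _ => (htrπ (t : G) f).trans hf
    rw [map_sum, h0, map_smul, LinearMap.trace_one,
      smul_eq_mul] at h1
    rw [hμ, (mul_eq_zero.mp h1.symm).resolve_right hdK, zero_smul]
  -- the commutator map with a power of `x`
  have hkey : ∀ i < N, ∀ f, LinearMap.trace K V f = 0 →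
      ∑ t : Q, π ((t : G) * x ^ i * (t : G)⁻¹) f = if i = 0 then (Fintype.card Q : K) • f else 0 := by
    intro i hi f hf
    split_ifs with h0
    · subst h0
      simp [hπone, Nat.cast_smul_eq_nsmul]
    set y := x ^ i with hy
    have hy1 : y ≠ 1 := fun h => by
      have := Nat.le_of_dvd (Nat.pos_of_ne_zero h0) (orderOf_dvd_of_pow_eq_one h)
      omega
    have hyN : y ^ N = 1 := by rw [hy, ← pow_mul, mul_comm, pow_mul, hxN, one_pow]
    let φ : Q → Q := fun t => ⟨(t : G) * y * (t : G)⁻¹ * y⁻¹, by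
      rw [mul_assoc (t : G) y, mul_assoc (t : G)]
      exact Q.mul_mem t.2 (hQn.conj_mem _ (Q.inv_mem t.2) y)⟩
    let Z₀ := (Subgroup.center G).subgroupOf Q
    have hφinj : ∀ t s : Q, (φ s)⁻¹ * φ t ∈ Z₀ → s⁻¹ * t ∈ Z₀ := by
      intro t s hc
      set c : G := (((φ s)⁻¹ * φ t : Q) : G) with hcdef
      have hcz : c ∈ Subgroup.center G := hc
      have hcQ : c ∈ Q := ((φ s)⁻¹ * φ t).2
      have h1 : (t : G) * y * (t : G)⁻¹ = (s : G) * y * (s : G)⁻¹ * c := by
        rw [show (s : G) * y * (s : G)⁻¹ = (φ s : G) * y by simp [φ],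
          mul_assoc (φ s : G) y c, Subgroup.mem_center_iff.mp hcz y, hcdef]
        simp [φ, mul_assoc]
      have h2 : ((s⁻¹ * t : Q) : G) * y * ((s⁻¹ * t : Q) : G)⁻¹ = y * c := by
        calc ((s⁻¹ * t : Q) : G) * y * ((s⁻¹ * t : Q) : G)⁻¹ = (s : G)⁻¹ * ((t : G) * y * (t : G)⁻¹) * (s : G) := by
              simp [mul_assoc]
          _ = (s : G)⁻¹ * ((s : G) * y * (s : G)⁻¹ * c) * (s : G) := by rw [h1]
          _ = y * ((s : G)⁻¹ * c * (s : G)) := by group
          _ = y * c := by rw [mul_assoc _ c, ← Subgroup.mem_center_iff.mp hcz (s : G), inv_mul_cancel_left]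
      have hc1 : c = 1 := by
        have h3 : c ^ N = 1 := by
          have := congrArg (fun a => a ^ N) h2
          beta_reduce at this
          rw [conj_pow, hyN, mul_one, mul_inv_cancel, (show Commute y c from Subgroup.mem_center_iff.mp hcz y).mul_pow,
            hyN, one_mul] at this
          exact this.symm
        obtain ⟨e, he⟩ := hQ ⟨c, hcQ⟩
        have h4 := pow_gcd_eq_one.mpr ⟨h3, (congrArg Subtype.val he : c ^ q ^ e = 1)⟩
        rwa [hN, (((Nat.coprime_primes hp hq).mpr hpq).pow n e), pow_one] at h4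
      rw [hc1, mul_one, mul_inv_eq_iff_eq_mul] at h2
      exact hC y (Subgroup.npow_mem_zpowers x i) hy1 _ (s⁻¹ * t).2 h2
    haveI : Fintype (Q ⧸ Z₀) := Fintype.ofFinite _
    let r : Q → Q := fun t => (t : Q ⧸ Z₀).out
    have hr : ∀ t, (r t)⁻¹ * t ∈ Z₀ := fun t => QuotientGroup.eq.mp (QuotientGroup.out_eq' _)
    have hφr : ∀ t, φ (r t) = φ t := by
      intro t
      apply Subtype.ext
      have hz : (((r t)⁻¹ * t : Q) : G) ∈ Subgroup.center G := hr t
      have e : (t : G) = (r t : G) * (((r t)⁻¹ * t : Q) : G) := by simp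
      show (r t : G) * y * (r t : G)⁻¹ * y⁻¹ = (t : G) * y * (t : G)⁻¹ * y⁻¹
      have key : ∀ a w : G, Commute w y → a * y * a⁻¹ = a * w * y * (a * w)⁻¹ := fun a w hw => by
        rw [mul_assoc a w y, hw.eq]; group
      conv_rhs => rw [e]
      rw [key (r t : G) _ (Subgroup.mem_center_iff.mp hz y).symm]
    let φ' : Q → Q := fun t => φ t * ((r t)⁻¹ * t)
    have hφ'inj : Function.Injective φ' := by
      intro t s hts
      have hts' : φ t * ((r t)⁻¹ * t) = φ s * ((r s)⁻¹ * s) := hts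
      have h1 : (φ s)⁻¹ * φ t ∈ Z₀ := by
        rw [show (φ s)⁻¹ * φ t = ((r s)⁻¹ * s) * ((r t)⁻¹ * t)⁻¹ by
          rw [eq_mul_inv_iff_mul_eq, mul_assoc, hts', inv_mul_cancel_left]]
        exact Z₀.mul_mem (hr s) (Z₀.inv_mem (hr t))
      have h2 : r s = r t := by
        show Quotient.out _ = Quotient.out _
        rw [QuotientGroup.eq.mpr (hφinj t s h1)]
      have h3 : φ s = φ t := by rw [← hφr s, ← hφr t, h2]
      rw [h3, h2] at hts'
      exact mul_left_cancel (mul_left_cancel hts')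
    have h5 : ∑ t : Q, π ((t : G) * y * (t : G)⁻¹) f = ∑ t : Q, π (t : G) (π y f) := by
      refine Fintype.sum_equiv (Equiv.ofBijective φ' (Finite.injective_iff_bijective.mp hφ'inj)) _ _ fun t => ?_
      show π ((t : G) * y * (t : G)⁻¹) f = π ((φ t * ((r t)⁻¹ * t) : Q) : G) (π y f)
      conv_rhs => rw [Subgroup.coe_mul, hπmul, hπcen _ (show (((r t)⁻¹ * t : Q) : G) ∈ Subgroup.center G from hr t), ← hπmul]
      simp [φ, mul_assoc]
    rw [h5]
    exact havg _ ((htrπ y f).trans hf)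
  have hsum : ∀ f, LinearMap.trace K V f = 0 →
      ∑ t : Q, π (t : G) (∑ i ∈ range N, π (x ^ i) (π (t : G)⁻¹ f)) = (Fintype.card Q : K) • f := by
    intro f hf
    simp only [hπnat, ← hπmul, ← mul_assoc]
    rw [Finset.sum_comm, Finset.sum_congr rfl fun i hi => hkey i (mem_range.mp hi) f hf]
    simp [show 0 < N by omega]
  -- the permutation of `Q`
  let σ : Equiv.Perm Q := Equiv.ofBijective (fun t => ⟨x * t.1 * x⁻¹, hQn.conj_mem _ t.2 x⟩)
    (Finite.injective_iff_bijective.mp fun a c h =>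
      Subtype.ext (mul_left_cancel (mul_right_cancel (congrArg Subtype.val h))))
  have hσi : ∀ (i : ℕ) (t : Q), (((σ ^ i) t) : G) = x ^ i * t.1 * (x ^ i)⁻¹ := by
    intro i
    induction i with
    | zero => simp
    | succ i ih =>
      intro t
      rw [pow_succ', Equiv.Perm.mul_apply]
      show x * ((σ ^ i) t : G) * x⁻¹ = _
      rw [ih, pow_succ']
      simp [mul_assoc]
  have hσN : σ ^ N = 1 := by ext t; rw [hσi, hxN]; simp
  have hfree : ∀ t : Q, (t : G) ∉ Subgroup.center G → ∀ i < N, ∀ j < N, (σ ^ i) t = (σ ^ j) t → i = j := by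
    intro t ht
    have key : ∀ i j, i < j → j < N → (σ ^ i) t ≠ (σ ^ j) t := by
      intro i j hij hj h
      apply ht
      have hne : x ^ (j - i) ≠ 1 := fun e => by
        have := Nat.le_of_dvd (by omega) (orderOf_dvd_of_pow_eq_one e)
        omega
      refine hC _ (Subgroup.npow_mem_zpowers x _) hne _ t.2 ?_
      have h1 : (σ ^ (j - i)) t = t := by
        apply (σ ^ i).injective
        rw [← Equiv.Perm.mul_apply, ← pow_add, Nat.add_sub_cancel' hij.le, h]
      have h2 := congrArg Subtype.val h1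
      rw [hσi, mul_inv_eq_iff_eq_mul] at h2
      exact h2.symm
    intro i hi j hj h
    rcases lt_trichotomy i j with h1 | h1 | h1
    · exact absurd h (key i j h1 hj)
    · exact h1
    · exact absurd h.symm (key j i h1 hi)
  obtain ⟨wt, hwt⟩ := exists_weight (K := K) σ (by omega : 0 < N) hσN
  -- trace-zero operators commuting with `x` are traces
  have htrace : ∀ g₀ : Module.End K V, Commute g₀ (ρ x) → LinearMap.trace K V g₀ = 0 →
      ∃ f, g₀ = ∑ i ∈ range N, ρ x ^ i * f * ρ x⁻¹ ^ i := by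
    intro g₀ hg₀ htr
    let A : Q → Module.End K V := fun t => π (t : G) (∑ i ∈ range N, π (x ^ i) (π (t : G)⁻¹ g₀))
    refine ⟨(Fintype.card Q : K)⁻¹ • ∑ t : Q, wt t • A t, ?_⟩
    have hfix : ∀ i : ℕ, π (x ^ i) g₀ = g₀ := fun i => by
      show ρ (x ^ i) * g₀ * ρ (x ^ i)⁻¹ = g₀
      rw [map_pow, ← (hg₀.pow_right i).eq, mul_assoc, ← map_pow, H11.HB.rep_mul_inv, mul_one]
    have hfix' : ∀ i : ℕ, π (x ^ i)⁻¹ g₀ = g₀ := fun i => by
      conv_lhs => rw [← hfix i]
      rw [← hπmul, inv_mul_cancel, hπone]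
    have hA : ∀ (j : ℕ) (t : Q), π (x ^ j) (A t) = A ((σ ^ j) t) := by
      intro j t
      simp only [A, hσi, hπnat, ← hπmul]
      refine Finset.sum_congr rfl fun i _ => ?_
      conv_lhs => rw [← hfix' j]
      rw [← hπmul]
      congr 1
      have hci : x ^ i * x ^ j = x ^ j * x ^ i := ((Commute.refl x).pow_pow i j).eq
      calc x ^ j * ((t : G) * (x ^ i * (t : G)⁻¹)) * (x ^ j)⁻¹
          = x ^ j * (t : G) * (x ^ i * x ^ j) * (x ^ j)⁻¹ * (t : G)⁻¹ * (x ^ j)⁻¹ := by group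
        _ = x ^ j * (t : G) * (x ^ j)⁻¹ * (x ^ j * x ^ i) * (x ^ j)⁻¹ * ((x ^ j) * (t : G)⁻¹ * (x ^ j)⁻¹) := by
            rw [hci]; group
        _ = _ := by rw [← hci]; group
    have hA0 : ∀ t : Q, (t : G) ∈ Subgroup.center G → A t = 0 := by
      intro t ht
      simp only [A, hπcen _ (inv_mem ht), hfix, hπcen _ ht, Finset.sum_const, Finset.card_range,
        ← Nat.cast_smul_eq_nsmul K]
      rw [hN, Nat.cast_pow, CharP.cast_eq_zero, zero_pow (by omega), zero_smul]
    have hmain : ∑ i ∈ range N, ∑ t : Q, wt t • A ((σ ^ i) t) = ∑ t : Q, A t := by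
      have : ∀ i, ∑ t : Q, wt t • A ((σ ^ i) t) = ∑ t : Q, wt ((σ ^ i).symm t) • A t :=
        fun i => Fintype.sum_equiv (σ ^ i) _ _ fun t => by rw [Equiv.symm_apply_apply]
      simp only [this]
      rw [Finset.sum_comm]
      refine Finset.sum_congr rfl fun t _ => ?_
      rw [← Finset.sum_smul]
      by_cases ht : (t : G) ∈ Subgroup.center G
      · rw [hA0 t ht, smul_zero]
      · rw [hwt t (hfree t ht), one_smul]
    have hterm : ∀ i : ℕ, ρ x ^ i * ((Fintype.card Q : K)⁻¹ • ∑ t : Q, wt t • A t) * ρ x⁻¹ ^ i =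
        (Fintype.card Q : K)⁻¹ • ∑ t : Q, wt t • A ((σ ^ i) t) := by
      intro i
      rw [← map_pow, ← map_pow, inv_pow]
      show π (x ^ i) _ = _
      rw [hπsmul, hπsum]
      simp only [hπsmul, hA]
    rw [Finset.sum_congr rfl fun i _ => hterm i, ← Finset.smul_sum, hmain]
    show g₀ = (Fintype.card Q : K)⁻¹ • ∑ t : Q, π (t : G) (∑ i ∈ range N, π (x ^ i) (π (t : G)⁻¹ g₀))
    rw [hsum g₀ htr, inv_smul_smul₀ hQK]
  have hAA := H11.HB.rep_mul_inv ρ x
  have hA'A := H11.HB.rep_inv_mul ρ x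
  have hr2 : (ρ x - 1) ^ (N - 2) ≠ 0 := by
    intro h0
    apply hnsc 1
    rw [one_smul, ← sub_eq_zero]
    obtain ⟨f, hf⟩ := htrace (ρ x - 1) ((Commute.refl _).sub_left (Commute.one_left _))
      ((LinearMap.isNilpotent_trace_of_isNilpotent (f := ρ x - 1) ⟨N - 2, h0⟩).eq_zero)
    obtain ⟨y, hy⟩ := H11.HB.exists_left_factor (K := K) p hAA hA'A n (N - 2) 2
      (by rw [← hN]; omega) h0 f
    rw [← hf] at hy
    have hcomm2 : ∀ k, (ρ x - 1) = (ρ x - 1) ^ (k + 1) * y ^ k := by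
      intro k
      induction k with
      | zero => simp
      | succ k ih =>
        calc ρ x - 1 = (ρ x - 1) ^ (k + 1) * y ^ k := ih
          _ = (ρ x - 1) ^ k * (ρ x - 1) * y ^ k := by rw [← pow_succ]
          _ = (ρ x - 1) ^ k * ((ρ x - 1) ^ 2 * y) * y ^ k := by rw [← hy]
          _ = _ := by rw [← mul_assoc, ← pow_add, mul_assoc, ← pow_succ']
    rw [hcomm2 (N - 2), pow_succ, h0, zero_mul, zero_mul]
  refine ⟨hr2, fun hr1 => ⟨⟨m, ?_⟩, hnc⟩⟩
  rw [← hm]
  have hMK : ((N - 1 : ℕ) : K) = -1 := by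
    rw [Nat.cast_sub (by omega), hN, Nat.cast_pow, CharP.cast_eq_zero K p,
      zero_pow (by omega), Nat.cast_one, zero_sub]
  refine (H11.HB.dim_eq_of_left_factor (ρ x - 1) (N - 1) hMK hr1
    (by rwa [show N - 1 - 1 = N - 2 by omega]) ?_).symm
  intro g hg htr
  obtain ⟨f, hf⟩ := htrace g (by simpa using hg.add_right (Commute.one_right g)) htr
  obtain ⟨y, hy⟩ := H11.HB.exists_left_factor (K := K) p hAA hA'A n (N - 1) 1 (by rw [← hN]; omega) hr1 f
  exact ⟨y, by rw [hf, hy, pow_one]⟩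

end H31.HHCrit
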