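import Cfsg.Agent.H36.Kulakoff
import Cfsg.Agent.H31.Taussky
import Cfsg.Agent.H31.Basic
import Cfsg.Agent.H6.MaxClass

/-! Kulakoff's congruence for 2-groups that are not of maximal class. -/

set_option autoImplicit false
set_option linter.style.haveILetI false
set_option linter.unusedSectionVars false

namespace H31.KulTwo

open H36
open scoped commutatorElement

universe u

/-- Counting subgroups of a given order through the maximal subgroups, modulo `p²`. -/
theorem recurrence {p : ℕ} [hpf : Fact p.Prime] {Q : Type u} [Group Q] [Finite Q] [Fintype (Subgroup Q)]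
    [DecidablePred fun M : Subgroup Q => M.index = p]
    (hQ : IsPGroup p Q) (hnc : ¬ IsCyclic Q) {n : ℕ} (hn : Nat.card Q = p ^ n) {a : ℕ} (ha2 : a + 2 ≤ n) :
    Nat.card {H : Subgroup Q // Nat.card H = p ^ a} + p ≡
      (Finset.univ.filter fun M : Subgroup Q => M.index = p).sum
        (fun M => Nat.card {H : Subgroup M // Nat.card H = p ^ a}) [MOD p ^ 2] := by
  classical
  set Ms := Finset.univ.filter fun M : Subgroup Q => M.index = p with hMs
  set Hs := Finset.univ.filter fun H : Subgroup Q => Nat.card H = p ^ a with hHs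
  set S := Hs.filter fun H => ∃ L : Subgroup Q, H ≤ L ∧ frattini Q ≤ L ∧ L.index = p ^ 2 with hSdef
  set Ls := Finset.univ.filter fun L : Subgroup Q => frattini Q ≤ L ∧ L.index = p ^ 2 with hLs
  have htop : ∀ H ∈ Hs, H ≠ (⊤ : Subgroup Q) := by
    intro H hH e
    rw [Finset.mem_filter, e, Subgroup.card_top, hn] at hH
    have := Nat.pow_right_injective hpf.out.two_le hH.2
    omega
  -- pairs (maximal subgroup, subgroup)
  have hsub : ∀ M : Subgroup Q, (Hs.filter fun H => H ≤ M).card =
      Nat.card {H : Subgroup M // Nat.card H = p ^ a} := by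
    intro M
    rw [← Fintype.card_coe, ← Nat.card_eq_fintype_card]
    refine Nat.card_congr
      { toFun := fun H => ⟨H.1.subgroupOf M, ?_⟩
        invFun := fun H => ⟨H.1.map M.subtype, ?_⟩
        left_inv := fun H => Subtype.ext (Subgroup.map_subgroupOf_eq_of_le (Finset.mem_filter.mp H.2).2)
        right_inv := fun H => Subtype.ext (Subgroup.comap_map_eq_self_of_injective M.subtype_injective _) }
    · have h := Finset.mem_filter.mp H.2
      rw [Nat.card_congr (Subgroup.subgroupOfEquivOfLe h.2).toEquiv]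
      exact (Finset.mem_filter.mp h.1).2
    · refine Finset.mem_filter.mpr ⟨Finset.mem_filter.mpr ⟨Finset.mem_univ _, ?_⟩, Subgroup.map_subtype_le _⟩
      rw [Subgroup.card_map_of_injective M.subtype_injective]
      exact H.2
  -- second count: from the subgroups
  have hdc : (∑ M ∈ Ms, (Hs.filter fun H => H ≤ M).card) = ∑ H ∈ Hs, (Ms.filter fun M => H ≤ M).card := by
    simp only [Finset.card_filter]
    exact Finset.sum_comm
  have hHsum : (∑ H ∈ Hs, (Ms.filter fun M => H ≤ M).card) ≡ Hs.card + p * S.card [MOD p ^ 2] := by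
    have e : Hs.card + p * S.card = ∑ H ∈ Hs, (1 + p * if H ∈ S then 1 else 0) := by
      rw [Finset.sum_add_distrib, Finset.sum_const, smul_eq_mul, mul_one, ← Finset.mul_sum,
        Finset.sum_boole]
      congr 2
      rw [Nat.cast_id]
      congr 1
      ext H
      simp [hSdef]
    rw [e]
    refine Nat.ModEq.sum fun H hH => ?_
    obtain ⟨g, hg, hg'⟩ := exists_count_above hQ hn (htop H hH)
    have : (Ms.filter fun M => H ≤ M).card = 1 + p * g := by
      rw [← hg, Nat.card_eq_fintype_card, Fintype.card_subtype, hMs, Finset.filter_filter]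
      refine congrArg Finset.card (Finset.filter_congr fun M _ => ?_)
      tauto
    rw [this]
    rcases hg' with ⟨h1, rfl⟩ | ⟨h1, h2⟩
    · rw [if_neg]
      simp only [hSdef, Finset.mem_filter, not_and, not_exists]
      exact fun _ L hL => h1 L hL
    · rw [if_pos (Finset.mem_filter.mpr ⟨hH, h1⟩), pow_two]
      exact Nat.ModEq.add_left 1 (h2.mul_left' p)
  -- the subgroups inside some subgroup of index `p²` containing the Frattini subgroup
  have hScard : S.card ≡ 1 [MOD p] := by
    have hg : ∀ H ∈ S, (Ls.filter fun L => H ≤ L).card ≡ 1 [MOD p] := by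
      intro H hH
      obtain ⟨-, L, hL1, hL2, hL3⟩ := Finset.mem_filter.mp hH
      obtain ⟨hLc, hn2⟩ := card_of_index hn hL3
      have : (H ⊔ frattini Q).Normal := normal_of_frattini_le hQ le_sup_right
      have h1 := count_between_modEq_one hQ (H ⊔ frattini Q) ⊤ le_top (n - 2)
        ((Subgroup.card_dvd_of_le (sup_le hL1 hL2)).trans hLc.dvd)
        (by rw [Subgroup.card_top, hn]; exact Nat.pow_dvd_pow p (by omega))
      refine Eq.trans (congrArg (· % p) ?_) h1
      rw [Nat.card_eq_fintype_card, Fintype.card_subtype, hLs, Finset.filter_filter]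
      refine congrArg Finset.card (Finset.filter_congr fun L' _ => ?_)
      constructor
      · rintro ⟨⟨a, b⟩, c⟩
        exact ⟨sup_le c a, le_top, (card_of_index hn b).1⟩
      · rintro ⟨a, -, c⟩
        refine ⟨⟨le_sup_right.trans a, ?_⟩, le_sup_left.trans a⟩
        rw [(index_of_card hn c).1]
        congr 1
        omega
    have h1 : (∑ L ∈ Ls, (Hs.filter fun H => H ≤ L).card) = ∑ H ∈ S, (Ls.filter fun L => H ≤ L).card := by
      have hswap : (∑ L ∈ Ls, (Hs.filter fun H => H ≤ L).card) = ∑ H ∈ Hs, (Ls.filter fun L => H ≤ L).card := by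
        simp only [Finset.card_filter]
        exact Finset.sum_comm
      rw [hswap, hSdef]
      refine (Finset.sum_filter_of_ne fun H _ hne => ?_).symm
      obtain ⟨L, hL⟩ := Finset.card_pos.mp (Nat.pos_of_ne_zero hne)
      obtain ⟨hL1, hL2⟩ := Finset.mem_filter.mp hL
      exact ⟨L, hL2, (Finset.mem_filter.mp hL1).2⟩
    have h2 : S.card ≡ ∑ H ∈ S, (Ls.filter fun L => H ≤ L).card [MOD p] := by
      rw [Finset.card_eq_sum_ones]
      exact (Nat.ModEq.sum fun H hH => hg H hH).symm
    rw [← h1] at h2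
    refine h2.trans ?_
    have h3 : (∑ L ∈ Ls, (Hs.filter fun H => H ≤ L).card) ≡ ∑ L ∈ Ls, 1 [MOD p] := by
      refine Nat.ModEq.sum fun L hL => ?_
      rw [hsub]
      exact H35.card_subgroups_prime_pow_modEq_one L p a hpf.out
        (by rw [(card_of_index hn (Finset.mem_filter.mp hL).2.2).1]; exact Nat.pow_dvd_pow p (by omega))
    refine h3.trans ?_
    rw [← Finset.card_eq_sum_ones]
    have hfr : Nat.card (frattini Q) ∣ p ^ (n - 2) := by
      obtain ⟨L, hL1, hL2⟩ := exists_sq_index hQ hnc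
      exact (Subgroup.card_dvd_of_le hL1).trans (card_of_index hn hL2).1.dvd
    have h4 := count_between_modEq_one hQ (frattini Q) ⊤ le_top (n - 2) hfr
      (by rw [Subgroup.card_top, hn]; exact Nat.pow_dvd_pow p (by omega))
    refine Eq.trans (congrArg (· % p) ?_) h4
    rw [Nat.card_eq_fintype_card, Fintype.card_subtype, hLs]
    refine congrArg Finset.card (Finset.filter_congr fun L' _ => ?_)
    constructor
    · rintro ⟨a, b⟩; exact ⟨a, le_top, (card_of_index hn b).1⟩
    · rintro ⟨a, -, c⟩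
      refine ⟨a, ?_⟩
      rw [(index_of_card hn c).1]
      congr 1
      omega
  rw [Nat.card_eq_fintype_card, Fintype.card_subtype, ← hHs]
  have h2 : p * S.card ≡ p * 1 [MOD p ^ 2] := by rw [pow_two]; exact hScard.mul_left' p
  rw [mul_one] at h2
  refine ((Nat.ModEq.add_left Hs.card h2).symm.trans (hHsum.symm.trans ?_))
  rw [← hdc]
  simp only [hsub]
  rfl

/-- Maximal class, in the form used here. -/
def MC (Q : Type u) [Group Q] : Prop := 8 ≤ Nat.card Q ∧ (commutator Q).index = 4

variable {Q : Type u} [Group Q] [Finite Q]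

theorem mc_not_cyclic (h : MC Q) : ¬ IsCyclic Q := by
  intro hc
  have hb : commutator Q = ⊥ := by
    rw [eq_bot_iff, commutator_def, Subgroup.commutator_le]
    intro x _ y _
    rw [Subgroup.mem_bot, commutatorElement_eq_one_iff_mul_comm]
    exact (IsCyclic.commGroup (α := Q)).mul_comm x y
  have := h.2
  rw [hb, Subgroup.index_bot] at this
  have := h.1
  omega

theorem odd_gen {g : Q} {k : ℤ} {H : Subgroup Q} (hQ : IsPGroup 2 Q) (hk : ¬ (2 : ℤ) ∣ k) (h : g ^ k ∈ H) : g ∈ H := by
  haveI : Fact (Nat.Prime 2) := ⟨Nat.prime_two⟩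
  obtain ⟨t, ht⟩ := IsPGroup.iff_orderOf.mp hQ g
  obtain ⟨α, β, hαβ⟩ : IsCoprime ((2 : ℤ) ^ t) k := ((Int.prime_two.coprime_iff_not_dvd).mpr hk).pow_left
  have h1 : g ^ ((2 : ℤ) ^ t) = 1 := by
    rw [show ((2 : ℤ) ^ t) = ((2 ^ t : ℕ) : ℤ) by norm_num, zpow_natCast, ← ht, pow_orderOf_eq_one]
  have : g = (g ^ k) ^ β := by
    conv_lhs => rw [← zpow_one g, ← hαβ, zpow_add, mul_comm α, zpow_mul, h1]
    rw [one_zpow, one_mul, mul_comm, zpow_mul]
  rw [this]; exact H.zpow_mem h _

/-- The setting: a non-cyclic group with a cyclic subgroup of index two. -/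
structure Setting (c y : Q) (n : ℕ) : Prop where
  pgrp : IsPGroup 2 Q
  nc : ¬ IsCyclic Q
  hn3 : 3 ≤ n
  card : Nat.card Q = 2 ^ n
  idx : (Subgroup.zpowers c).index = 2
  out : y ∉ Subgroup.zpowers c

theorem dichotomy {c y : Q} {n : ℕ} (h : Setting c y n) :
    ∃ r : ℤ, y * c * y⁻¹ = c ^ r ∧ y * y ∈ Subgroup.zpowers (c ^ 2) ∧
      (((4 : ℤ) ∣ r - 1 ∧ ¬ MC Q ∧ (y * y ∈ Subgroup.zpowers (c ^ 4) ↔ y * c * (y * c) ∉ Subgroup.zpowers (c ^ 4))) ∨
       ((4 : ℤ) ∣ r + 1 ∧ MC Q ∧ (y * y ∈ Subgroup.zpowers (c ^ 4) ↔ y * c * (y * c) ∈ Subgroup.zpowers (c ^ 4)))) := by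
  haveI : Fact (Nat.Prime 2) := ⟨Nat.prime_two⟩
  haveI hCn : (Subgroup.zpowers c).Normal := Subgroup.normal_of_index_eq_two h.idx
  obtain ⟨n', rfl⟩ : ∃ n', n = n' + 3 := ⟨n - 3, by have := h.hn3; omega⟩
  have hoc : orderOf c = 2 ^ (n' + 2) := by
    have h1 := Subgroup.card_mul_index (Subgroup.zpowers c)
    rw [h.idx, Nat.card_zpowers, h.card, pow_succ] at h1
    omega
  have hN : ∀ i : ℤ, c ^ i = 1 ↔ ((2 : ℤ) ^ (n' + 2)) ∣ i := fun i => by
    rw [← orderOf_dvd_iff_zpow_eq_one, hoc]; norm_num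
  have hmem : ∀ (d : ℕ) (i : ℤ), d ≤ n' + 2 → (c ^ i ∈ Subgroup.zpowers (c ^ (2 ^ d)) ↔ (2 : ℤ) ^ d ∣ i) := by
    intro d i hd
    rw [Subgroup.mem_zpowers_iff]
    constructor
    · rintro ⟨j, hj⟩
      rw [← zpow_natCast, ← zpow_mul] at hj
      have h2 : c ^ (i - ((2 ^ d : ℕ) : ℤ) * j) = 1 := by rw [zpow_sub, hj, mul_inv_cancel]
      have h3 : (2 : ℤ) ^ d ∣ i - ((2 ^ d : ℕ) : ℤ) * j := (pow_dvd_pow 2 hd).trans ((hN _).mp h2)
      have h4 : (2 : ℤ) ^ d ∣ ((2 ^ d : ℕ) : ℤ) * j := by push_cast; exact dvd_mul_right _ _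
      simpa using dvd_add h3 h4
    · rintro ⟨j, rfl⟩
      exact ⟨j, by rw [← zpow_natCast, ← zpow_mul]; push_cast; rfl⟩
  obtain ⟨r, hr⟩ := Subgroup.mem_zpowers_iff.mp (hCn.conj_mem c (Subgroup.mem_zpowers c) y)
  have hconj : ∀ i : ℤ, y * c ^ i * y⁻¹ = c ^ (r * i) := fun i => by rw [← conj_zpow, ← hr, ← zpow_mul]
  obtain ⟨k, hk⟩ := Subgroup.mem_zpowers_iff.mp (Subgroup.mul_self_mem_of_index_two h.idx y)
  have hgen : ∀ g, g ∈ Subgroup.zpowers c ∨ ∃ i : ℤ, g = y * c ^ i := by
    intro g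
    by_cases hg : g ∈ Subgroup.zpowers c
    · exact Or.inl hg
    · right
      have h1 : y⁻¹ * g ∈ Subgroup.zpowers c := by
        rw [Subgroup.mul_mem_iff_of_index_two h.idx]
        exact iff_of_false (fun h1 => h.out (by simpa using Subgroup.inv_mem _ h1)) hg
      obtain ⟨i, hi⟩ := Subgroup.mem_zpowers_iff.mp h1
      exact ⟨i, by rw [hi, mul_inv_cancel_left]⟩
  have hk2 : (2 : ℤ) ∣ k := by
    by_contra hodd
    apply h.nc
    have hc : c ∈ Subgroup.zpowers y :=
      odd_gen h.pgrp hodd (hk ▸ mul_mem (Subgroup.mem_zpowers y) (Subgroup.mem_zpowers y))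
    refine isCyclic_iff_exists_zpowers_eq_top.mpr ⟨y, eq_top_iff.mpr fun g _ => ?_⟩
    rcases hgen g with hg | ⟨i, rfl⟩
    · exact Subgroup.zpowers_le.mpr hc hg
    · exact mul_mem (Subgroup.mem_zpowers y) (Subgroup.zpow_mem _ hc i)
  have hrodd : ¬ (2 : ℤ) ∣ r := by
    rintro ⟨t, ht⟩
    have h1 : y * c ^ ((2 : ℤ) ^ (n' + 1)) * y⁻¹ = 1 := by rw [hconj, hN, ht]; exact ⟨t, by ring⟩
    rw [conj_eq_one_iff, hN] at h1
    have h2 := Int.le_of_dvd (by positivity) h1
    have h3 : (2 : ℤ) ^ (n' + 2) = 2 * 2 ^ (n' + 1) := by ring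
    have h4 : (0 : ℤ) < 2 ^ (n' + 1) := by positivity
    omega
  have hyc : y * c * (y * c) = c ^ (r + (k + 1)) := by
    calc y * c * (y * c) = (y * c * y⁻¹) * (y * y) * c := by group
      _ = c ^ (r + (k + 1)) := by rw [← hr, ← hk, ← zpow_add, ← zpow_add_one]; ring_nf
  refine ⟨r, hr.symm, ?_, ?_⟩
  · rw [← hk]; exact (hmem 1 k (by omega)).mpr (by rwa [pow_one])
  have e4 : ∀ i : ℤ, (c ^ i ∈ Subgroup.zpowers (c ^ 4) ↔ (4 : ℤ) ∣ i) := fun i => by
    have := hmem 2 i (by omega); norm_num at this; exact this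
  have hcases : (4 : ℤ) ∣ r - 1 ∨ (4 : ℤ) ∣ r + 1 := by omega
  rcases hcases with h4 | h4
  · refine Or.inl ⟨h4, ?_, ?_⟩
    · -- the derived subgroup is small
      rintro ⟨-, hidx⟩
      haveI hDn : (Subgroup.zpowers (c ^ 4)).Normal := ⟨fun w hw g => by
        obtain ⟨i, rfl⟩ := Subgroup.mem_zpowers_iff.mp hw
        obtain ⟨j, hj⟩ := Subgroup.mem_zpowers_iff.mp (hCn.conj_mem c (Subgroup.mem_zpowers c) g)
        rw [← conj_zpow, ← conj_pow, ← hj, ← zpow_natCast (c ^ j), ← zpow_mul, ← zpow_mul, e4]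
        exact dvd_mul_of_dvd_right (by push_cast; exact dvd_mul_right _ _) j⟩
      set π := QuotientGroup.mk' (Subgroup.zpowers (c ^ 4))
      have hcy : Commute (π y) (π c) := by
        rw [← commutatorElement_eq_one_iff_commute, ← map_commutatorElement]
        refine (QuotientGroup.eq_one_iff _).mpr ?_
        rw [commutatorElement_def, ← hr, ← zpow_sub_one, e4]; exact h4
      have hle : commutator Q ≤ Subgroup.zpowers (c ^ 4) := by
        rw [commutator_def, Subgroup.commutator_le]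
        intro u _ v _
        rw [← QuotientGroup.eq_one_iff]
        show π ⁅u, v⁆ = 1
        rw [map_commutatorElement]
        refine commutatorElement_eq_one_iff_commute.mpr ?_
        have hform : ∀ g, ∃ a b : ℤ, π g = π y ^ a * π c ^ b := fun g => by
          rcases hgen g with hg | ⟨i, rfl⟩
          · obtain ⟨i, rfl⟩ := Subgroup.mem_zpowers_iff.mp hg
            exact ⟨0, i, by rw [zpow_zero, one_mul, map_zpow]⟩
          · exact ⟨1, i, by rw [zpow_one, map_mul, map_zpow]⟩
        obtain ⟨a, b, hu⟩ := hform u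
        obtain ⟨a', b', hv⟩ := hform v
        rw [hu, hv]
        exact Commute.mul_left
          (Commute.mul_right ((Commute.refl _).zpow_zpow a a') (hcy.zpow_zpow a b'))
          (Commute.mul_right (hcy.symm.zpow_zpow b a') ((Commute.refl _).zpow_zpow b b'))
      have h8 : (Subgroup.zpowers (c ^ 4)).index = 8 := by
        have h1 := Subgroup.card_mul_index (Subgroup.zpowers (c ^ 4))
        rw [Nat.card_zpowers, orderOf_pow, hoc, h.card] at h1
        have h2 : Nat.gcd (2 ^ (n' + 2)) 4 = 4 := Nat.gcd_eq_right (Dvd.intro_left (2 ^ n') (by ring))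
        rw [h2, show (2 : ℕ) ^ (n' + 2) = 2 ^ n' * 4 by ring, Nat.mul_div_cancel _ (by norm_num),
          show (2 : ℕ) ^ (n' + 3) = 2 ^ n' * 8 by ring] at h1
        exact Nat.eq_of_mul_eq_mul_left (by positivity) h1
      have := Subgroup.index_dvd_of_le hle
      rw [h8, hidx] at this
      norm_num at this
    · rw [hyc, ← hk, e4, e4]; omega
  · refine Or.inr ⟨h4, ⟨?_, ?_⟩, ?_⟩
    · rw [h.card]; exact le_trans (by norm_num) (Nat.pow_le_pow_right (by norm_num) (show 3 ≤ n' + 3 by omega))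
    · -- the derived subgroup is `⟨c²⟩`
      have hD : commutator Q = Subgroup.zpowers (c ^ 2) := by
        have h2m : ∀ i : ℤ, (c ^ i ∈ Subgroup.zpowers (c ^ 2) ↔ (2 : ℤ) ∣ i) := fun i => by
          have := hmem 1 i (by omega); norm_num at this; exact this
        refine le_antisymm ?_ ?_
        · haveI hDn : (Subgroup.zpowers (c ^ 2)).Normal := ⟨fun w hw g => by
            obtain ⟨i, rfl⟩ := Subgroup.mem_zpowers_iff.mp hw
            obtain ⟨j, hj⟩ := Subgroup.mem_zpowers_iff.mp (hCn.conj_mem c (Subgroup.mem_zpowers c) g)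
            rw [← conj_zpow, ← conj_pow, ← hj, ← zpow_natCast (c ^ j), ← zpow_mul, ← zpow_mul, h2m]
            exact dvd_mul_of_dvd_right (by push_cast; exact dvd_mul_right _ _) j⟩
          set π := QuotientGroup.mk' (Subgroup.zpowers (c ^ 2))
          have hcy : Commute (π y) (π c) := by
            rw [← commutatorElement_eq_one_iff_commute, ← map_commutatorElement]
            refine (QuotientGroup.eq_one_iff _).mpr ?_
            rw [commutatorElement_def, ← hr, ← zpow_sub_one, h2m]; omega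
          rw [commutator_def, Subgroup.commutator_le]
          intro u _ v _
          rw [← QuotientGroup.eq_one_iff]
          show π ⁅u, v⁆ = 1
          rw [map_commutatorElement]
          refine commutatorElement_eq_one_iff_commute.mpr ?_
          have hform : ∀ g, ∃ a b : ℤ, π g = π y ^ a * π c ^ b := fun g => by
            rcases hgen g with hg | ⟨i, rfl⟩
            · obtain ⟨i, rfl⟩ := Subgroup.mem_zpowers_iff.mp hg
              exact ⟨0, i, by rw [zpow_zero, one_mul, map_zpow]⟩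
            · exact ⟨1, i, by rw [zpow_one, map_mul, map_zpow]⟩
          obtain ⟨a, b, hu⟩ := hform u
          obtain ⟨a', b', hv⟩ := hform v
          rw [hu, hv]
          exact Commute.mul_left
            (Commute.mul_right ((Commute.refl _).zpow_zpow a a') (hcy.zpow_zpow a b'))
            (Commute.mul_right (hcy.symm.zpow_zpow b a') ((Commute.refl _).zpow_zpow b b'))
        · rw [Subgroup.zpowers_le]
          have hm : c ^ (r - 1) ∈ commutator Q := by
            have := Subgroup.commutator_mem_commutator (Subgroup.mem_top y) (Subgroup.mem_top c)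
            rwa [commutatorElement_def, ← hr, ← zpow_sub_one] at this
          obtain ⟨u, hu⟩ : (2 : ℤ) ∣ r - 1 := by omega
          refine odd_gen h.pgrp (show ¬ (2 : ℤ) ∣ u by omega) ?_
          rw [← zpow_natCast, ← zpow_mul]
          push_cast
          rwa [← hu]
      rw [hD]
      have h1 := Subgroup.card_mul_index (Subgroup.zpowers (c ^ 2))
      rw [Nat.card_zpowers, orderOf_pow, hoc, h.card] at h1
      have h2 : Nat.gcd (2 ^ (n' + 2)) 2 = 2 := Nat.gcd_eq_right (Dvd.intro_left (2 ^ (n' + 1)) (by ring))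
      rw [h2, show (2 : ℕ) ^ (n' + 2) = 2 ^ (n' + 1) * 2 by ring, Nat.mul_div_cancel _ (by norm_num),
        show (2 : ℕ) ^ (n' + 3) = 2 ^ (n' + 1) * 4 by ring] at h1
      exact Nat.eq_of_mul_eq_mul_left (by positivity) h1
    · rw [hyc, ← hk, e4, e4]; omega

/-- A maximal subgroup containing `x` outside `⟨c⟩` is cyclic exactly when `x * x` is not a fourth power. -/
theorem cyclic_iff {c x : Q} {n : ℕ} (h : Setting c x n) {X : Subgroup Q} (hX : X.index = 2) (hx : x ∈ X) :
    IsCyclic X ↔ x * x ∉ Subgroup.zpowers (c ^ 4) := by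
  haveI : Fact (Nat.Prime 2) := ⟨Nat.prime_two⟩
  obtain ⟨r, hr, hxx, hd⟩ := dichotomy h
  have hc2 : c ^ 2 ∈ X := Subgroup.sq_mem_of_index_two hX c
  have hcard : Nat.card X = Nat.card (Subgroup.zpowers c) := by
    have h1 := Subgroup.card_mul_index X
    have h2 := Subgroup.card_mul_index (Subgroup.zpowers c)
    rw [hX] at h1; rw [h.idx] at h2
    omega
  have hcX : c ∉ X := fun hc => h.out (by
    have hle : Subgroup.zpowers c ≤ X := Subgroup.zpowers_le.mpr hc
    rw [Subgroup.eq_of_le_of_card_ge hle hcard.le]; exact hx)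
  obtain ⟨k, hk⟩ := Subgroup.mem_zpowers_iff.mp hxx
  have hk' : x * x = c ^ (2 * k) := by rw [← hk, ← zpow_natCast, ← zpow_mul]; rfl
  constructor
  · rintro hXc hsq
    obtain ⟨⟨g, hgX⟩, hg⟩ := hXc.exists_generator
    have hgen : ∀ w ∈ X, ∃ i : ℤ, w = g ^ i := fun w hw => by
      obtain ⟨i, hi⟩ := Subgroup.mem_zpowers_iff.mp (hg ⟨w, hw⟩)
      exact ⟨i, (congrArg Subtype.val hi).symm⟩
    obtain ⟨i, hi⟩ := hgen x hx
    -- `x` generates `X`
    have hgx : g ∈ Subgroup.zpowers x := by
      refine odd_gen h.pgrp (k := i) (fun hd2 => ?_) (hi ▸ Subgroup.mem_zpowers x)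
      obtain ⟨w, rfl⟩ := hd2
      refine h.out ?_
      rw [hi, zpow_mul, zpow_ofNat]
      exact Subgroup.zpow_mem _ (Subgroup.sq_mem_of_index_two h.idx g) w
    have hc2x : c ^ 2 ∈ Subgroup.zpowers x := by
      obtain ⟨j, hj⟩ := hgen _ hc2
      rw [hj]; exact Subgroup.zpow_mem _ hgx j
    obtain ⟨j, hj⟩ := Subgroup.mem_zpowers_iff.mp hc2x
    rcases Int.even_or_odd' j with ⟨w, rfl | rfl⟩
    · -- then `c²` is a fourth power
      obtain ⟨m, hm⟩ := Subgroup.mem_zpowers_iff.mp hsq
      rw [zpow_mul, zpow_ofNat, pow_two, ← hm, ← zpow_natCast, ← zpow_mul, ← zpow_mul, ← zpow_natCast] at hj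
      push_cast at hj
      have h2 : c ^ ((4 : ℤ) * (m * w) - 2) = 1 := by rw [zpow_sub, hj, mul_inv_cancel]
      have hd4 : (4 : ℤ) ∣ 4 * (m * w) - 2 := by
        refine Dvd.dvd.trans ?_ (orderOf_dvd_iff_zpow_eq_one.mpr h2)
        have hoc : orderOf c = 2 ^ (n - 1) := by
          have h1 := Subgroup.card_mul_index (Subgroup.zpowers c)
          rw [h.idx, Nat.card_zpowers, h.card, show n = n - 1 + 1 by have := h.hn3; omega, pow_succ] at h1
          omega
        rw [hoc]
        push_cast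
        exact (show (4 : ℤ) = 2 ^ 2 by norm_num) ▸ pow_dvd_pow 2 (by have := h.hn3; omega)
      omega
    · refine h.out ?_
      have : x = ((x * x) ^ w)⁻¹ * c ^ 2 := by
        rw [← hj, zpow_add, zpow_mul, zpow_one, zpow_ofNat, pow_two]; group
      rw [this]
      exact mul_mem (inv_mem (Subgroup.zpow_mem _ (Subgroup.mul_self_mem_of_index_two h.idx x) w))
        (Subgroup.npow_mem_zpowers c 2)
  · intro hsq
    -- `x` has maximal order
    have hk2 : ¬ (2 : ℤ) ∣ k := by
      rintro ⟨w, rfl⟩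
      apply hsq
      rw [hk', show (2 : ℤ) * (2 * w) = 4 * w by ring, zpow_mul, zpow_ofNat]
      exact Subgroup.zpow_mem _ (Subgroup.mem_zpowers _) w
    have hc2x : c ^ 2 ∈ Subgroup.zpowers x :=
      odd_gen h.pgrp hk2 (hk ▸ mul_mem (Subgroup.mem_zpowers x) (Subgroup.mem_zpowers x))
    have hXe : X = Subgroup.zpowers x := by
      refine le_antisymm (fun w hw => ?_) (Subgroup.zpowers_le.mpr hx)
      by_cases hwc : w ∈ Subgroup.zpowers c
      · obtain ⟨i, rfl⟩ := Subgroup.mem_zpowers_iff.mp hwc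
        rcases Int.even_or_odd' i with ⟨v, rfl | rfl⟩
        · rw [zpow_mul, zpow_ofNat]; exact Subgroup.zpow_mem _ hc2x v
        · exfalso; apply hcX
          rw [zpow_add, zpow_one, zpow_mul, zpow_ofNat] at hw
          exact (X.mul_mem_cancel_left (X.zpow_mem hc2 v)).mp hw
      · have h1 : x⁻¹ * w ∈ Subgroup.zpowers c := by
          rw [Subgroup.mul_mem_iff_of_index_two h.idx]
          exact iff_of_false (fun h1 => h.out (by simpa using Subgroup.inv_mem _ h1)) hwc
        obtain ⟨i, hi⟩ := Subgroup.mem_zpowers_iff.mp h1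
        have hiX : c ^ i ∈ X := hi ▸ X.mul_mem (X.inv_mem hx) hw
        rw [← mul_inv_cancel_left x w, ← hi]
        refine mul_mem (Subgroup.mem_zpowers x) ?_
        rcases Int.even_or_odd' i with ⟨v, rfl | rfl⟩
        · rw [zpow_mul, zpow_ofNat]; exact Subgroup.zpow_mem _ hc2x v
        · exfalso; apply hcX
          rw [zpow_add, zpow_one, zpow_mul, zpow_ofNat] at hiX
          exact (X.mul_mem_cancel_left (X.zpow_mem hc2 v)).mp hiX
    rw [hXe]; infer_instance

theorem cyclic_count [Fintype (Subgroup Q)] [DecidablePred fun M : Subgroup Q => M.index = 2 ∧ IsCyclic M]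
    (hQ : IsPGroup 2 Q) (hnc : ¬ IsCyclic Q) {n : ℕ} (hn : Nat.card Q = 2 ^ n) (hn3 : 3 ≤ n) :
    (MC Q → Odd (Finset.univ.filter fun M : Subgroup Q => M.index = 2 ∧ IsCyclic M).card) ∧
    (¬ MC Q → Even (Finset.univ.filter fun M : Subgroup Q => M.index = 2 ∧ IsCyclic M).card) := by
  haveI : Fact (Nat.Prime 2) := ⟨Nat.prime_two⟩
  classical
  by_cases hex : ∃ c : Q, (Subgroup.zpowers c).index = 2
  swap
  · push Not at hex
    refine ⟨fun hmc => ?_, fun _ => ?_⟩
    · obtain ⟨j, rfl⟩ : ∃ j, n = j + 2 := ⟨n - 2, by omega⟩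
      obtain ⟨c, hc⟩ := H31.exists_cyclic_index_two j hn hmc.2
      exact absurd hc (hex c)
    · have : (Finset.univ.filter fun M : Subgroup Q => M.index = 2 ∧ IsCyclic M) = ∅ := by
        refine Finset.filter_eq_empty_iff.mpr ?_
        rintro M - ⟨hM, hMc⟩
        obtain ⟨c, rfl⟩ := (Subgroup.isCyclic_iff_exists_zpowers_eq_top _).mp hMc
        exact hex c hM
      rw [this]; exact ⟨0, rfl⟩
  obtain ⟨c, hc⟩ := hex
  obtain ⟨y, hy⟩ : ∃ y, y ∉ Subgroup.zpowers c := by
    by_contra h
    push Not at h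
    rw [Subgroup.eq_top_iff' _ |>.mpr h, Subgroup.index_top] at hc
    norm_num at hc
  have hs : Setting c y n := ⟨hQ, hnc, hn3, hn, hc, hy⟩
  have hyc : y * c ∉ Subgroup.zpowers c := fun h => hy ((Subgroup.mul_mem_cancel_right _ (Subgroup.mem_zpowers c)).mp h)
  have hs' : Setting c (y * c) n := ⟨hQ, hnc, hn3, hn, hc, hyc⟩
  obtain ⟨r, hr, hy2, hd⟩ := dichotomy hs
  -- maximal subgroups
  have hP2 : (frattini Q) ≤ Subgroup.zpowers c := frattini_le_of_index_prime hQ hc
  obtain ⟨Xy, hXy, hXyi⟩ : ∃ X : Subgroup Q, y ∈ X ∧ X.index = 2 := by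
    have hne : Subgroup.zpowers y ≠ ⊤ := fun h => hnc (isCyclic_iff_exists_zpowers_eq_top.mpr ⟨y, h⟩)
    obtain ⟨M, hM, hMi⟩ := exists_index_prime_above hQ hne
    exact ⟨M, hM (Subgroup.mem_zpowers y), hMi⟩
  obtain ⟨Xz, hXz, hXzi⟩ : ∃ X : Subgroup Q, y * c ∈ X ∧ X.index = 2 := by
    have hne : Subgroup.zpowers (y * c) ≠ ⊤ := fun h => hnc (isCyclic_iff_exists_zpowers_eq_top.mpr ⟨y * c, h⟩)
    obtain ⟨M, hM, hMi⟩ := exists_index_prime_above hQ hne
    exact ⟨M, hM (Subgroup.mem_zpowers _), hMi⟩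
  have hcnot : ∀ X : Subgroup Q, X.index = 2 → ∀ g ∈ X, g ∉ Subgroup.zpowers c → c ∉ X := by
    intro X hX g hg hgc hcX
    have hle : Subgroup.zpowers c ≤ X := Subgroup.zpowers_le.mpr hcX
    have h1 := Subgroup.card_mul_index X
    have h2 := Subgroup.card_mul_index (Subgroup.zpowers c)
    rw [hX] at h1; rw [hc] at h2
    exact hgc (Subgroup.eq_of_le_of_card_ge hle (by omega) ▸ hg)
  have hsame : ∀ X Y : Subgroup Q, X.index = 2 → Y.index = 2 → ∀ g ∈ X, g ∈ Y → g ∉ Subgroup.zpowers c → X = Y := by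
    intro X Y hX hY g hgX hgY hgc
    have key : ∀ Z : Subgroup Q, Z.index = 2 → g ∈ Z → ∀ w, (w ∈ Z ↔ (w ∈ Subgroup.zpowers (c ^ 2) ∨ g⁻¹ * w ∈ Subgroup.zpowers (c ^ 2))) := by
      intro Z hZ hgZ w
      have hc2 : c ^ 2 ∈ Z := Subgroup.sq_mem_of_index_two hZ c
      have hcZ := hcnot Z hZ g hgZ hgc
      have hint : ∀ v, v ∈ Z → v ∈ Subgroup.zpowers c → v ∈ Subgroup.zpowers (c ^ 2) := by
        intro v hv hvc
        obtain ⟨i, rfl⟩ := Subgroup.mem_zpowers_iff.mp hvc
        rcases Int.even_or_odd' i with ⟨t, rfl | rfl⟩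
        · rw [zpow_mul, zpow_ofNat]; exact Subgroup.zpow_mem _ (Subgroup.mem_zpowers _) t
        · exfalso; apply hcZ
          rw [zpow_add, zpow_one, zpow_mul, zpow_ofNat] at hv
          exact (Z.mul_mem_cancel_left (Z.zpow_mem hc2 t)).mp hv
      constructor
      · intro hw
        by_cases hwc : w ∈ Subgroup.zpowers c
        · exact Or.inl (hint w hw hwc)
        · refine Or.inr (hint _ (Z.mul_mem (Z.inv_mem hgZ) hw) ?_)
          rw [Subgroup.mul_mem_iff_of_index_two hc]
          exact iff_of_false (fun h1 => hgc (by simpa using Subgroup.inv_mem _ h1)) hwc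
      · rintro (hw | hw)
        · exact Subgroup.zpowers_le.mpr hc2 hw
        · have := Z.mul_mem hgZ (Subgroup.zpowers_le.mpr hc2 hw)
          rwa [mul_inv_cancel_left] at this
    ext w
    rw [key X hX hgX w, key Y hY hgY w]
  have hneq : Xy ≠ Xz := by
    intro h
    rw [← h] at hXz
    exact hcnot Xy hXyi y hXy hy ((Xy.mul_mem_cancel_left hXy).mp hXz)
  have hCy : Subgroup.zpowers c ≠ Xy := fun h => hy (h ▸ hXy)
  have hCz : Subgroup.zpowers c ≠ Xz := fun h => hyc (h ▸ hXz)
  have hlist : ∀ M : Subgroup Q, M.index = 2 → M = Subgroup.zpowers c ∨ M = Xy ∨ M = Xz := by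
    intro M hM
    by_cases hle : M ≤ Subgroup.zpowers c
    · left
      have h1 := Subgroup.card_mul_index M
      have h2 := Subgroup.card_mul_index (Subgroup.zpowers c)
      rw [hM] at h1; rw [hc] at h2
      exact Subgroup.eq_of_le_of_card_ge hle (by omega)
    · obtain ⟨g, hgM, hgc⟩ := SetLike.not_le_iff_exists.mp hle
      by_cases hgy : g ∈ Xy
      · exact Or.inr (Or.inl (hsame M Xy hM hXyi g hgM hgy hgc))
      · refine Or.inr (Or.inr (hsame M Xz hM hXzi g hgM ?_ hgc))
        have h1 : y⁻¹ * g ∈ Subgroup.zpowers c := by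
          rw [Subgroup.mul_mem_iff_of_index_two hc]
          exact iff_of_false (fun h1 => hy (by simpa using Subgroup.inv_mem _ h1)) hgc
        obtain ⟨i, hi⟩ := Subgroup.mem_zpowers_iff.mp h1
        rcases Int.even_or_odd' i with ⟨t, rfl | rfl⟩
        · exfalso; apply hgy
          rw [← mul_inv_cancel_left y g, ← hi, zpow_mul, zpow_ofNat]
          exact Xy.mul_mem hXy (Xy.zpow_mem (Subgroup.sq_mem_of_index_two hXyi c) t)
        · rw [← mul_inv_cancel_left y g, ← hi, show (2 : ℤ) * t + 1 = 1 + 2 * t by ring, zpow_add, zpow_one, zpow_mul,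
            zpow_ofNat, ← mul_assoc]
          exact Xz.mul_mem hXz (Xz.zpow_mem (Subgroup.sq_mem_of_index_two hXzi c) t)
  have hyI := cyclic_iff hs hXyi hXy
  have hzI := cyclic_iff hs' hXzi hXz
  have hset : ∀ (P : Subgroup Q → Prop) [DecidablePred P],
      (∀ M, P M ↔ M.index = 2 ∧ IsCyclic M) →
      (Finset.univ.filter P).card = 1 + ((if IsCyclic Xy then 1 else 0) + (if IsCyclic Xz then 1 else 0)) := by
    intro P _ hP
    have h1 : Finset.univ.filter P =
        ({Subgroup.zpowers c, Xy, Xz} : Finset (Subgroup Q)).filter fun M : Subgroup Q => IsCyclic M := by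
      ext M
      simp only [Finset.mem_filter, Finset.mem_univ, true_and, Finset.mem_insert, Finset.mem_singleton, hP]
      constructor
      · rintro ⟨hM, hMc⟩; exact ⟨hlist M hM, hMc⟩
      · rintro ⟨hM | hM | hM, hMc⟩ <;> exact ⟨by rw [hM]; assumption, hMc⟩
    rw [h1, Finset.card_filter, Finset.sum_insert (by simp [hCy, hCz]), Finset.sum_pair hneq, if_pos (inferInstance : IsCyclic (Subgroup.zpowers c))]
  rw [hset _ (fun M => Iff.rfl)]
  have hyy : IsCyclic Xy ↔ ¬ (y * y ∈ Subgroup.zpowers (c ^ 4)) := hyI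
  have hzz : IsCyclic Xz ↔ ¬ (y * c * (y * c) ∈ Subgroup.zpowers (c ^ 4)) := hzI
  rcases hd with ⟨-, hmc, hiff⟩ | ⟨-, hmc, hiff⟩
  · refine ⟨fun h => absurd h hmc, fun _ => ?_⟩
    by_cases h1 : IsCyclic Xy
    · have h2 : ¬ IsCyclic Xz := fun h2 => hyy.mp h1 (hiff.mpr (hzz.mp h2))
      rw [if_pos h1, if_neg h2]; decide
    · have h2 : IsCyclic Xz := hzz.mpr (hiff.mp (not_not.mp (mt hyy.mpr h1)))
      rw [if_neg h1, if_pos h2]; decide
  · refine ⟨fun _ => ?_, fun h => absurd hmc h⟩
    by_cases h1 : IsCyclic Xy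
    · have h2 : IsCyclic Xz := hzz.mpr (fun h2 => hyy.mp h1 (hiff.mpr h2))
      rw [if_pos h1, if_pos h2]; decide
    · have h2 : ¬ IsCyclic Xz := fun h2 => hzz.mp h2 (hiff.mp (not_not.mp (mt hyy.mpr h1)))
      rw [if_neg h1, if_neg h2]; decide

theorem mc_maximal (hQ : IsPGroup 2 Q) {n : ℕ} (hn : Nat.card Q = 2 ^ n) (hn4 : 4 ≤ n) (hmc : MC Q)
    (X : Subgroup Q) (hX : X.index = 2) (hXnc : ¬ IsCyclic X) : MC X := by
  haveI : Fact (Nat.Prime 2) := ⟨Nat.prime_two⟩
  obtain ⟨j, rfl⟩ : ∃ j, n = j + 2 := ⟨n - 2, by omega⟩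
  obtain ⟨c, hc⟩ := H31.exists_cyclic_index_two j hn hmc.2
  obtain ⟨x, hx, hxc⟩ : ∃ x ∈ X, x ∉ Subgroup.zpowers c := by
    by_contra h
    push Not at h
    exact hXnc (Subgroup.isCyclic_of_le (H' := Subgroup.zpowers c) h)
  have hs : Setting c x (j + 2) := ⟨hQ, mc_not_cyclic hmc, by omega, hn, hc, hxc⟩
  obtain ⟨r, hr, -, hd⟩ := dichotomy hs
  rcases hd with ⟨-, h', -⟩ | ⟨h4, -, -⟩
  · exact absurd hmc h'
  have hXcard : Nat.card X = 2 ^ (j + 1) := by
    have h1 := Subgroup.card_mul_index X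
    rw [hX, hn, show j + 2 = j + 1 + 1 from rfl, pow_succ] at h1
    omega
  have h8 : 8 ≤ Nat.card X := by
    rw [hXcard]; exact le_trans (by norm_num) (Nat.pow_le_pow_right (by norm_num) (show 3 ≤ j + 1 by omega))
  refine ⟨h8, ?_⟩
  have hXp : IsPGroup 2 X := hQ.to_subgroup X
  have hupper : (commutator X).index ≤ 4 := by
    have hc4 : c ^ 4 ∈ (commutator X).map X.subtype := by
      have hc2 : c ^ 2 ∈ X := Subgroup.sq_mem_of_index_two hX c
      have hm : (c ^ (2 : ℕ)) ^ (r - 1) ∈ (commutator X).map X.subtype := by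
        refine ⟨⁅(⟨x, hx⟩ : X), ⟨c ^ 2, hc2⟩⁆, Subgroup.commutator_mem_commutator (Subgroup.mem_top _) (Subgroup.mem_top _), ?_⟩
        rw [map_commutatorElement]
        show x * c ^ 2 * x⁻¹ * (c ^ 2)⁻¹ = _
        rw [← conj_pow, hr, ← zpow_natCast (c ^ r), ← zpow_natCast c, ← zpow_mul, ← zpow_mul, ← zpow_neg, ← zpow_add]
        congr 1; ring
      obtain ⟨u, hu⟩ : (2 : ℤ) ∣ r - 1 := by omega
      refine odd_gen hQ (show ¬ (2 : ℤ) ∣ u by omega) ?_
      convert hm using 1
      rw [hu, ← zpow_natCast c, ← zpow_natCast c, ← zpow_mul, ← zpow_mul]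
      push_cast; ring_nf
    have hle : Nat.card (Subgroup.zpowers (c ^ 4)) ≤ Nat.card (commutator X) := by
      rw [← Subgroup.card_map_of_injective (K := commutator X) X.subtype_injective]
      exact Subgroup.card_le_of_le (Subgroup.zpowers_le.mpr hc4)
    have hoc : orderOf c = 2 ^ (j + 1) := by
      have h1 := Subgroup.card_mul_index (Subgroup.zpowers c)
      rw [hc, Nat.card_zpowers, hn, show j + 2 = j + 1 + 1 from rfl, pow_succ] at h1
      omega
    rw [Nat.card_zpowers, orderOf_pow, hoc] at hle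
    obtain ⟨i, rfl⟩ : ∃ i, j = i + 1 := ⟨j - 1, by omega⟩
    have h2 : Nat.gcd (2 ^ (i + 1 + 1)) 4 = 4 := Nat.gcd_eq_right (Dvd.intro_left (2 ^ i) (by ring))
    rw [h2, show (2 : ℕ) ^ (i + 1 + 1) = 2 ^ i * 4 by ring, Nat.mul_div_cancel _ (by norm_num)] at hle
    have h3 := Subgroup.card_mul_index (commutator X)
    rw [hXcard, show (2 : ℕ) ^ (i + 1 + 1) = 2 ^ i * 4 by ring] at h3
    by_contra hgt
    push Not at hgt
    have := Nat.mul_le_mul hle hgt.le
    have h5 : 2 ^ i * 4 < Nat.card (commutator X) * (commutator X).index :=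
      lt_of_lt_of_le (Nat.mul_lt_mul_of_pos_left hgt (by positivity)) (Nat.mul_le_mul_right _ hle)
    omega
  obtain ⟨i, hi⟩ := hXp.index (commutator X)
  have hi2 : 2 ≤ i := by
    by_contra h
    have hcomm := H31.commutative_of_commutator_index_le_two hXp (by
      rw [hi]; calc 2 ^ i ≤ 2 ^ 1 := Nat.pow_le_pow_right (by norm_num) (by omega)
        _ = 2 := pow_one 2)
    have hb : commutator X = ⊥ := by
      rw [eq_bot_iff, commutator_def, Subgroup.commutator_le]
      intro a _ b _
      rw [Subgroup.mem_bot, commutatorElement_eq_one_iff_mul_comm]; exact hcomm a b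
    rw [hb, Subgroup.index_bot] at hupper
    omega
  rw [hi] at hupper ⊢
  have hle2 : i ≤ 2 := (Nat.pow_le_pow_iff_right (by norm_num : 1 < 2)).mp (hupper.trans_eq (by norm_num : (4 : ℕ) = 2 ^ 2))
  rw [show i = 2 by omega]; norm_num

theorem double_le {H K : Subgroup Q} (h : H < K) : 2 * Nat.card H ≤ Nat.card K := by
  obtain ⟨k, hk⟩ := Subgroup.card_dvd_of_le h.le
  have h2 : 2 ≤ k := by
    by_contra hlt
    interval_cases k
    · rw [mul_zero] at hk; exact Nat.card_pos.ne' hk
    · rw [mul_one] at hk; exact h.ne (Subgroup.eq_of_le_of_card_ge h.le hk.le)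
  rw [hk, mul_comm 2]
  exact Nat.mul_le_mul_left _ h2

theorem top_of_chain {D X : Subgroup Q} (hDX : D ≤ X) {i : ℕ} (hD : Nat.card D = 2 ^ i) (hX : Nat.card X = 2 ^ (i + 2))
    {u v : Q} (hu : u ∈ X) (hv : v ∈ X) (huD : u ∉ D) (hvC : v ∉ D ⊔ Subgroup.zpowers u) :
    D ⊔ Subgroup.zpowers u ⊔ Subgroup.zpowers v = X := by
  refine Subgroup.eq_of_le_of_card_ge (sup_le (sup_le hDX (Subgroup.zpowers_le.mpr hu)) (Subgroup.zpowers_le.mpr hv)) ?_
  have h1 := double_le (show D < D ⊔ Subgroup.zpowers u from lt_of_le_of_ne le_sup_left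
    (fun h => huD (h ▸ Subgroup.mem_sup_right (Subgroup.mem_zpowers u))))
  have h2 := double_le (show D ⊔ Subgroup.zpowers u < D ⊔ Subgroup.zpowers u ⊔ Subgroup.zpowers v from lt_of_le_of_ne le_sup_left
    (fun h => hvC (h ▸ Subgroup.mem_sup_right (Subgroup.mem_zpowers v))))
  rw [hX, pow_add]; rw [hD] at h1
  omega

theorem mc_maximal_even [Fintype (Subgroup Q)] [DecidablePred fun M : Subgroup Q => M.index = 2 ∧ MC M]
    (hQ : IsPGroup 2 Q) (hnc : ¬ IsCyclic Q) {n : ℕ} (hn : Nat.card Q = 2 ^ n) (hn4 : 4 ≤ n) (hmc : ¬ MC Q) :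
    Even (Finset.univ.filter fun M : Subgroup Q => M.index = 2 ∧ MC M).card := by
  haveI : Fact (Nat.Prime 2) := ⟨Nat.prime_two⟩
  classical
  by_cases hex : ∃ M : Subgroup Q, M.index = 2 ∧ MC M
  swap
  · push Not at hex
    rw [Finset.filter_eq_empty_iff.mpr (fun M _ h => hex M h.1 h.2)]
    exact ⟨0, rfl⟩
  obtain ⟨M, hMi, hMmc⟩ := hex
  haveI hMn : M.Normal := Subgroup.normal_of_index_eq_two hMi
  obtain ⟨j, rfl⟩ : ∃ j, n = j + 4 := ⟨n - 4, by omega⟩
  have hMcard : Nat.card M = 2 ^ (j + 3) := by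
    have h1 := Subgroup.card_mul_index M
    rw [hMi, hn, show j + 4 = j + 3 + 1 from rfl, pow_succ] at h1
    omega
  set D := (commutator M).map M.subtype with hD
  have hDle : D ≤ commutator Q := by
    rw [hD, commutator_def, Subgroup.map_commutator]
    exact Subgroup.commutator_mono le_top le_top
  haveI hDn : D.Normal := by
    rw [hD, commutator_def, Subgroup.map_commutator, ← MonoidHom.range_eq_map, Subgroup.range_subtype]
    infer_instance
  have hDM : D ≤ M := Subgroup.map_subtype_le _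
  have hDcard : Nat.card D = 2 ^ (j + 1) := by
    rw [hD, Subgroup.card_map_of_injective M.subtype_injective]
    exact H31.card_commutator_of_index_four hMcard hMmc.2
  have hDidx : D.index = 8 := by
    have h1 := Subgroup.card_mul_index D
    rw [hDcard, hn, show (2 : ℕ) ^ (j + 4) = 2 ^ (j + 1) * 8 by ring] at h1
    exact Nat.eq_of_mul_eq_mul_left (by positivity) h1
  have hQD : commutator Q = D := by
    refine le_antisymm ?_ hDle
    by_contra hlt
    apply hmc
    refine ⟨by rw [hn]; exact le_trans (by norm_num) (Nat.pow_le_pow_right (by norm_num) (show 3 ≤ j + 4 by omega)), ?_⟩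
    have hlt' : D < commutator Q := lt_of_le_of_ne hDle fun h => hlt h.ge
    have hmul := Subgroup.relIndex_mul_index hDle
    rw [hDidx] at hmul
    obtain ⟨i, hi⟩ := hQ.index (commutator Q)
    have hi2 : 2 ≤ i := by
      by_contra h
      have hcomm := H31.commutative_of_commutator_index_le_two hQ (by
        rw [hi]; calc 2 ^ i ≤ 2 ^ 1 := Nat.pow_le_pow_right (by norm_num) (by omega)
          _ = 2 := pow_one 2)
      have hb : commutator Q = ⊥ := by
        rw [eq_bot_iff, commutator_def, Subgroup.commutator_le]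
        intro a _ b _
        rw [Subgroup.mem_bot, commutatorElement_eq_one_iff_mul_comm]; exact hcomm a b
      exact absurd hlt' (by rw [hb]; exact not_lt_bot)
    obtain ⟨e, he⟩ : ∃ e, D.relIndex (commutator Q) = 2 ^ e := (hQ.to_subgroup _).index _
    rw [he, hi, ← pow_add, show (8 : ℕ) = 2 ^ 3 by norm_num] at hmul
    have h3 := Nat.pow_right_injective (le_refl 2) hmul
    have he1 : 1 ≤ e := by
      by_contra h
      rw [show e = 0 by omega, pow_zero, Subgroup.relIndex_eq_one] at he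
      exact hlt'.not_ge he
    rw [hi, show i = 2 by omega]; norm_num
  -- the unique subgroup of index two in the cyclic group `D`
  obtain ⟨d, hd⟩ : ∃ d, D = Subgroup.zpowers d := by
    obtain ⟨c, hc⟩ := H31.exists_cyclic_index_two (j + 1) hMcard hMmc.2
    haveI : IsCyclic (commutator M) := by
      have hle : commutator M ≤ Subgroup.zpowers c := by
        haveI : (Subgroup.zpowers c).Normal := Subgroup.normal_of_index_eq_two hc
        haveI : IsCyclic (M ⧸ Subgroup.zpowers c) := isCyclic_of_prime_card (p := 2) (by rw [← Subgroup.index_eq_card, hc])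
        exact Subgroup.Normal.quotient_commutative_iff_commutator_le.mp
          ⟨⟨fun a b => (IsCyclic.commGroup (α := M ⧸ Subgroup.zpowers c)).mul_comm a b⟩⟩
      exact Subgroup.isCyclic_of_le hle
    obtain ⟨d, hd⟩ := (Subgroup.isCyclic_iff_exists_zpowers_eq_top _).mp (inferInstance : IsCyclic (commutator M))
    exact ⟨(d : Q), by rw [hD, ← hd, MonoidHom.map_zpowers]; rfl⟩
  have hdD : d ∈ D := by rw [hd]; exact Subgroup.mem_zpowers d
  have hconjd : ∀ g, ∃ t : ℤ, d ^ t = g * d * g⁻¹ := fun g => Subgroup.mem_zpowers_iff.mp (by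
    rw [← hd]; exact hDn.conj_mem d hdD g)
  set E := Subgroup.zpowers (d ^ 2) with hE
  haveI hEn : E.Normal := ⟨fun w hw g => by
    obtain ⟨i, rfl⟩ := Subgroup.mem_zpowers_iff.mp hw
    obtain ⟨t, ht⟩ := hconjd g
    rw [← conj_zpow, ← conj_pow, ← ht, ← zpow_natCast (d ^ t), ← zpow_mul, ← zpow_mul,
      show t * (((2 : ℕ) : ℤ) * i) = ((2 : ℕ) : ℤ) * (t * i) by ring, zpow_mul, zpow_natCast]
    exact E.zpow_mem (Subgroup.mem_zpowers (d ^ 2)) (t * i)⟩
  have hod : orderOf d = 2 ^ (j + 1) := by rw [← Nat.card_zpowers, ← hd, hDcard]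
  have hdE : d ∉ E := by
    intro h
    obtain ⟨i, hi⟩ := Subgroup.mem_zpowers_iff.mp h
    rw [← zpow_natCast, ← zpow_mul] at hi
    have h2 : d ^ (((2 : ℕ) : ℤ) * i - 1) = 1 := by rw [zpow_sub, hi, zpow_one, mul_inv_cancel]
    have h3 := orderOf_dvd_iff_zpow_eq_one.mpr h2
    rw [hod] at h3
    push_cast at h3
    have h4 : (2 : ℤ) ∣ 2 * i - 1 := (dvd_pow_self 2 (by omega)).trans h3
    omega
  set π := QuotientGroup.mk' E with hπ
  have hgood : ∀ X : Subgroup Q, X.index = 2 → (MC X ↔ ¬ ∀ a ∈ X, ∀ b ∈ X, ⁅a, b⁆ ∈ E) := by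
    intro X hX
    have hXD : D ≤ X := by
      rw [← hQD]
      exact (commutator_le_frattini hQ).trans (frattini_le_of_index_prime hQ hX)
    have hXcard : Nat.card X = 2 ^ (j + 3) := by
      have h1 := Subgroup.card_mul_index X
      rw [hX, hn, show j + 4 = j + 3 + 1 from rfl, pow_succ] at h1
      omega
    have hXle : (commutator X).map X.subtype ≤ D := by
      rw [← hQD, commutator_def, Subgroup.map_commutator]
      exact Subgroup.commutator_mono le_top le_top
    constructor
    · intro hmX hall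
      have hle : (commutator X).map X.subtype ≤ E := by
        rw [commutator_def, Subgroup.map_commutator, ← MonoidHom.range_eq_map, Subgroup.range_subtype, Subgroup.commutator_le]
        exact hall
      have h1 := Subgroup.card_le_of_le hle
      rw [Subgroup.card_map_of_injective X.subtype_injective, H31.card_commutator_of_index_four hXcard hmX.2, hE,
        Nat.card_zpowers, orderOf_pow, hod, Nat.gcd_eq_right (dvd_pow_self 2 (by omega)), pow_succ,
        Nat.mul_div_cancel _ (by norm_num)] at h1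
      have : 0 < 2 ^ j := by positivity
      omega
    · intro hne
      push Not at hne
      obtain ⟨a, ha, b, hb, hab⟩ := hne
      have hm : ⁅a, b⁆ ∈ (commutator X).map X.subtype :=
        ⟨⁅(⟨a, ha⟩ : X), ⟨b, hb⟩⁆, Subgroup.commutator_mem_commutator (Subgroup.mem_top _) (Subgroup.mem_top _), by
          rw [map_commutatorElement]; rfl⟩
      obtain ⟨i, hi⟩ := Subgroup.mem_zpowers_iff.mp (hd ▸ hXle hm : ⁅a, b⁆ ∈ Subgroup.zpowers d)
      have hiodd : ¬ (2 : ℤ) ∣ i := by
        rintro ⟨w, rfl⟩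
        apply hab
        rw [← hi, zpow_mul, zpow_ofNat]
        exact Subgroup.zpow_mem _ (Subgroup.mem_zpowers _) w
      have heq : (commutator X).map X.subtype = D := le_antisymm hXle (by
        rw [hd, Subgroup.zpowers_le]; exact odd_gen hQ hiodd (hi ▸ hm))
      have hc := congrArg (fun H : Subgroup Q => Nat.card H) heq
      simp only [Subgroup.card_map_of_injective X.subtype_injective, hDcard] at hc
      refine ⟨by rw [hXcard]; exact le_trans (by norm_num) (Nat.pow_le_pow_right (by norm_num) (show 3 ≤ j + 3 by omega)), ?_⟩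
      have h1 := Subgroup.card_mul_index (commutator X)
      rw [hc, hXcard, show (2 : ℕ) ^ (j + 3) = 2 ^ (j + 1) * 4 by ring] at h1
      exact Nat.eq_of_mul_eq_mul_left (by positivity) h1
  -- the subgroup of elements central modulo `E`
  set W := (Subgroup.center (Q ⧸ E)).comap π with hW
  have hWmem : ∀ w, w ∈ W ↔ ∀ g, Commute (π g) (π w) := by
    intro w
    rw [hW, Subgroup.mem_comap, Subgroup.mem_center_iff]
    exact ⟨fun h g => h (π g), fun h q => by obtain ⟨g, rfl⟩ := QuotientGroup.mk_surjective q; exact h g⟩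
  have hdcent : ∀ g : Q, Commute (π g) (π d) := by
    intro g
    rw [← commutatorElement_eq_one_iff_commute, ← map_commutatorElement]
    refine (QuotientGroup.eq_one_iff _).mpr ?_
    obtain ⟨t, ht⟩ := hconjd g
    have hto : ¬ (2 : ℤ) ∣ t := by
      rintro ⟨w, rfl⟩
      apply hdE
      have : g * d * g⁻¹ ∈ E := by rw [← ht, zpow_mul, zpow_ofNat]; exact Subgroup.zpow_mem _ (Subgroup.mem_zpowers _) w
      exact (hEn.mem_comm_iff).mp this |> fun h => by simpa [mul_assoc] using h
    rw [commutatorElement_def, ← ht, ← zpow_sub_one]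
    obtain ⟨w, hw⟩ : (2 : ℤ) ∣ t - 1 := by omega
    rw [hw, zpow_mul, zpow_ofNat]
    exact Subgroup.zpow_mem _ (Subgroup.mem_zpowers _) w
  have hcommE : ∀ a b : Q, π ⁅a, b⁆ = 1 ∨ π ⁅a, b⁆ = π d := by
    intro a b
    have hm : ⁅a, b⁆ ∈ Subgroup.zpowers d := by
      rw [← hd, ← hQD, commutator_def]
      exact Subgroup.commutator_mem_commutator (Subgroup.mem_top a) (Subgroup.mem_top b)
    obtain ⟨i, hi⟩ := Subgroup.mem_zpowers_iff.mp hm
    have hd2 : π (d ^ (2 : ℕ)) = 1 := (QuotientGroup.eq_one_iff _).mpr (Subgroup.mem_zpowers _)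
    rcases Int.even_or_odd' i with ⟨w, rfl | rfl⟩
    · left; rw [← hi, zpow_mul, map_zpow, zpow_ofNat, hd2, one_zpow]
    · right; rw [← hi, zpow_add, zpow_one, map_mul, zpow_mul, map_zpow, zpow_ofNat, hd2, one_zpow, one_mul]
  have hcd : ∀ a b : Q, ∀ q, Commute q (π ⁅a, b⁆) := fun a b q => by
    obtain ⟨g, rfl⟩ := QuotientGroup.mk_surjective q
    rcases hcommE a b with h | h <;> rw [h]
    · exact Commute.one_right _
    · exact hdcent g
  have hddE : π d * π d = 1 := by
    rw [← map_mul, ← pow_two]; exact (QuotientGroup.eq_one_iff _).mpr (Subgroup.mem_zpowers _)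
  have hΦW : frattini Q ≤ W := by
    refine H31.frattini_le_of_pow_mem Nat.prime_two W ?_ fun x => ?_
    · rw [hQD, hd, Subgroup.zpowers_le, hWmem]; exact hdcent
    · rw [hWmem]
      intro g
      have h1 : π g * π x * (π g)⁻¹ = π ⁅g, x⁆ * π x := by
        rw [map_commutatorElement, commutatorElement_def]; group
      have h2 : π g * π (x ^ 2) * (π g)⁻¹ = π (x ^ 2) := by
        rw [map_pow, ← conj_pow, h1, ((hcd g x (π x)).symm).mul_pow]
        rcases hcommE g x with h | h <;> rw [h]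
        · rw [one_pow, one_mul]
        · rw [pow_two, hddE, one_mul]
      exact mul_inv_eq_iff_eq_mul.mp h2
  let K : Q → Subgroup Q := fun x => (Subgroup.centralizer ({π x} : Set (Q ⧸ E))).comap π
  have hK : ∀ x w, w ∈ K x ↔ Commute (π w) (π x) := fun x w => by
    simp only [K, Subgroup.mem_comap, Subgroup.mem_centralizer_singleton_iff]
    exact ⟨fun h => h, fun h => h⟩
  have hDK : ∀ x, D ≤ K x := fun x => by
    rw [hd, Subgroup.zpowers_le, hK]; exact (hdcent x).symm
  obtain ⟨u, hu, v, hv, huv⟩ : ∃ u ∈ M, ∃ v ∈ M, ⁅u, v⁆ ∉ E := by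
    have := (hgood M hMi).mp hMmc
    push Not at this; exact this
  have huv' : ¬ Commute (π u) (π v) := fun h => huv (by
    rw [← QuotientGroup.eq_one_iff]
    show π ⁅u, v⁆ = 1
    rw [map_commutatorElement]; exact commutatorElement_eq_one_iff_commute.mpr h)
  have huD : u ∉ D := fun h => huv' ((hK v u).mp (hDK v h))
  have hvC : v ∉ D ⊔ Subgroup.zpowers u := fun h => huv'
    ((hK u v).mp (sup_le (hDK u) (Subgroup.zpowers_le.mpr ((hK u u).mpr (Commute.refl _))) h)).symm
  have hMgen := top_of_chain hDM hDcard hMcard hu hv huD hvC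
  have hcenter : ∀ m ∈ M, (∀ w ∈ M, Commute (π w) (π m)) → m ∈ D := by
    intro m hm hcom
    by_contra hmD
    have hne : ¬ M ≤ D ⊔ Subgroup.zpowers m := fun hle => huv' ((hK v u).mp
      (sup_le (hDK v) (Subgroup.zpowers_le.mpr ((hK v m).mpr (hcom v hv).symm)) (hle hu)))
    obtain ⟨a, haM, haC⟩ := SetLike.not_le_iff_exists.mp hne
    have hgen := top_of_chain hDM hDcard hMcard hm haM hmD haC
    have hMa : M ≤ K a := by
      rw [← hgen]
      exact sup_le (sup_le (hDK a) (Subgroup.zpowers_le.mpr ((hK a m).mpr (hcom a haM).symm)))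
        (Subgroup.zpowers_le.mpr ((hK a a).mpr (Commute.refl _)))
    have hMu : M ≤ K u := by
      rw [← hgen]
      exact sup_le (sup_le (hDK u) (Subgroup.zpowers_le.mpr ((hK u m).mpr (hcom u hu).symm)))
        (Subgroup.zpowers_le.mpr ((hK u a).mpr ((hK a u).mp (hMa hu)).symm))
    exact huv' ((hK u v).mp (hMu hv)).symm
  obtain ⟨y₀, hy₀⟩ : ∃ y, y ∉ M := by
    by_contra h
    push Not at h
    rw [Subgroup.eq_top_iff' _ |>.mpr h, Subgroup.index_top] at hMi
    norm_num at hMi
  have hmulc : ∀ a b c : Q, π ⁅a * b, c⁆ = π ⁅a, c⁆ * π ⁅b, c⁆ := by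
    intro a b c
    rw [show ⁅a * b, c⁆ = a * ⁅b, c⁆ * a⁻¹ * ⁅a, c⁆ by rw [commutatorElement_def, commutatorElement_def, commutatorElement_def]; group,
      map_mul, map_mul, map_mul, map_inv, ((hcd b c (π a)).mul_inv_cancel : π a * π ⁅b, c⁆ * (π a)⁻¹ = π ⁅b, c⁆)]
    exact (hcd a c (π ⁅b, c⁆)).eq
  have hfix : ∀ g h w : Q, π ⁅h, w⁆ = π d → ∃ e : Bool, π ⁅g * (if e then h else 1), w⁆ = 1 := by
    intro g h w hw
    rcases hcommE g w with h1 | h1
    · exact ⟨false, by simpa using h1⟩
    · exact ⟨true, by simp only [if_true]; rw [hmulc, h1, hw, hddE]⟩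
  have hδ : ∀ a b : Q, ¬ Commute (π a) (π b) → π ⁅a, b⁆ = π d := fun a b h =>
    (hcommE a b).resolve_left fun h1 => h (commutatorElement_eq_one_iff_commute.mp (by rw [← map_commutatorElement]; exact h1))
  obtain ⟨y₁, hy₁, hy₁u⟩ : ∃ y, y ∉ M ∧ π ⁅y, u⁆ = 1 := by
    obtain ⟨e, he⟩ := hfix y₀ v u (hδ v u fun h => huv' h.symm)
    refine ⟨_, fun h => hy₀ ((M.mul_mem_cancel_right ?_).mp h), he⟩
    cases e <;> simp [hv]
  obtain ⟨y, hy, hyu, hyv⟩ : ∃ y, y ∉ M ∧ π ⁅y, u⁆ = 1 ∧ π ⁅y, v⁆ = 1 := by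
    obtain ⟨e, he⟩ := hfix y₁ u v (hδ u v huv')
    refine ⟨_, fun h => hy₁ ((M.mul_mem_cancel_right ?_).mp h), ?_, he⟩
    · cases e <;> simp [hu]
    · rw [hmulc, hy₁u, one_mul]
      cases e <;> simp [commutatorElement_def]
  have hyW : y ∈ W := by
    have hMy : M ≤ K y := by
      rw [← hMgen]
      refine sup_le (sup_le (hDK y) (Subgroup.zpowers_le.mpr ?_)) (Subgroup.zpowers_le.mpr ?_) <;> rw [hK]
      · exact (commutatorElement_eq_one_iff_commute.mp (by rw [← map_commutatorElement]; exact hyu)).symm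
      · exact (commutatorElement_eq_one_iff_commute.mp (by rw [← map_commutatorElement]; exact hyv)).symm
    rw [hWmem]
    intro g
    by_cases hg : g ∈ M
    · exact (hK y g).mp (hMy hg)
    · have h1 : y⁻¹ * g ∈ M := by
        rw [Subgroup.mul_mem_iff_of_index_two hMi]
        exact iff_of_false (fun h => hy (by simpa using M.inv_mem h)) hg
      rw [show π g = π y * π (y⁻¹ * g) by rw [← map_mul, mul_inv_cancel_left]]
      exact (Commute.refl _).mul_left ((hK y _).mp (hMy h1))
  have hWM : M ⊓ W = D := le_antisymm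
    (fun m hm => hcenter m hm.1 fun w _ => (hWmem m).mp hm.2 w)
    (le_inf hDM (by rw [hd, Subgroup.zpowers_le, hWmem]; exact hdcent))
  have hWidx : W.index = 4 := by
    have h1 := Subgroup.relIndex_mul_index (inf_le_right : M ⊓ W ≤ W)
    rw [Subgroup.inf_relIndex_right, hWM, hDidx] at h1
    have h2 : M.relIndex W ∣ 2 := hMi ▸ Subgroup.relIndex_dvd_index_of_normal M W
    rcases (Nat.dvd_prime Nat.prime_two).mp h2 with h | h
    · exact absurd (Subgroup.relIndex_eq_one.mp h hyW) hy
    · rw [h] at h1; omega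
  have hWX : ∀ X : Subgroup Q, X.index = 2 → ((∀ a ∈ X, ∀ b ∈ X, ⁅a, b⁆ ∈ E) ↔ W ≤ X) := by
    intro X hX
    constructor
    · intro hall
      by_contra hle
      obtain ⟨w, hw, hwX⟩ := SetLike.not_le_iff_exists.mp hle
      -- then everything commutes modulo `E`
      apply hdE
      have habel : ∀ a b : Q, Commute (π a) (π b) := by
        have hsplit : ∀ a, ∃ a' ∈ X, π a = π a' ∨ π a = π a' * π w := fun a => by
          by_cases ha : a ∈ X
          · exact ⟨a, ha, Or.inl rfl⟩
          · refine ⟨a * w⁻¹, ?_, Or.inr (by rw [← map_mul, inv_mul_cancel_right])⟩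
            rw [Subgroup.mul_mem_iff_of_index_two hX]
            exact iff_of_false ha (fun h => hwX (by simpa using X.inv_mem h))
        have hXX : ∀ a ∈ X, ∀ b ∈ X, Commute (π a) (π b) := fun a ha b hb => by
          rw [← commutatorElement_eq_one_iff_commute, ← map_commutatorElement]
          exact (QuotientGroup.eq_one_iff _).mpr (hall a ha b hb)
        intro a b
        have hwc := (hWmem w).mp hw
        obtain ⟨a', ha', ea | ea⟩ := hsplit a <;> obtain ⟨b', hb', eb | eb⟩ := hsplit b <;> rw [ea, eb]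
        · exact hXX a' ha' b' hb'
        · exact (hXX a' ha' b' hb').mul_right (hwc a')
        · exact (hXX a' ha' b' hb').mul_left (hwc b').symm
        · exact ((hXX a' ha' b' hb').mul_left (hwc b').symm).mul_right ((hwc a').mul_left (Commute.refl _))
      have hle2 : commutator Q ≤ E := by
        rw [commutator_def, Subgroup.commutator_le]
        intro a _ b _
        rw [← QuotientGroup.eq_one_iff]
        show π ⁅a, b⁆ = 1
        rw [map_commutatorElement]; exact commutatorElement_eq_one_iff_commute.mpr (habel a b)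
      exact hle2 (hQD ▸ hd ▸ Subgroup.mem_zpowers d)
    · intro hle a ha b hb
      rw [← QuotientGroup.eq_one_iff]
      show π ⁅a, b⁆ = 1
      rw [map_commutatorElement]
      refine commutatorElement_eq_one_iff_commute.mpr ?_
      obtain ⟨t, htX, htW⟩ : ∃ t ∈ X, t ∉ W := by
        by_contra h
        push Not at h
        have h1 := le_antisymm hle h
        rw [h1, hX] at hWidx
        omega
      have hgenX : W ⊔ Subgroup.zpowers t = X := by
        refine Subgroup.eq_of_le_of_card_ge (sup_le hle (Subgroup.zpowers_le.mpr htX)) ?_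
        have h1 := double_le (show W < W ⊔ Subgroup.zpowers t from lt_of_le_of_ne le_sup_left
          (fun h => htW (h ▸ Subgroup.mem_sup_right (Subgroup.mem_zpowers t))))
        have h2 := Subgroup.card_mul_index X
        have h3 := Subgroup.card_mul_index W
        rw [hX] at h2
        rw [hWidx, ← h2] at h3
        omega
      have hXt : ∀ w ∈ X, Commute (π w) (π t) := by
        have : X ≤ K t := by
          rw [← hgenX]
          exact sup_le (fun w hw => (hK t w).mpr ((hWmem w).mp hw t).symm)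
            (Subgroup.zpowers_le.mpr ((hK t t).mpr (Commute.refl _)))
        exact fun w hw => (hK t w).mp (this hw)
      have : X ≤ K a := by
        rw [← hgenX]
        exact sup_le (fun w hw => (hK a w).mpr ((hWmem w).mp hw a).symm)
          (Subgroup.zpowers_le.mpr ((hK a t).mpr (hXt a ha).symm))
      exact ((hK a b).mp (this hb)).symm
  -- count
  have htot := card_index_prime_modEq hQ hnc
  have hthree := card_above hQ hΦW (by rw [hWidx]; norm_num : W.index = 2 ^ 2)
  rw [Nat.card_eq_fintype_card, Fintype.card_subtype] at htot hthree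
  have hsplit := Finset.card_filter_add_card_filter_not
    (s := Finset.univ.filter fun X : Subgroup Q => X.index = 2) (fun X : Subgroup Q => W ≤ X)
  rw [Finset.filter_filter, Finset.filter_filter] at hsplit
  have e1 : (Finset.univ.filter fun X : Subgroup Q => X.index = 2 ∧ W ≤ X) =
      Finset.univ.filter fun X : Subgroup Q => W ≤ X ∧ X.index = 2 :=
    Finset.filter_congr fun X _ => and_comm
  have e2 : (Finset.univ.filter fun X : Subgroup Q => X.index = 2 ∧ ¬ W ≤ X) =
      Finset.univ.filter fun X : Subgroup Q => X.index = 2 ∧ MC X :=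
    Finset.filter_congr fun X _ => and_congr_right fun hX => by rw [hgood X hX, hWX X hX]
  rw [e1, hthree, e2] at hsplit
  rw [← hsplit, Nat.ModEq] at htot
  rw [Nat.even_iff]
  omega

theorem kulakoff_two_aux.{w} (n : ℕ) : ∀ (Q : Type w) [Group Q] [Finite Q],
    IsPGroup 2 Q → ¬ IsCyclic Q → Nat.card Q = 2 ^ n → ∀ a, 1 ≤ a → a < n →
      ((¬ MC Q ∨ a + 1 = n) → Nat.card {H : Subgroup Q // Nat.card H = 2 ^ a} ≡ 3 [MOD 4]) ∧
      (MC Q → a + 2 ≤ n → Nat.card {H : Subgroup Q // Nat.card H = 2 ^ a} ≡ 1 [MOD 4]) := by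
  induction n using Nat.strong_induction_on with
  | _ n ih =>
  intro Q _ _ hQ hnc hn a ha1 han
  haveI : Fact (Nat.Prime 2) := ⟨Nat.prime_two⟩
  classical
  have : Fintype (Subgroup Q) := Fintype.ofFinite _
  have htot : Nat.card {M : Subgroup Q // M.index = 2} ≡ 3 [MOD 4] := card_index_prime_modEq hQ hnc
  rcases (show a + 1 = n ∨ a + 2 ≤ n by omega) with rfl | ha2
  · refine ⟨fun _ => ?_, fun _ h => absurd h (by omega)⟩
    refine Eq.trans (congrArg (· % 4) (Nat.card_congr (Equiv.subtypeEquivRight fun H => ?_))) htot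
    constructor
    · intro h; rw [(index_of_card hn h).1, show a + 1 - a = 1 by omega, pow_one]
    · intro h
      rw [(card_of_index (p := 2) (j := 1) hn (by rw [pow_one]; exact h)).1, Nat.add_sub_cancel]
  set Ms := Finset.univ.filter fun M : Subgroup Q => M.index = 2 with hMs
  let bad : Subgroup Q → Prop := fun M => IsCyclic M ∨ (MC M ∧ a + 3 ≤ n)
  have hv : ∀ M ∈ Ms, Nat.card {H : Subgroup M // Nat.card H = 2 ^ a} ≡ (if bad M then 1 else 3) [MOD 4] := by
    intro M hM
    have hMc : Nat.card M = 2 ^ (n - 1) :=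
      (card_of_index (j := 1) hn (by rw [pow_one]; exact (Finset.mem_filter.mp hM).2)).1
    by_cases hc : IsCyclic M
    · rw [if_pos (show bad M from Or.inl hc), card_subgroups_cyclic hMc (by omega)]
    obtain ⟨i3, i1⟩ := ih (n - 1) (by omega) M (hQ.to_subgroup M) hc hMc a ha1 (by omega)
    by_cases hb : MC M ∧ a + 3 ≤ n
    · rw [if_pos (show bad M from Or.inr hb)]; exact i1 hb.1 (by omega)
    · rw [if_neg (show ¬ bad M from not_or.mpr ⟨hc, hb⟩)]
      by_cases hmc : MC M
      · exact i3 (Or.inr (by have h4 : ¬ a + 3 ≤ n := fun h => hb ⟨hmc, h⟩; omega))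
      · exact i3 (Or.inl hmc)
  have hrec : Nat.card {H : Subgroup Q // Nat.card H = 2 ^ a} + 2 ≡ ∑ M ∈ Ms, (if bad M then 1 else 3) [MOD 4] :=
    (recurrence (p := 2) hQ hnc hn ha2).trans (Nat.ModEq.sum hv)
  rw [Finset.sum_ite, Finset.sum_const, Finset.sum_const, smul_eq_mul, smul_eq_mul] at hrec
  have hrec2 : Nat.card {H : Subgroup Q // Nat.card H = 2 ^ a} + 2 ≡
      (Ms.filter bad).card * 1 + (Ms.filter fun M => ¬ bad M).card * 3 [MOD 4] := by convert hrec
  have hTB : (Ms.filter bad).card + (Ms.filter fun M => ¬ bad M).card = Ms.card :=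
    Finset.card_filter_add_card_filter_not _
  rw [Nat.card_eq_fintype_card, Fintype.card_subtype, ← hMs] at htot
  have key : (MC Q → (Ms.filter bad).card % 2 = 1) ∧ (¬ MC Q → (Ms.filter bad).card % 2 = 0) := by
    obtain ⟨hcy1, hcy2⟩ := cyclic_count hQ hnc hn (by omega)
    by_cases h3 : a + 3 ≤ n
    · refine ⟨fun hmc => ?_, fun hmc => ?_⟩
      · have hall : Ms.filter bad = Ms := Finset.filter_eq_self.mpr fun M hM => by
          by_cases hc : IsCyclic M
          · exact Or.inl hc
          · exact Or.inr ⟨mc_maximal hQ hn (by omega) hmc M (Finset.mem_filter.mp hM).2 hc, h3⟩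
        rw [hall]; unfold Nat.ModEq at htot; omega
      · have heven := mc_maximal_even hQ hnc hn (by omega) hmc
        have hcyc := hcy2 hmc
        have hu : Ms.filter bad = (Finset.univ.filter fun M : Subgroup Q => M.index = 2 ∧ IsCyclic M) ∪
            (Finset.univ.filter fun M : Subgroup Q => M.index = 2 ∧ MC M) := by
          ext M
          simp only [hMs, bad, h3, and_true, Finset.mem_filter, Finset.mem_univ, true_and, Finset.mem_union]
          tauto
        rw [hu, Finset.card_union_of_disjoint, ← Nat.even_iff]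
        · exact hcyc.add heven
        · rw [Finset.disjoint_filter]
          exact fun M _ h h' => mc_not_cyclic h'.2 h.2
    · have hu : Ms.filter bad = Finset.univ.filter fun M : Subgroup Q => M.index = 2 ∧ IsCyclic M := by
        rw [hMs, Finset.filter_filter]
        refine Finset.filter_congr fun M _ => and_congr_right fun _ => ?_
        exact ⟨fun h => h.resolve_right fun h' => h3 h'.2, Or.inl⟩
      rw [hu]
      exact ⟨fun h => Nat.odd_iff.mp (hcy1 h), fun h => Nat.even_iff.mp (hcy2 h)⟩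
  unfold Nat.ModEq at hrec2 htot ⊢
  refine ⟨fun h => ?_, fun h _ => ?_⟩
  · have := key.2 (h.resolve_right (by omega)); omega
  · have := key.1 h; omega

/-- Kulakoff for `2`-groups which are not of maximal class. -/
theorem kulakoff_two.{w} {Q : Type w} [Group Q] [Finite Q] {m : ℕ} (hn : Nat.card Q = 2 ^ m) (hnc : ¬ IsCyclic Q)
    (hclass : Group.nilpotencyClass Q ≠ m - 1) {k : ℕ} (hk1 : 1 ≤ k) (hk2 : k < m) :
    Nat.card {H : Subgroup Q // Nat.card H = 2 ^ k} ≡ 1 + 2 [MOD 2 ^ 2] := by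
  refine (kulakoff_two_aux m Q (IsPGroup.of_card hn) hnc hn k hk1 hk2).1 (Or.inl fun h => ?_)
  exact hclass (H6.nilpotencyClass_of_index_commutator_four m Q hn (by omega) h.2)

end H31.KulTwo
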