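import Cfsg.Agent.H31.QuasiCent
import Cfsg.Agent.H31.EngelExp
import Cfsg.Agent.H11.Regular

/-! `p`-th powers in subgroups of `p`-groups of maximal class. -/

set_option autoImplicit false
set_option linter.style.haveILetI false

namespace H31.MaxPow

open Subgroup
open scoped commutatorElement
open H30 (lcsT twoStep mem_twoStep)

universe u

variable {p : ℕ} [hp : Fact p.Prime]

theorem mem_of_map {G : Type u} [Group G] {f : ℕ} {j : ℕ} (hj : j ≤ f) {v : G}
    (hv : QuotientGroup.mk' (lcsT G f) v ∈ lcsT (G ⧸ lcsT G f) j) : v ∈ lcsT G j := by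
  rw [← H30.map_lcsT] at hv
  obtain ⟨w, hw, hwv⟩ := hv
  rw [QuotientGroup.mk'_apply, QuotientGroup.mk'_apply, QuotientGroup.eq] at hwv
  simpa using mul_mem hw (Subgroup.lowerCentralSeries_antitone _ hj hwv)

theorem twoStep_quotient {G : Type u} [Group G] {f j : ℕ} (hj : j + 2 ≤ f) {g : G} :
    QuotientGroup.mk' (lcsT G f) g ∈ twoStep (G ⧸ lcsT G f) j ↔ g ∈ twoStep G j := by
  rw [mem_twoStep, mem_twoStep]
  constructor
  · intro h x hx
    refine mem_of_map hj ?_
    rw [map_commutatorElement]
    exact h _ (by rw [← H30.map_lcsT]; exact mem_map_of_mem _ hx)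
  · intro h y hy
    rw [← H30.map_lcsT] at hy ⊢
    obtain ⟨x, hx, rfl⟩ := hy
    rw [← map_commutatorElement]
    exact mem_map_of_mem _ (h x hx)

/-- The two-step centralizers recur with period `p - 1`. -/
def Recur (G : Type u) [Group G] (p n : ℕ) : Prop :=
  ∀ i, 1 ≤ i → i + p + 2 ≤ n → twoStep G i ≤ twoStep G (i + (p - 1))

theorem avoid_all {G : Type u} [Group G] {n : ℕ} (hrec : Recur G p n) {s : G}
    (hs : ∀ j, 1 ≤ j → n ≤ j + p + 1 → j + 3 ≤ n → s ∉ twoStep G j) :
    ∀ j, 1 ≤ j → j + 3 ≤ n → s ∉ twoStep G j := by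
  have h2 := hp.out.two_le
  suffices key : ∀ d j, n ≤ j + d → 1 ≤ j → j + 3 ≤ n → s ∉ twoStep G j from
    fun j => key n j (by omega)
  intro d
  induction d with
  | zero => intro j hd hj hjn; omega
  | succ d ih =>
    intro j hd hj hjn hmem
    by_cases hn : n ≤ j + p + 1
    · exact hs j hj hn hjn hmem
    · exact ih (j + (p - 1)) (by omega) (by omega) (by omega) (hrec j hj (by omega) hmem)

variable {G : Type u} [Group G] [Finite G] {n : ℕ}

theorem exists_quasiCent_of_recur (h : H30.MaxCls G p n) (hn : 3 ≤ n) (hrec : Recur G p n) :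
    ∃ x, QuasiCent G p n x := by
  have h2 := hp.out.two_le
  have h1top : lcsT G 1 ≠ ⊤ := fun he => by
    have := h.lcs_index (i := 1) le_rfl (by omega)
    rw [he, index_top] at this
    exact (Nat.one_lt_pow two_ne_zero hp.out.one_lt).ne this
  obtain ⟨s, hs⟩ := H30.exists_avoiding h.isPGroup (insert 0 (Finset.Icc (max 1 (n - p - 1)) (n - 3)))
    (fun i => if i = 0 then lcsT G 1 else twoStep G i)
    ((Finset.card_insert_le _ _).trans (by rw [Nat.card_Icc]; omega))
    (fun i hi => by
      split_ifs with h0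
      · exact h1top
      · rw [Finset.mem_insert, Finset.mem_Icc] at hi
        exact h.twoStep_ne_top (by omega))
  have hs1 : s ∉ lcsT G 1 := by simpa using hs 0 (Finset.mem_insert_self _ _)
  have hall := avoid_all hrec (s := s) fun j hj hjn hj3 => by
    have := hs j (Finset.mem_insert_of_mem (Finset.mem_Icc.mpr ⟨by omega, by omega⟩))
    rwa [if_neg (by omega)] at this
  have hsc : s ^ p ∈ center G := h.lcs_pred_le_center
    (h.mem_of_commute (a := 1) le_rfl hall (h.pow_mem_lcs_one hn s) (Commute.pow_self s p))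
  refine ⟨s, h, hn, hsc, ?_⟩
  set C := centralizer ({s} : Set G) with hC
  have hsC : s ∈ C := mem_centralizer_singleton_iff.2 rfl
  have hinf : C ⊓ lcsT G 1 = lcsT G (n - 2) := by
    refine le_antisymm (fun y hy => h.mem_of_commute (a := 1) le_rfl hall hy.2
      (mem_centralizer_singleton_iff.1 hy.1)) (le_inf (fun y hy => ?_)
      (Subgroup.lowerCentralSeries_antitone _ (by omega)))
    exact mem_centralizer_singleton_iff.2 (mem_center_iff.1 (h.lcs_pred_le_center hy) s).symm
  have hcinf : Nat.card ↥(C ⊓ lcsT G 1) = p := by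
    rw [hinf, h.lcs_card (by omega) (by omega), show n - 1 - (n - 2) = 1 by omega, pow_one]
  have hsup : C ⊔ lcsT G 1 ≠ ⊤ := by
    intro he
    haveI := h.isPGroup.isNilpotent
    have hCtop : C = ⊤ := frattini_nongenerating (eq_top_iff.2 (he ▸ sup_le_sup le_rfl (by
      show (⊤ : Subgroup G).lowerCentralSeries 1 ≤ _
      rw [Subgroup.top_lowerCentralSeries_one]
      exact H31.commutator_le_frattini h.isPGroup)))
    have hsZ : s ∈ center G := mem_center_iff.2 fun g =>
      mem_centralizer_singleton_iff.1 (show g ∈ C by rw [hCtop]; trivial)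
    have hZ : center G = lcsT G (n - 2) := by
      refine (eq_of_le_of_card_ge h.lcs_pred_le_center ?_).symm
      rw [(H6.maximalClass_center hn h.card h.cls).1, h.lcs_card (by omega) (by omega),
        show n - 1 - (n - 2) = 1 by omega, pow_one]
    rw [hZ] at hsZ
    exact hs1 (Subgroup.lowerCentralSeries_antitone _ (show 1 ≤ n - 2 by omega) hsZ)
  have hle1 : Nat.card ↥(C ⊔ lcsT G 1) * p ≤ Nat.card G := by
    rw [mul_comm]
    exact (H30.card_mul_le_of_lt h.isPGroup (lt_top_iff_ne_top.2 hsup)).trans_eq card_top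
  have hmul : Nat.card ↥(C ⊔ lcsT G 1) * Nat.card ↥(C ⊓ lcsT G 1) = Nat.card C * Nat.card (lcsT G 1) := by
    have e1 : (⊥ : Subgroup G).relIndex (lcsT G 1) * (lcsT G 1).relIndex (C ⊔ lcsT G 1) =
        (⊥ : Subgroup G).relIndex (C ⊔ lcsT G 1) :=
      Subgroup.relIndex_mul_relIndex _ _ _ bot_le le_sup_right
    rw [Subgroup.relIndex_bot_left, Subgroup.relIndex_bot_left, Subgroup.relIndex_sup_right] at e1
    have e3 : Nat.card ((lcsT G 1).subgroupOf C) * (lcsT G 1).relIndex C = Nat.card C :=
      ((lcsT G 1).subgroupOf C).card_mul_index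
    have e4 : Nat.card ((lcsT G 1).subgroupOf C) = Nat.card ↥(C ⊓ lcsT G 1) := by
      rw [← Subgroup.inf_subgroupOf_right, inf_comm, Nat.card_congr (Subgroup.subgroupOfEquivOfLe inf_le_left).toEquiv]
    rw [← e1, ← e3, e4]; ring
  have hlt : C ⊓ lcsT G 1 < C := lt_of_le_of_ne inf_le_left fun e => hs1 (inf_eq_left.1 e hsC)
  have hge := H30.card_mul_le_of_lt h.isPGroup hlt
  rw [hcinf] at hge hmul
  refine le_antisymm ?_ (by rw [sq]; exact hge)
  rw [hmul, h.card, h.lcs_card le_rfl (by omega)] at hle1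
  have hpn : p ^ n = p ^ 2 * p ^ (n - 1 - 1) := by rw [← pow_add]; congr 1; omega
  rw [hpn] at hle1
  exact Nat.le_of_mul_le_mul_right hle1 (pow_pos hp.out.pos _)

theorem recur_all : ∀ (n : ℕ) (G : Type u) [Group G] [Finite G], H30.MaxCls G p n → Recur G p n := by
  intro n
  induction n using Nat.strong_induction_on with
  | _ n ih =>
    intro G _ _ h i hi hin
    have h2 := hp.out.two_le
    rcases Nat.lt_or_ge (i + p + 2) n with hlt | hge
    · intro g hg
      have hQ := h.quotient (r := i + p + 2) (by omega) (by omega)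
      rw [← twoStep_quotient (f := i + p + 2 - 1) (by omega)] at hg ⊢
      exact ih (i + p + 2) hlt _ hQ i hi le_rfl hg
    have hn : n = i + p + 2 := by omega
    obtain ⟨s, hs⟩ := H30.exists_avoiding h.isPGroup (Finset.Icc i (n - 3)) (fun j => twoStep G j)
      (by rw [Nat.card_Icc]; omega)
      (fun j hj => h.twoStep_ne_top (by rw [Finset.mem_Icc] at hj; omega))
    have hs' : ∀ d j, n ≤ j + d → 1 ≤ j → j + 3 ≤ n → s ∉ twoStep G j := by
      intro d
      induction d with
      | zero => intro j hd hj hjn; omega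
      | succ d ihd =>
        intro j hd hj hjn hmem
        by_cases hji : i ≤ j
        · exact hs j (Finset.mem_Icc.mpr ⟨hji, by omega⟩) hmem
        · refine ihd (j + (p - 1)) (by omega) (by omega) (by omega) ?_
          have hQ := h.quotient (r := j + p + 2) (by omega) (by omega)
          rw [← twoStep_quotient (f := j + p + 2 - 1) (by omega)] at hmem ⊢
          exact ih (j + p + 2) (by omega) _ hQ j hj le_rfl hmem
    have hall : ∀ j, 1 ≤ j → j + 3 ≤ n → s ∉ twoStep G j := fun j => hs' n j (by omega)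
    have hsc : s ^ p ∈ center G := h.lcs_pred_le_center
      (h.mem_of_commute (a := 1) le_rfl hall (h.pow_mem_lcs_one (by omega) s) (Commute.pow_self s p))
    have hexp := h.exponent_lcs (j := i + 2) (by omega) (by omega) (fun j hj hjn => hall j (by omega) hjn) hsc
    -- in the quotient by the last term the power map shifts
    have hQ := h.quotient (r := n - 1) (by omega) (by omega)
    obtain ⟨x, hx⟩ := exists_quasiCent_of_recur hQ (by omega) (ih (n - 1) (by omega) _ hQ)
    obtain ⟨a, ha, han⟩ : ∃ a, a ∈ lcsT G i ∧ a ∉ lcsT G (i + 1) :=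
      SetLike.not_le_iff_exists.1 (h.lcs_not_le (by omega))
    set f := QuotientGroup.mk' (lcsT G (n - 1 - 1)) with hf
    have hfa : f a ∈ lcsT (G ⧸ lcsT G (n - 1 - 1)) i := by rw [← H30.map_lcsT]; exact mem_map_of_mem _ ha
    have hfan : f a ∉ lcsT (G ⧸ lcsT G (n - 1 - 1)) (i + 1) := fun hc => han (mem_of_map (by omega) hc)
    have hap : a ^ p ∈ lcsT G (i + (p - 1)) := by
      refine mem_of_map (f := n - 1 - 1) (by omega) ?_
      rw [map_pow]; exact hx.pow_mem hi hfa
    have hapn : a ^ p ∉ lcsT G (i + (p - 1) + 1) := by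
      intro hc
      refine hx.pow_notMem hi hfa hfan (by omega) ?_
      rw [← map_pow, ← H30.map_lcsT]
      exact mem_map_of_mem _ hc
    intro g hg
    rw [mem_twoStep] at hg
    -- `g` commutes with `a ^ p`
    set c := ⁅g, a⁆ with hc
    have hcm : c ∈ lcsT G (i + 2) := by rw [hc, ← commutatorElement_inv]; exact inv_mem (hg a ha)
    set H := closure ({c, a} : Set G) with hH
    have hHi : H ≤ lcsT G i := (closure_le _).2 (by
      rintro y (rfl | rfl)
      · exact Subgroup.lowerCentralSeries_antitone _ (by omega) hcm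
      · exact ha)
    have hca : ⁅c, a⁆ ∈ lcsT G (2 * i + 3) := by
      have := H30.commutator_lcsT_le (i + 2) i (commutator_mem_commutator hcm ha)
      rwa [show i + 2 + i + 1 = 2 * i + 3 by ring] at this
    have hH1 : ⁅H, H⁆ ≤ lcsT G (2 * i + 3) := by
      haveI : (lcsT G (2 * i + 3)).Normal := inferInstance
      refine H11.commutator_closure_pair_le ?_ ?_ hca <;> rw [normalizer_eq_top_iff.2 inferInstance] <;> trivial
    have hlcsH : ∀ k, ((⊤ : Subgroup H).lowerCentralSeries (k + 1)).map H.subtype ≤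
        lcsT G (2 * i + 3 + k * (i + 1)) := by
      intro k
      induction k with
      | zero =>
        rw [zero_mul, add_zero, Subgroup.lowerCentralSeries_succ, Subgroup.lowerCentralSeries_zero, map_commutator,
          ← MonoidHom.range_eq_map, range_subtype]
        exact hH1
      | succ k ihk =>
        rw [Subgroup.lowerCentralSeries_succ, map_commutator, ← MonoidHom.range_eq_map, range_subtype]
        refine ((commutator_mono ihk hHi).trans (H30.commutator_lcsT_le _ _)).trans (le_of_eq ?_)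
        congr 1; ring
    have hcl : (⊤ : Subgroup H).lowerCentralSeries (p - 1) = ⊥ := by
      rw [show p - 1 = (p - 2) + 1 by omega, eq_bot_iff]
      intro w hw
      rw [mem_bot]
      refine Subtype.ext ?_
      have h1 := hlcsH (p - 2) (mem_map_of_mem H.subtype hw)
      have hi1 : p - 2 ≤ (p - 2) * (i + 1) := Nat.le_mul_of_pos_right _ (by omega)
      rw [h.lcs_bot (by omega), mem_bot] at h1
      exact h1
    have hexpH : ∀ w ∈ _root_.commutator H, w ^ p = 1 := by
      intro w hw
      refine Subtype.ext ?_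
      rw [SubgroupClass.coe_pow]
      refine hexp _ (Subgroup.lowerCentralSeries_antitone _ (show i + 2 ≤ 2 * i + 3 by omega) (hH1 ?_))
      have h1 := mem_map_of_mem H.subtype hw
      rwa [_root_.commutator_def, map_commutator, ← MonoidHom.range_eq_map, range_subtype] at h1
    have hpow := congrArg Subtype.val (H11.mul_pow_prime_of_small_class (p := p) hcl hexpH
      ⟨c, subset_closure (Or.inl rfl)⟩ ⟨a, subset_closure (Or.inr rfl)⟩)
    simp only [Subgroup.coe_mul, SubgroupClass.coe_pow] at hpow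
    rw [hexp c hcm, one_mul, show c * a = g * a * g⁻¹ by rw [hc, commutatorElement_def]; group, conj_pow] at hpow
    have hga : Commute (a ^ p) g := (mul_inv_eq_iff_eq_mul.1 hpow).symm
    rw [mem_twoStep]
    intro y hy
    obtain ⟨t, y', hy', rfl⟩ := h.exists_pow_mul (i := i + (p - 1)) (by omega) (by omega) hap hapn hy
    have hy'c : Commute y' g := (mem_center_iff.1 (h.lcs_pred_le_center (by
      rwa [show n - 2 = i + (p - 1) + 1 by omega])) g).symm
    rw [commutatorElement_eq_one_iff_commute.2 (hy'c.mul_left (hga.zpow_left t))]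
    exact one_mem _

theorem exists_quasiCent (h : H30.MaxCls G p n) (hn : 3 ≤ n) : ∃ x, QuasiCent G p n x :=
  exists_quasiCent_of_recur h hn (recur_all n G h)

/-- The subgroup generated by the `p`-th powers. -/
def powers (p : ℕ) (L : Subgroup G) : Subgroup G := closure {y : G | ∃ h ∈ L, y = h ^ p}

omit [Finite G] hp in
theorem powers_le (L : Subgroup G) : powers p L ≤ L :=
  (closure_le _).2 (by rintro _ ⟨a, ha, rfl⟩; exact pow_mem ha p)

omit [Finite G] hp in
theorem powers_mono {K L : Subgroup G} (h : K ≤ L) : powers p K ≤ powers p L :=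
  closure_mono (by rintro _ ⟨a, ha, rfl⟩; exact ⟨a, h ha, rfl⟩)

/-- A sup with one more element normalising and with `p`-th power inside. -/
theorem card_sup_zpowers_le {A : Subgroup G} {a : G} (hn : a ∈ normalizer (A : Set G)) (hap : a ^ p ∈ A) :
    Nat.card ↥(A ⊔ zpowers a) ≤ p * Nat.card A := by
  rw [show p * Nat.card A = Nat.card (A × Fin p) by rw [Nat.card_prod, Nat.card_fin, mul_comm]]
  refine Nat.card_le_card_of_surjective
    (fun q : A × Fin p => (⟨(q.1 : G) * a ^ (q.2 : ℕ),
      mul_mem (mem_sup_left q.1.2) (mem_sup_right (pow_mem (mem_zpowers a) _))⟩ : ↥(A ⊔ zpowers a))) ?_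
  rintro ⟨y, hy⟩
  obtain ⟨k, hk, t, rfl⟩ := (H30.mem_sup_zpowers hn).1 hy
  have hpz : (0 : ℤ) < p := by exact_mod_cast hp.out.pos
  refine ⟨(⟨k * (a ^ p) ^ (t / p), mul_mem hk (zpow_mem hap _)⟩,
    ⟨(t % p).toNat, by have := Int.emod_lt_of_pos t hpz; have := Int.emod_nonneg t hpz.ne'; omega⟩), Subtype.ext ?_⟩
  show k * (a ^ p) ^ (t / p) * a ^ (t % p).toNat = k * a ^ t
  rw [← zpow_natCast a (t % p).toNat, Int.toNat_of_nonneg (Int.emod_nonneg t hpz.ne'), mul_assoc,
    ← zpow_natCast a p, ← zpow_mul, ← zpow_add, Int.mul_ediv_add_emod]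

omit hp in
theorem mem_normalizer_powers {L : Subgroup G} {a : G} (ha : a ∈ L) : a ∈ normalizer (powers p L : Set G) := by
  apply Subgroup.mem_normalizer_fintype
  intro y hy
  have hle : powers p L ≤ (powers p L).comap (MulAut.conj a).toMonoidHom := (closure_le _).2 (by
    rintro _ ⟨b, hb, rfl⟩
    show a * b ^ p * a⁻¹ ∈ powers p L
    rw [← conj_pow]
    exact subset_closure ⟨_, mul_mem (mul_mem ha hb) (inv_mem ha), rfl⟩)
  exact hle hy

theorem card_le_lcs (h : H30.MaxCls G p n) (hn : 3 ≤ n) {L : Subgroup G} (hL : L ≤ lcsT G 1) :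
    Nat.card L ≤ p ^ (p - 1) * Nat.card (powers p L) := by
  classical
  obtain ⟨x, hx⟩ := exists_quasiCent h hn
  have h2 := hp.out.two_le
  let Jump : ℕ → Prop := fun i => 1 ≤ i ∧ ∃ k ∈ L, k ∈ lcsT G i ∧ k ∉ lcsT G (i + 1)
  let New : ℕ → Prop := fun i => Jump i ∧ ∀ j < i, Jump j → j % (p - 1) ≠ i % (p - 1)
  set A : ℕ → Subgroup G := fun i => powers p L ⊔ (L ⊓ lcsT G i) with hA
  have key : ∀ d i, n - 1 ≤ i + d → 1 ≤ i →
      Nat.card (A i) ≤ p ^ ((Finset.Ico i n).filter New).card * Nat.card (powers p L) := by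
    intro d
    induction d with
    | zero =>
      intro i hd hi
      show Nat.card ↥(powers p L ⊔ (L ⊓ lcsT G i)) ≤ _
      rw [h.lcs_bot (by omega), inf_bot_eq, sup_bot_eq]
      exact Nat.le_mul_of_pos_left _ (pow_pos hp.out.pos _)
    | succ d ih =>
      intro i hd hi
      by_cases hi2 : n - 1 ≤ i
      · exact ih i (by omega) hi
      have hnext := ih (i + 1) (by omega) (by omega)
      by_cases hle : L ⊓ lcsT G i ≤ A (i + 1)
      · refine (card_le_of_le (sup_le le_sup_left hle : A i ≤ A (i + 1))).trans (hnext.trans ?_)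
        refine Nat.mul_le_mul_right _ (Nat.pow_le_pow_right hp.out.pos (Finset.card_le_card ?_))
        exact Finset.filter_subset_filter _ (Finset.Ico_subset_Ico (by omega) le_rfl)
      obtain ⟨a, ⟨haL, hai⟩, haA⟩ := SetLike.not_le_iff_exists.1 hle
      have hai' : a ∉ lcsT G (i + 1) := fun hc => haA (mem_sup_right ⟨haL, hc⟩)
      have hnew : New i := by
        refine ⟨⟨hi, a, haL, hai, hai'⟩, fun j hji hj hmod => haA ?_⟩
        obtain ⟨hj1, b, hbL, hb1, hb2⟩ := hj
        obtain ⟨s, hs⟩ : p - 1 ∣ i - j := (Nat.modEq_iff_dvd' hji.le).1 hmod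
        have his : j + s * (p - 1) = i := by rw [mul_comm] at hs; omega
        obtain ⟨s, rfl⟩ : ∃ s', s = s' + 1 := ⟨s - 1, by
          rcases Nat.eq_zero_or_pos s with rfl | h0
          · omega
          · omega⟩
        obtain ⟨hl1, hl2⟩ := hx.pow_pow_mem hj1 hb1 hb2 (s + 1) (by omega)
        rw [his] at hl1 hl2
        obtain ⟨t, a', ha', hae⟩ := h.exists_pow_mul hi (by omega) hl1 hl2 hai
        have hbP : b ^ p ^ (s + 1) ∈ powers p L := by
          rw [pow_succ, pow_mul]
          exact subset_closure ⟨_, pow_mem hbL _, rfl⟩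
        have ha'L : a' ∈ L := by
          rw [eq_mul_inv_of_mul_eq hae]
          exact mul_mem haL (inv_mem (zpow_mem (powers_le L hbP) t))
        rw [← hae]
        exact mul_mem (mem_sup_right ⟨ha'L, ha'⟩) (mem_sup_left (zpow_mem hbP t))
      have hAi : A i ≤ A (i + 1) ⊔ zpowers a := by
        refine sup_le (le_sup_left.trans le_sup_left) fun y hy => ?_
        obtain ⟨t, y', hy', hye⟩ := h.exists_pow_mul hi (by omega) hai hai' hy.2
        have hy'L : y' ∈ L := by
          rw [eq_mul_inv_of_mul_eq hye]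
          exact L.mul_mem hy.1 (L.inv_mem (L.zpow_mem haL t))
        rw [← hye]
        exact mul_mem (mem_sup_left (mem_sup_right ⟨hy'L, hy'⟩)) (mem_sup_right (zpow_mem (mem_zpowers a) t))
      have hanorm : a ∈ normalizer (A (i + 1) : Set G) := by
        apply Subgroup.mem_normalizer_fintype
        intro y hy
        have hle2 : A (i + 1) ≤ (A (i + 1)).comap (MulAut.conj a).toMonoidHom := by
          refine sup_le (fun z hz => ?_) (fun z hz => ?_)
          · exact mem_sup_left ((mem_normalizer_iff.1 (mem_normalizer_powers haL) z).1 hz)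
          · exact mem_sup_right ⟨L.mul_mem (L.mul_mem haL hz.1) (L.inv_mem haL),
              (show (lcsT G (i + 1)).Normal from inferInstance).conj_mem z hz.2 a⟩
        exact hle2 hy
      refine ((card_le_of_le hAi).trans (card_sup_zpowers_le hanorm
        (mem_sup_left (subset_closure ⟨a, haL, rfl⟩)))).trans ((Nat.mul_le_mul_left p hnext).trans ?_)
      rw [← mul_assoc, ← pow_succ']
      refine Nat.mul_le_mul_right _ (Nat.pow_le_pow_right hp.out.pos ?_)
      rw [← Finset.card_insert_of_notMem (a := i) (fun hc => by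
        rw [Finset.mem_filter, Finset.mem_Ico] at hc; omega)]
      refine Finset.card_le_card fun j hj => ?_
      rw [Finset.mem_insert] at hj
      rcases hj with rfl | hj
      · exact Finset.mem_filter.2 ⟨Finset.mem_Ico.2 ⟨le_rfl, by omega⟩, hnew⟩
      · rw [Finset.mem_filter, Finset.mem_Ico] at hj ⊢
        exact ⟨⟨by omega, hj.1.2⟩, hj.2⟩
  have h1 := key n 1 (by omega) le_rfl
  rw [show A 1 = L from le_antisymm (sup_le (powers_le L) inf_le_left)
    (fun y hy => mem_sup_right ⟨hy, hL hy⟩)] at h1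
  refine h1.trans (Nat.mul_le_mul_right _ (Nat.pow_le_pow_right hp.out.pos ?_))
  refine (Finset.card_le_card_of_injOn (t := Finset.range (p - 1)) (fun i => i % (p - 1))
    (fun i _ => Finset.mem_range.2 (Nat.mod_lt _ (by omega))) ?_).trans (Finset.card_range _).le
  intro i hi j hj hij
  rw [Finset.mem_coe, Finset.mem_filter] at hi hj
  rcases lt_trichotomy i j with hlt | heq | hlt
  · exact absurd hij (hj.2.2 i hlt hi.2.1)
  · exact heq
  · exact absurd hij.symm (hi.2.2 j hlt hj.2.1)

/-- **The index of the subgroup of `p`-th powers.** -/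
theorem relIndex_powers_le (h : H30.MaxCls G p n) (H : Subgroup G) : (powers p H).relIndex H ≤ p ^ p := by
  have h2 := hp.out.two_le
  have hmul : Nat.card (powers p H) * (powers p H).relIndex H = Nat.card H := by
    rw [← Subgroup.relIndex_bot_left, ← Subgroup.relIndex_bot_left,
      Subgroup.relIndex_mul_relIndex _ _ _ bot_le (powers_le H)]
  have hrel : ∀ {B : ℕ}, Nat.card H ≤ B * Nat.card (powers p H) → (powers p H).relIndex H ≤ B := by
    intro B hB
    rw [← hmul, mul_comm] at hB
    exact Nat.le_of_mul_le_mul_right hB Nat.card_pos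
  rcases Nat.lt_or_ge n 3 with hn | hn
  · refine hrel ((card_le_card_group H).trans ?_)
    rw [h.card]
    exact (Nat.pow_le_pow_right hp.out.pos (show n ≤ p by omega)).trans (Nat.le_mul_of_pos_right _ Nat.card_pos)
  by_cases hH1 : H ≤ lcsT G 1
  · refine hrel ((card_le_lcs h hn hH1).trans (Nat.mul_le_mul_right _ (Nat.pow_le_pow_right hp.out.pos (by omega))))
  obtain ⟨h₀, hh₀, hh₀n⟩ := SetLike.not_le_iff_exists.1 hH1
  by_cases hH' : H ≤ lcsT G 1 ⊔ zpowers h₀
  · set L := H ⊓ lcsT G 1 with hLd
    have hnorm : h₀ ∈ normalizer (L : Set G) := by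
      apply Subgroup.mem_normalizer_fintype
      rintro y ⟨hy1, hy2⟩
      exact ⟨H.mul_mem (H.mul_mem hh₀ hy1) (H.inv_mem hh₀), (show (lcsT G 1).Normal from inferInstance).conj_mem y hy2 h₀⟩
    have hle : H ≤ L ⊔ zpowers h₀ := by
      intro y hy
      have hy' := hH' hy
      rw [H30.mem_sup_zpowers (by rw [normalizer_eq_top_iff.2 inferInstance]; trivial)] at hy'
      obtain ⟨k, hk, t, rfl⟩ := hy'
      refine mul_mem (mem_sup_left ⟨?_, hk⟩) (mem_sup_right (zpow_mem (mem_zpowers h₀) t))
      have := mul_mem hy (inv_mem (zpow_mem hh₀ t))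
      simpa using this
    refine hrel ((card_le_of_le hle).trans ((card_sup_zpowers_le hnorm
      ⟨pow_mem hh₀ p, h.pow_mem_lcs_one hn h₀⟩).trans ?_))
    refine (Nat.mul_le_mul_left p ((card_le_lcs h hn (L := L) inf_le_right).trans
      (Nat.mul_le_mul_left _ (card_le_of_le (powers_mono inf_le_left))))).trans ?_
    rw [← mul_assoc, ← pow_succ', show p - 1 + 1 = p by omega]
  obtain ⟨h₁, hh₁, hh₁n⟩ := SetLike.not_le_iff_exists.1 hH'
  have hsup : H ⊔ lcsT G 1 = ⊤ := by
    refine eq_top_of_le_card _ ?_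
    set L := lcsT G 1 ⊔ zpowers h₀
    have l1 : lcsT G 1 < L := lt_of_le_of_ne le_sup_left fun e =>
      hh₀n (e.ge (mem_sup_right (mem_zpowers h₀)))
    have l2 : L < H ⊔ lcsT G 1 :=
      lt_of_le_of_ne (sup_le le_sup_right (zpowers_le.2 (mem_sup_left hh₀)))
        fun e => hh₁n (e.ge (mem_sup_left hh₁))
    refine le_trans ?_ ((Nat.mul_le_mul_left p (H30.card_mul_le_of_lt h.isPGroup l1)).trans
      (H30.card_mul_le_of_lt h.isPGroup l2))
    rw [h.card, h.lcs_card le_rfl (by omega), ← pow_succ', ← pow_succ',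
      show n - 1 - 1 + 1 + 1 = n by omega]
  have htop : H = ⊤ := by
    haveI := h.isPGroup.isNilpotent
    refine frattini_nongenerating (eq_top_iff.2 (hsup ▸ sup_le_sup le_rfl ?_))
    show (⊤ : Subgroup G).lowerCentralSeries 1 ≤ _
    rw [Subgroup.top_lowerCentralSeries_one]
    exact H31.commutator_le_frattini h.isPGroup
  subst htop
  rw [Subgroup.relIndex_top_right]
  set P := powers p (⊤ : Subgroup G) with hP
  haveI hPn : P.Normal := ⟨fun y hy g => (mem_normalizer_iff.1 (mem_normalizer_powers (L := ⊤) (mem_top g)) y).1 hy⟩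
  have hd : P.index ∣ p ^ n := h.card ▸ P.index_dvd_card
  obtain ⟨r, hrn, hr⟩ := (Nat.dvd_prime_pow hp.out).1 hd
  rw [hr]
  refine Nat.pow_le_pow_right hp.out.pos ?_
  by_contra hlt
  push Not at hlt
  have heq : P = lcsT G (r - 1) := H11.maxClass_normal_eq h.card h.cls h.two_le P (by omega) hr
  have hQ := h.quotient (r := r) (by omega) hrn
  have := H31.Engel.exp_bound p hQ fun q => by
    obtain ⟨y, rfl⟩ := QuotientGroup.mk_surjective q
    rw [← QuotientGroup.mk_pow, QuotientGroup.eq_one_iff, ← heq]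
    exact subset_closure ⟨y, mem_top y, rfl⟩
  omega

end H31.MaxPow
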