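import Mathlib
import Cfsg.Prelude.Def_Transfer
import Cfsg.Agent.H33.TwoPrime
import Cfsg.Agent.H34.Solv
import Cfsg.Agent.H2.UniqueSubgroup
import Cfsg.Agent.H31.FpfThree

set_option autoImplicit false
set_option linter.style.haveILetI false

namespace H31.OrdersFour

open scoped commutatorElement

universe u

set_option linter.unusedSectionVars false

variable {G : Type u} [Group G] [Finite G]

/-- Hypothesis: element orders at most four. -/
def Small (G : Type u) [Group G] : Prop := ∀ x : G, 1 ≤ orderOf x ∧ orderOf x ≤ 4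

theorem cases_of_small (hs : Small G) (x : G) : x ^ 3 = 1 ∨ x ^ 4 = 1 := by
  obtain ⟨h1, h4⟩ := hs x
  rcases (show orderOf x = 1 ∨ orderOf x = 2 ∨ orderOf x = 3 ∨ orderOf x = 4 by omega) with h | h | h | h
  · left; rw [← orderOf_dvd_iff_pow_eq_one, h]; norm_num
  · right; rw [← orderOf_dvd_iff_pow_eq_one, h]; norm_num
  · left; rw [← orderOf_dvd_iff_pow_eq_one, h]
  · right; rw [← orderOf_dvd_iff_pow_eq_one, h]

theorem no_six (hs : Small G) {a b : G} (hab : Commute a b) (ha : a ^ 3 = 1) (hb : b ^ 4 = 1) :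
    a = 1 ∨ b = 1 := by
  by_contra h
  push Not at h
  have ha' : orderOf a = 3 := by
    haveI : Fact (Nat.Prime 3) := ⟨Nat.prime_three⟩
    exact orderOf_eq_prime ha h.1
  have hco : Nat.Coprime (orderOf a) (orderOf b) := by
    rw [ha']
    exact Nat.Coprime.coprime_dvd_right (orderOf_dvd_of_pow_eq_one hb) (by norm_num)
  have hb1 : 1 < orderOf b := by
    have := (hs b).1
    have h2 : orderOf b ≠ 1 := fun h2 => h.2 (orderOf_eq_one_iff.mp h2)
    omega
  have := (hs (a * b)).2
  rw [hab.orderOf_mul_eq_mul_orderOf_of_coprime hco, ha'] at this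
  omega

theorem inv_of_fixfree {V : Subgroup G} [V.Normal] {t : G} (ht : t ^ 2 = 1)
    (hf : ∀ v ∈ V, t * v = v * t → v = 1) {v : G} (hv : v ∈ V) : t * v * t = v⁻¹ := by
  have htt : t * t = 1 := by rw [← pow_two, ht]
  have hti : t⁻¹ = t := inv_eq_of_mul_eq_one_right htt
  have hm : ∀ w ∈ V, t * w * t ∈ V := fun w hw => by
    have := (inferInstance : V.Normal).conj_mem w hw t
    rwa [hti] at this
  let f : V → V := fun w => ⟨(w : G)⁻¹ * (t * w * t), V.mul_mem (V.inv_mem w.2) (hm w w.2)⟩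
  have hinj : Function.Injective f := by
    intro a b hab
    have h : (a : G)⁻¹ * (t * a * t) = (b : G)⁻¹ * (t * b * t) := congrArg Subtype.val hab
    apply Subtype.ext
    refine (mul_inv_eq_one.mp (hf _ (V.mul_mem b.2 (V.inv_mem a.2)) ?_)).symm
    have h' : (a : G)⁻¹ * t * a = (b : G)⁻¹ * t * b := by
      apply mul_right_cancel (b := t)
      simpa only [mul_assoc] using h
    calc t * ((b : G) * (a : G)⁻¹) = (b : G) * ((b : G)⁻¹ * t * b) * (a : G)⁻¹ := by group
      _ = (b : G) * (a : G)⁻¹ * t := by rw [← h']; group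
  obtain ⟨⟨w, hw⟩, hfw⟩ := Finite.injective_iff_surjective.mp hinj ⟨v, hv⟩
  have hvw : v = w⁻¹ * (t * w * t) := (congrArg Subtype.val hfw).symm
  rw [hvw, mul_inv_rev, inv_inv, mul_inv_rev, mul_inv_rev, hti]
  simp only [mul_assoc]
  rw [htt, mul_one]

theorem commute_of_sq_eq_one_all {H : Type*} [Group H] (h : ∀ x : H, x ^ 2 = 1) (x y : H) : x * y = y * x := by
  have hi : ∀ z : H, z⁻¹ = z := fun z => inv_eq_of_mul_eq_one_right (by rw [← pow_two, h z])
  calc x * y = (x * y)⁻¹ := (hi _).symm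
    _ = y * x := by rw [mul_inv_rev, hi, hi]

theorem nine_points {M : Type*} [CommGroup M] (a b c d g e i h f : M) (h1 : a * b * c = 1) (h2 : a * d * g = 1)
    (h3 : a * e * i = 1) (h4 : a * h * f = 1) (h5 : b * e * h = 1) (h6 : c * f * i = 1) : a * a * a = 1 := by
  have key : (a * a * a) * ((a * d * g) * (b * e * h) * (c * f * i)) =
      (a * b * c) * (a * d * g) * (a * e * i) * (a * h * f) := by ac_rfl
  rw [h1, h2, h3, h4, h5, h6] at key
  simpa using key

theorem central_triple {H : Type*} [Group H] (A B C Q : H) (hc : ∀ y, y * Q = Q * y) :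
    A * B * C * Q ^ 3 = A * Q * (B * Q) * (C * Q) := by
  have hc' : ∀ y, Commute Q y := fun y => (hc y).symm
  calc A * B * C * Q ^ 3 = A * B * (C * Q ^ 2) * Q := by group
    _ = A * B * (Q ^ 2 * C) * Q := by rw [((hc' C).pow_left 2).eq]
    _ = A * (B * Q) * Q * C * Q := by rw [pow_two]; simp only [mul_assoc]
    _ = A * (Q * B) * Q * C * Q := by rw [hc B]
    _ = A * Q * (B * Q) * (C * Q) := by group

/-- Quotient by an elementary abelian 3-subgroup containing its centralizer. -/
theorem three_case (hs : Small G) (h2 : ∃ t : G, orderOf t = 2) (h4 : ∃ t : G, orderOf t = 4)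
    (A : Subgroup G) [A.Normal] (hA : A ≠ ⊥) (hA3 : ∀ a ∈ A, a ^ 3 = 1) :
    ∃ (N : Subgroup G) (_ : N.Normal), Cfsg.IsElementaryAbelian 3 N ∧
      ((IsCyclic (G ⧸ N) ∧ N.index = 4) ∨ Nonempty (G ⧸ N ≃* QuaternionGroup 2)) := by
  haveI : Fact (Nat.Prime 2) := ⟨Nat.prime_two⟩
  obtain ⟨a, ha, ha1⟩ : ∃ a ∈ A, a ≠ 1 := by
    by_contra h; push Not at h; exact hA (eq_bot_iff.mpr fun x hx => Subgroup.mem_bot.mpr (h x hx))
  set V := Subgroup.centralizer (A : Set G) with hV
  have hV3 : ∀ v ∈ V, v ^ 3 = 1 := by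
    intro v hv
    rcases cases_of_small hs v with h | h
    · exact h
    · rcases no_six hs (show Commute a v from Subgroup.mem_centralizer_iff.mp hv a ha) (hA3 a ha) h with h' | h'
      · exact absurd h' ha1
      · rw [h', one_pow]
  have hinv : ∀ t : G, t ^ 2 = 1 → t ≠ 1 → ∀ v ∈ V, t * v * t = v⁻¹ := by
    intro t ht ht1 v hv
    refine inv_of_fixfree ht (fun w hw hc => ?_) hv
    exact (no_six hs (Commute.symm hc) (hV3 w hw) (by rw [show (4:ℕ) = 2 * 2 from rfl, pow_mul, ht, one_pow])).resolve_right ht1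
  obtain ⟨t, ht⟩ := h2
  have ht2 : t ^ 2 = 1 := by rw [← ht, pow_orderOf_eq_one]
  have ht1 : t ≠ 1 := fun h => by rw [h, orderOf_one] at ht; omega
  have htt : t * t = 1 := by rw [← pow_two, ht2]
  have hVc : ∀ v ∈ V, ∀ w ∈ V, v * w = w * v := by
    intro v hv w hw
    have h1 := hinv t ht2 ht1 _ (V.mul_mem hv hw)
    have h2 : t * (v * w) * t = (t * v * t) * (t * w * t) := by
      simp only [mul_assoc]; rw [← mul_assoc t t, htt, one_mul]
    rw [h2, hinv t ht2 ht1 v hv, hinv t ht2 ht1 w hw, ← mul_inv_rev, inv_inj] at h1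
    exact h1.symm
  have hAV : A ≤ V := by
    intro v hv
    rw [hV, Subgroup.mem_centralizer_iff]
    intro w hw
    have hti : t⁻¹ = t := inv_eq_of_mul_eq_one_right htt
    have hf : ∀ x ∈ A, t * x = x * t → x = 1 := fun x hx hc =>
      (no_six hs (Commute.symm hc) (hA3 x hx) (by rw [show (4:ℕ) = 2 * 2 from rfl, pow_mul, ht2, one_pow])).resolve_right ht1
    have h1 := inv_of_fixfree ht2 hf (A.mul_mem hv hw)
    have h2 : t * (v * w) * t = (t * v * t) * (t * w * t) := by
      simp only [mul_assoc]; rw [← mul_assoc t t, htt, one_mul]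
    rw [h2, inv_of_fixfree ht2 hf hv, inv_of_fixfree ht2 hf hw, ← mul_inv_rev, inv_inj] at h1
    exact h1
  refine ⟨V, inferInstance, ⟨⟨⟨fun x y => Subtype.ext (hVc _ x.2 _ y.2)⟩⟩, hV3⟩, ?_⟩
  have hCV : ∀ g : G, (∀ v ∈ V, g * v = v * g) → g ∈ V := fun g hg => by
    rw [hV, Subgroup.mem_centralizer_iff]; intro w hw; exact (hg w (hAV hw)).symm
  have hst : ∀ s : G, s ^ 2 = 1 → s ≠ 1 → (s : G ⧸ V) = (t : G ⧸ V) := by
    intro s hs2 hs1
    rw [QuotientGroup.eq]
    have hss : s * s = 1 := by rw [← pow_two, hs2]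
    rw [inv_eq_of_mul_eq_one_right hss]
    refine hCV _ fun v hv => ?_
    have e1 := hinv t ht2 ht1 v hv
    have e2 := hinv s hs2 hs1 _ (V.inv_mem hv)
    rw [inv_inv] at e2
    calc s * t * v = s * (t * v * t) * t := by simp only [mul_assoc]; rw [htt, mul_one]
      _ = s * v⁻¹ * s * (s * t) := by rw [e1]; simp only [mul_assoc]; rw [← mul_assoc s s, hss, one_mul]
      _ = v * (s * t) := by rw [e2]
  set f := QuotientGroup.mk' V with hf
  have htV : (t : G ⧸ V) ≠ 1 := fun h => ht1 (by
    have h3 := hV3 t ((QuotientGroup.eq_one_iff t).mp h)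
    rw [pow_succ, ht2, one_mul] at h3
    exact h3)
  have hinvol : ∀ q : G ⧸ V, q ^ 2 = 1 → q ≠ 1 → q = (t : G ⧸ V) := by
    intro q hq hq1
    obtain ⟨g, rfl⟩ := QuotientGroup.mk_surjective q
    rcases cases_of_small hs g with h | h
    · exfalso; apply hq1
      calc (g : G ⧸ V) = ((g : G ⧸ V) ^ 2) * ((g : G ⧸ V) ^ 2) * ((g : G ⧸ V) ^ 3)⁻¹ := by group
        _ = 1 := by rw [hq, ← QuotientGroup.mk_pow, h]; simp
    · have hg2 : g ^ 2 = 1 := by
        have h1 := hV3 _ ((QuotientGroup.eq_one_iff _).mp (hq ▸ QuotientGroup.mk_pow V g 2))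
        calc g ^ 2 = (g ^ 2) ^ 3 * (g ^ 4)⁻¹ := by group
          _ = 1 := by rw [h1, h, inv_one, mul_one]
      exact hst g hg2 (fun h1 => hq1 (by rw [h1]; rfl))
  have hq4 : ∀ q : G ⧸ V, q ^ 4 = 1 := by
    intro q
    obtain ⟨g, rfl⟩ := QuotientGroup.mk_surjective q
    rcases cases_of_small hs g with h | h
    swap
    · rw [← QuotientGroup.mk_pow, h]; rfl
    by_cases hg : (g : G ⧸ V) = 1
    · rw [hg, one_pow]
    exfalso
    -- an element of order six
    have hcomm : Commute (g : G ⧸ V) (t : G ⧸ V) := by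
      have h1 : (g : G ⧸ V) * (t : G ⧸ V) * (g : G ⧸ V)⁻¹ = (t : G ⧸ V) := by
        refine hinvol _ ?_ (fun h1 => htV (conj_eq_one_iff.mp h1))
        rw [conj_pow, ← QuotientGroup.mk_pow, ht2]
        simp
      exact mul_inv_eq_iff_eq_mul.mp h1
    haveI : Fact (Nat.Prime 3) := ⟨Nat.prime_three⟩
    have o3 : orderOf (g : G ⧸ V) = 3 := orderOf_eq_prime (by rw [← QuotientGroup.mk_pow, h]; rfl) hg
    have o2 : orderOf (t : G ⧸ V) = 2 := orderOf_eq_prime (by rw [← QuotientGroup.mk_pow, ht2]; rfl) htV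
    have o6 : orderOf ((g * t : G) : G ⧸ V) = 6 := by
      rw [QuotientGroup.mk_mul, hcomm.orderOf_mul_eq_mul_orderOf_of_coprime (by rw [o3, o2]; norm_num), o3, o2]
    have := Nat.le_of_dvd (hs (g * t)).1 (o6 ▸ orderOf_map_dvd f (g * t) : 6 ∣ orderOf (g * t))
    have := (hs (g * t)).2
    omega
  have hQ : IsPGroup 2 (G ⧸ V) := fun q => ⟨2, hq4 q⟩
  obtain ⟨s, hs4⟩ := h4
  have hsq : orderOf (s : G ⧸ V) = 4 := by
    refine orderOf_eq_prime_pow (p := 2) (n := 1) ?_ (hq4 _)
    intro h
    rw [pow_one, ← QuotientGroup.mk_pow, QuotientGroup.eq_one_iff] at h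
    have h1 := hV3 _ h
    have h2 : s ^ 2 = 1 := by
      calc s ^ 2 = (s ^ 2) ^ 3 * (s ^ orderOf s)⁻¹ := by rw [hs4]; group
        _ = 1 := by rw [h1, pow_orderOf_eq_one, inv_one, mul_one]
    have := Nat.le_of_dvd (by norm_num) (hs4 ▸ orderOf_dvd_of_pow_eq_one h2 : 4 ∣ 2)
    omega
  have huniq : ∀ H K : Subgroup (G ⧸ V), Nat.card H = 2 → Nat.card K = 2 → H = K := by
    have hH : ∀ H : Subgroup (G ⧸ V), Nat.card H = 2 → H = Subgroup.zpowers (t : G ⧸ V) := by
      intro H hH
      have hle : H ≤ Subgroup.zpowers (t : G ⧸ V) := by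
        intro q hq
        by_cases h1 : q = 1
        · rw [h1]; exact one_mem _
        · rw [hinvol q (by
            have := pow_card_eq_one' (x := (⟨q, hq⟩ : H))
            rw [hH] at this
            exact congrArg Subtype.val this) h1]
          exact Subgroup.mem_zpowers _
      refine Subgroup.eq_of_le_of_card_ge hle ?_
      rw [hH, Nat.card_zpowers]
      exact Nat.le_of_dvd (by norm_num) (orderOf_dvd_of_pow_eq_one (by rw [← QuotientGroup.mk_pow, ht2]; rfl))
    intro H K h1 h2
    rw [hH H h1, hH K h2]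
  rw [Subgroup.index_eq_card]
  rcases H2.cyclic_or_quaternion hQ huniq with hc | ⟨k, ⟨e⟩⟩
  · left
    refine ⟨hc, ?_⟩
    haveI := hc
    have h1 : Monoid.exponent (G ⧸ V) = Nat.card (G ⧸ V) := IsCyclic.exponent_eq_card
    have h2 : Monoid.exponent (G ⧸ V) ∣ 4 := Monoid.exponent_dvd_of_forall_pow_eq_one hq4
    have h3 : 4 ∣ Monoid.exponent (G ⧸ V) := hsq ▸ Monoid.order_dvd_exponent _
    rw [← h1]; exact Nat.dvd_antisymm h2 h3
  · haveI : NeZero (2 ^ k) := ⟨pow_ne_zero _ two_ne_zero⟩
    have hk : k ≤ 1 := by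
      have h1 := orderOf_dvd_of_pow_eq_one (hq4 (e.symm (QuaternionGroup.a 1)))
      rw [MulEquiv.orderOf_eq, QuaternionGroup.orderOf_a_one] at h1
      have h2 := Nat.le_of_dvd (by norm_num) h1
      by_contra hlt
      have : 2 ^ 2 ≤ 2 ^ k := Nat.pow_le_pow_right (by norm_num) (by omega)
      omega
    rcases (show k = 0 ∨ k = 1 by omega) with rfl | rfl
    · left
      have hc4 : Nat.card (G ⧸ V) = 4 := by
        rw [Nat.card_congr e.toEquiv, Nat.card_eq_fintype_card, QuaternionGroup.card]; rfl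
      exact ⟨isCyclic_of_orderOf_eq_card _ (hsq.trans hc4.symm), hc4⟩
    · exact Or.inr ⟨e⟩

/-- The case of a normal 2-subgroup. -/
theorem two_case (hs : Small G) (h3 : ∃ u : G, orderOf u = 3) (h4 : ∃ t : G, orderOf t = 4)
    (hprimes : ∀ r : ℕ, r.Prime → r ∣ Nat.card G → r = 2 ∨ r = 3)
    (A : Subgroup G) [A.Normal] (hA : A ≠ ⊥) (hAc : IsMulCommutative A) (hA2 : ∀ a ∈ A, a ^ 2 = 1) :
    ∃ (N : Subgroup G) (_ : N.Normal),
      (IsPGroup 2 N ∧ Monoid.exponent N = 4 ∧ Group.nilpotencyClass N ≤ 2 ∧ N.index = 3) ∨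
      (Cfsg.IsElementaryAbelian 2 N ∧ Nonempty (G ⧸ N ≃* Equiv.Perm (Fin 3))) := by
  haveI : Fact (Nat.Prime 2) := ⟨Nat.prime_two⟩
  haveI : Fact (Nat.Prime 3) := ⟨Nat.prime_three⟩
  classical
  obtain ⟨a, ha, ha1⟩ : ∃ a ∈ A, a ≠ 1 := by
    by_contra h; push Not at h; exact hA (eq_bot_iff.mpr fun x hx => Subgroup.mem_bot.mpr (h x hx))
  have hAcm : ∀ x ∈ A, ∀ y ∈ A, x * y = y * x := fun x hx y hy =>
    congrArg Subtype.val (hAc.is_comm.comm ⟨x, hx⟩ ⟨y, hy⟩)
  have hfpfA : ∀ w : G, w ^ 3 = 1 → w ≠ 1 → ∀ x ∈ A, w * x = x * w → x = 1 := fun w hw hw1 x hx hc =>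
    (no_six hs hc hw (by rw [show (4:ℕ) = 2 * 2 from rfl, pow_mul, hA2 x hx, one_pow])).resolve_left hw1
  -- orbit products vanish
  have horb : ∀ w : G, w ^ 3 = 1 → w ≠ 1 → ∀ x ∈ A, x * (w * x * w⁻¹) * (w ^ 2 * x * (w ^ 2)⁻¹) = 1 := by
    intro w hw hw1 x hx
    have m1 : w * x * w⁻¹ ∈ A := (inferInstance : A.Normal).conj_mem x hx w
    have m2 : w ^ 2 * x * (w ^ 2)⁻¹ ∈ A := (inferInstance : A.Normal).conj_mem x hx _
    refine hfpfA w hw hw1 _ (A.mul_mem (A.mul_mem hx m1) m2) ?_
    rw [← mul_inv_eq_iff_eq_mul]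
    calc w * (x * (w * x * w⁻¹) * (w ^ 2 * x * (w ^ 2)⁻¹)) * w⁻¹
        = (w * x * w⁻¹) * (w ^ 2 * x * (w ^ 2)⁻¹) * (w ^ 3 * x * (w ^ 3)⁻¹) := by group
      _ = (w * x * w⁻¹) * (w ^ 2 * x * (w ^ 2)⁻¹) * x := by rw [hw, one_mul, inv_one, mul_one]
      _ = x * (w * x * w⁻¹) * (w ^ 2 * x * (w ^ 2)⁻¹) :=
          (hAcm _ (A.mul_mem m1 m2) x hx).trans (mul_assoc x _ _).symm
  -- Sylow 3-subgroups have order three
  let P : Sylow 3 G := default
  have hP3 : ∀ x ∈ (P : Subgroup G), x ^ 3 = 1 := by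
    intro x hx
    rcases cases_of_small hs x with h | h
    · exact h
    · obtain ⟨k, hk⟩ := P.isPGroup' ⟨x, hx⟩
      have hk' : x ^ 3 ^ k = 1 := congrArg Subtype.val hk
      have h1 : orderOf x ∣ Nat.gcd (3 ^ k) 4 := Nat.dvd_gcd (orderOf_dvd_of_pow_eq_one hk') (orderOf_dvd_of_pow_eq_one h)
      rw [Nat.Coprime.gcd_eq_one (Nat.Coprime.pow_left _ (by norm_num)), Nat.dvd_one, orderOf_eq_one_iff] at h1
      rw [h1, one_pow]
  have hPcard : Nat.card P = 3 := by
    obtain ⟨u, hu⟩ := h3
    haveI : Nontrivial P := Finite.one_lt_card_iff_nontrivial.mp (by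
      have h1 : 3 ∣ Nat.card P := Sylow.dvd_card_of_dvd_card P (hu ▸ orderOf_dvd_natCard u)
      have := Nat.le_of_dvd Nat.card_pos h1
      omega)
    haveI := P.isPGroup'.center_nontrivial
    obtain ⟨⟨⟨z, hz⟩, hzc⟩, hz1⟩ := exists_ne (1 : Subgroup.center P)
    have hz1' : z ≠ 1 := fun h => hz1 (Subtype.ext (Subtype.ext h))
    have hz3 : orderOf z = 3 := orderOf_eq_prime (hP3 z hz) hz1'
    have hPz : (P : Subgroup G) = Subgroup.zpowers z := by
      refine le_antisymm (fun v hv => ?_) (Subgroup.zpowers_le.mpr hz)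
      by_contra hvz
      have hcv : Commute z v := (congrArg Subtype.val (Subgroup.mem_center_iff.mp hzc ⟨v, hv⟩)).symm
      have hv3 := hP3 v hv
      have hz3' := hP3 z hz
      have hne : ∀ i : ℕ, z ^ i * v ≠ 1 := fun i h => hvz (by
        rw [eq_inv_of_mul_eq_one_right h]; exact (Subgroup.zpowers z).inv_mem (Subgroup.npow_mem_zpowers z i))
      have hp3 : ∀ i : ℕ, (z ^ i * v) ^ 3 = 1 := fun i => by
        rw [(hcv.pow_left i).mul_pow, hv3, mul_one, ← pow_mul, mul_comm, pow_mul, hz3', one_pow]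
      letI : CommGroup A := { (inferInstance : Group A) with mul_comm := hAc.is_comm.comm }
      let T : ℕ → ℕ → A := fun i j => ⟨(z ^ i * v ^ j) * a * (z ^ i * v ^ j)⁻¹, (inferInstance : A.Normal).conj_mem a ha _⟩
      have hT : ∀ (w : G), w ^ 3 = 1 → w ≠ 1 → ∀ (x y q : A), (y : G) = w * x * w⁻¹ → (q : G) = w ^ 2 * x * (w ^ 2)⁻¹ → x * y * q = 1 := by
        intro w hw hw1 x y q hy hq
        apply Subtype.ext
        rw [Subgroup.coe_mul, Subgroup.coe_mul, hy, hq]
        exact horb w hw hw1 x x.2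
      have hmul : ∀ i j k l : ℕ, (z ^ i * v ^ j) * (z ^ k * v ^ l) = z ^ (i + k) * v ^ (j + l) := fun i j k l => by
        rw [pow_add, pow_add]
        simp only [mul_assoc]
        rw [← mul_assoc (v ^ j), ((hcv.pow_pow k j).symm).eq, mul_assoc]
      have hTw : ∀ i j k l : ℕ, ((T (i + k) (j + l) : A) : G) = (z ^ i * v ^ j) * (T k l : A) * (z ^ i * v ^ j)⁻¹ := by
        intro i j k l
        show z ^ (i + k) * v ^ (j + l) * a * (z ^ (i + k) * v ^ (j + l))⁻¹ = _
        rw [← hmul]
        show _ = z ^ i * v ^ j * (z ^ k * v ^ l * a * (z ^ k * v ^ l)⁻¹) * (z ^ i * v ^ j)⁻¹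
        group
      have hT3 : ∀ i j, T (i + 3) j = T i j ∧ T i (j + 3) = T i j := by
        intro i j
        constructor <;> apply Subtype.ext
        · show z ^ (i + 3) * v ^ j * a * (z ^ (i + 3) * v ^ j)⁻¹ = _
          rw [pow_add, hz3', mul_one]
        · show z ^ i * v ^ (j + 3) * a * (z ^ i * v ^ (j + 3))⁻¹ = _
          rw [pow_add, hv3, mul_one]
      -- lines through the origin
      have key : ∀ i j : ℕ, (z ^ i * v ^ j) ^ 3 = 1 → z ^ i * v ^ j ≠ 1 → ∀ k l, T k l * T (i + k) (j + l) * T (i + (i + k)) (j + (j + l)) = 1 := by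
        intro i j h1 h2 k l
        refine hT _ h1 h2 _ _ _ (hTw i j k l) ?_
        rw [hTw, hTw, pow_two]
        group
      have l1 := key 1 0 (by rw [pow_zero, mul_one, pow_one]; exact hz3') (by rw [pow_zero, mul_one, pow_one]; exact hz1')
      have l2 := key 0 1 (by rw [pow_zero, one_mul, pow_one]; exact hv3) (by rw [pow_zero, one_mul, pow_one]; exact fun h => hvz (h ▸ one_mem _))
      have l3 := key 1 1 (by rw [pow_one v]; exact hp3 1) (by rw [pow_one v]; exact hne 1)
      have l4 := key 2 1 (by rw [pow_one v]; exact hp3 2) (by rw [pow_one v]; exact hne 2)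
      have a1 := l2 0 0
      have a2 := l1 0 1
      have a3 := l1 0 2
      have a4 := l1 0 0
      have a5 := l3 0 0
      have a6 := l4 0 0
      have t42 : T 4 2 = T 1 2 := (hT3 1 2).1
      norm_num at a1 a2 a3 a4 a5 a6
      rw [t42] at a6
      have hcube : T 0 0 * T 0 0 * T 0 0 = 1 := nine_points _ _ _ _ _ _ _ _ _ a1 a4 a5 a6 a2 a3
      apply ha1
      have h1 : (T 0 0 : A) = ⟨a, ha⟩ := Subtype.ext (by show z ^ 0 * v ^ 0 * a * (z ^ 0 * v ^ 0)⁻¹ = a; simp)
      rw [h1] at hcube
      have hcube' : a * a * a = 1 := congrArg Subtype.val hcube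
      rwa [← pow_two, hA2 a ha, one_mul] at hcube'
    show Nat.card (P : Subgroup G) = 3
    rw [hPz, Nat.card_zpowers, hz3]
  -- order of the group
  let T : Sylow 2 G := default
  have hT3 : (T : Subgroup G).index = 3 := by
    have h2 := T.not_dvd_index
    have hd : (T : Subgroup G).index ∣ Nat.card G := Subgroup.index_dvd_card _
    have hi0 : (T : Subgroup G).index ≠ 0 := Subgroup.FiniteIndex.index_ne_zero
    have hpow : (T : Subgroup G).index = 3 ^ (T : Subgroup G).index.factorization 3 := by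
      refine Nat.eq_pow_of_factorization_eq_single hi0 ?_
      ext r
      rw [Finsupp.single_apply]
      split_ifs with hr
      · rw [← hr]
      · by_contra hne
        have hr' : r ∈ (T : Subgroup G).index.factorization.support := Finsupp.mem_support_iff.mpr hne
        rw [Nat.support_factorization, Nat.mem_primeFactors] at hr'
        rcases hprimes r hr'.1 (hr'.2.1.trans hd) with rfl | rfl
        · exact h2 hr'.2.1
        · exact hr rfl
    have hG3 : (Nat.card G).factorization 3 = 1 := by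
      have := P.card_eq_multiplicity
      rw [hPcard] at this
      exact (Nat.pow_right_injective (le_refl 2 |>.trans (by norm_num : 2 ≤ 3)) (by simpa using this)).symm
    rw [hpow]
    have hle : (T : Subgroup G).index.factorization 3 ≤ 1 := hG3 ▸
      (Nat.factorization_le_iff_dvd hi0 Nat.card_pos.ne').mpr hd 3
    have hge : 3 ∣ (T : Subgroup G).index := by
      obtain ⟨u, hu⟩ := h3
      have hdvd : 3 ∣ Nat.card (T : Subgroup G) * (T : Subgroup G).index := by
        rw [Subgroup.card_mul_index]; exact hu ▸ orderOf_dvd_natCard u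
      refine (Nat.prime_three.dvd_mul.mp hdvd).resolve_left fun h => ?_
      obtain ⟨k, hk⟩ := IsPGroup.iff_card.mp T.isPGroup'
      rw [hk] at h
      exact absurd (Nat.le_of_dvd (by norm_num) (Nat.prime_three.dvd_of_dvd_pow h)) (by norm_num)
    have : (T : Subgroup G).index.factorization 3 ≠ 0 := fun h => by
      rw [hpow, h] at hge; norm_num at hge
    rw [show (T : Subgroup G).index.factorization 3 = 1 by omega, pow_one]
  set N := (T : Subgroup G).normalCore with hN
  have hNT : N ≤ T := Subgroup.normalCore_le _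
  have hN2 : IsPGroup 2 N := T.isPGroup'.to_le hNT
  let φ := MulAction.toPermHom G (G ⧸ (T : Subgroup G))
  have hker : φ.ker = N := (Subgroup.normalCore_eq_ker _).symm
  let e3 : (G ⧸ (T : Subgroup G)) ≃ Fin 3 := Nat.equivFinOfCardPos (by rw [← Subgroup.index_eq_card, hT3]; norm_num) |>.trans
    (finCongr (by rw [← Subgroup.index_eq_card, hT3]))
  have hcardPerm : Nat.card (Equiv.Perm (G ⧸ (T : Subgroup G))) = 6 := by
    rw [Nat.card_congr e3.permCongr, Nat.card_eq_fintype_card, Fintype.card_perm]; rfl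
  have hidx6 : N.index ∣ 6 := by
    rw [← hker, Subgroup.index_ker, ← hcardPerm]
    exact Subgroup.card_subgroup_dvd_card _
  have hidx3 : 3 ∣ N.index := hT3 ▸ Subgroup.index_dvd_of_le hNT
  -- a fixed-point-free element
  obtain ⟨u, hu⟩ := h3
  have hu3 : u ^ 3 = 1 := by rw [← hu, pow_orderOf_eq_one]
  have hu1 : u ≠ 1 := fun h => by rw [h, orderOf_one] at hu; omega
  have hN4 : ∀ x ∈ N, x ^ 4 = 1 := by
    intro x hx
    rcases cases_of_small hs x with h | h
    · obtain ⟨k, hk⟩ := hN2 ⟨x, hx⟩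
      have hk' : x ^ 2 ^ k = 1 := congrArg Subtype.val hk
      have h1 : orderOf x ∣ Nat.gcd (2 ^ k) 3 := Nat.dvd_gcd (orderOf_dvd_of_pow_eq_one hk') (orderOf_dvd_of_pow_eq_one h)
      rw [Nat.Coprime.gcd_eq_one (Nat.Coprime.pow_left _ (by norm_num)), Nat.dvd_one, orderOf_eq_one_iff] at h1
      rw [h1, one_pow]
    · exact h
  have hufix : ∀ x ∈ N, u * x = x * u → x = 1 := fun x hx hc =>
    (no_six hs hc hu3 (hN4 x hx)).resolve_left hu1
  set α : MulAut N := MulAut.conjNormal u with hα
  have hα3 : α ^ 3 = 1 := by rw [hα, ← map_pow, hu3, map_one]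
  have hαf : ∀ x, α x = x → x = 1 := fun x hx => by
    have h1 := congrArg Subtype.val hx
    rw [hα, MulAut.conjNormal_apply, mul_inv_eq_iff_eq_mul] at h1
    exact Subtype.ext (hufix x x.2 h1)
  have htor : ∀ x : N, x ^ 3 = 1 → x = 1 := fun x hx => by
    have h4 : x ^ 4 = 1 := Subtype.ext (hN4 x x.2)
    rwa [pow_succ, hx, one_mul] at h4
  have hcen := H31.FpfThree.commutator_mem_center_of_fpf α hα3 hαf htor
  haveI : Group.IsNilpotent N := hN2.isNilpotent
  have hclass : Group.nilpotencyClass N ≤ 2 := by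
    rw [← upperCentralSeries_eq_top_iff_nilpotencyClass_le, eq_top_iff]
    intro x _
    rw [mem_upperCentralSeries_succ_iff]
    intro y
    rw [upperCentralSeries_one]
    exact hcen x y
  refine ⟨N, inferInstance, ?_⟩
  rcases (show N.index = 3 ∨ N.index = 6 by
    have := Nat.le_of_dvd (by norm_num) hidx6
    have := N.index_ne_zero_of_finite
    obtain ⟨c, hc⟩ := hidx3
    omega) with hi | hi
  · left
    refine ⟨hN2, ?_, hclass, hi⟩
    obtain ⟨s, hs4⟩ := h4
    have hsN : s ∈ N := by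
      have h1 : (s : G ⧸ N) ^ 3 = 1 := by
        rw [← hi, Subgroup.index_eq_card]; exact pow_card_eq_one'
      have h2 : (s : G ⧸ N) ^ 4 = 1 := by
        rw [← QuotientGroup.mk_pow, ← hs4, pow_orderOf_eq_one]; rfl
      rw [pow_succ, h1, one_mul] at h2
      exact (QuotientGroup.eq_one_iff s).mp h2
    refine Nat.dvd_antisymm (Monoid.exponent_dvd_of_forall_pow_eq_one fun x => Subtype.ext (hN4 x x.2)) ?_
    have h1 := Monoid.order_dvd_exponent (⟨s, hsN⟩ : N)
    rwa [Subgroup.orderOf_mk, hs4] at h1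
  · right
    -- the quotient is the symmetric group
    have hsurj : Function.Surjective φ := by
      rw [← MonoidHom.range_eq_top]
      refine Subgroup.eq_top_of_card_eq _ ?_
      rw [← Subgroup.index_ker, hker, hi, hcardPerm]
    have iso : G ⧸ N ≃* Equiv.Perm (Fin 3) :=
      ((QuotientGroup.quotientMulEquivOfEq hker.symm).trans
        (QuotientGroup.quotientKerEquivOfSurjective φ hsurj)).trans e3.permCongrHom
    refine ⟨?_, ⟨iso⟩⟩
    -- an involution inverting `u`
    have huN : u ∉ N := fun h => hu1 (hufix u h rfl)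
    set U := Subgroup.zpowers u with hU
    obtain ⟨t, ht2, htu⟩ : ∃ t : G, t ^ 2 = 1 ∧ t * u * t = u⁻¹ := by
      obtain ⟨q, hq⟩ : ∃ q : G ⧸ N, orderOf q = 2 := exists_prime_orderOf_dvd_card' 2 (by
        rw [← Subgroup.index_eq_card, hi]; norm_num)
      obtain ⟨g, rfl⟩ := QuotientGroup.mk_surjective q
      -- `g` conjugates `u` to a generator of some Sylow 3-subgroup inside `N U`
      set M := Subgroup.zpowers u ⊔ N with hM
      have hcardU : Nat.card U = 3 := by rw [hU, Nat.card_zpowers, hu]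
      haveI hMn : M.Normal := by
        have h1 : (M.map (QuotientGroup.mk' N)).Normal := by
          refine Subgroup.normal_of_index_eq_two ?_
          rw [hM, Subgroup.map_sup, QuotientGroup.map_mk'_self, sup_bot_eq, MonoidHom.map_zpowers]
          have h3' : orderOf ((QuotientGroup.mk' N) u) = 3 := orderOf_eq_prime
            (by rw [← map_pow, hu3, map_one]) (fun h => huN ((QuotientGroup.eq_one_iff u).mp h))
          have h6 : Nat.card (G ⧸ N) = 6 := by rw [← Subgroup.index_eq_card, hi]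
          have := Subgroup.card_mul_index (Subgroup.zpowers ((QuotientGroup.mk' N) u))
          rw [Nat.card_zpowers, h3', h6] at this
          omega
        have h2 : M = (M.map (QuotientGroup.mk' N)).comap (QuotientGroup.mk' N) := by
          rw [Subgroup.comap_map_eq, QuotientGroup.ker_mk', sup_eq_left.mpr le_sup_right]
        rw [h2]; exact h1.comap _
      have huM : u ∈ M := (le_sup_left : Subgroup.zpowers u ≤ M) (Subgroup.mem_zpowers u)
      have hPU : ∀ Q : Sylow 3 M, Nat.card Q = 3 := by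
        intro Q
        have h1 : 3 ∣ Nat.card Q := Sylow.dvd_card_of_dvd_card Q (by
          rw [← hu, ← Subgroup.orderOf_mk u huM]; exact orderOf_dvd_natCard _)
        obtain ⟨Q', hQ'⟩ := (Q.isPGroup'.map M.subtype).exists_le_sylow
        have h2 : Nat.card (Q : Subgroup M) ≤ 3 := by
          rw [← Subgroup.card_map_of_injective M.subtype_injective]
          calc Nat.card ((Q : Subgroup M).map M.subtype) ≤ Nat.card (Q' : Subgroup G) := Subgroup.card_le_of_le hQ'
            _ = Nat.card P := Nat.card_congr (Q'.equiv P).toEquiv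
            _ = 3 := hPcard
        have := Nat.le_of_dvd Nat.card_pos h1
        exact le_antisymm h2 this
      have hUM : U ≤ M := le_sup_left
      obtain ⟨Q, hQ⟩ := (IsPGroup.of_card (n := 1) (by rw [pow_one]; rw [Nat.card_congr (Subgroup.subgroupOfEquivOfLe hUM).toEquiv, hcardU]) : IsPGroup 3 (U.subgroupOf M)).exists_le_sylow
      have hQU : (Q : Subgroup M).map M.subtype = U := by
        have h1 : U.subgroupOf M = Q := Subgroup.eq_of_le_of_card_ge hQ (by
          rw [hPU Q, Nat.card_congr (Subgroup.subgroupOfEquivOfLe hUM).toEquiv, hcardU])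
        rw [← h1, Subgroup.map_subgroupOf_eq_of_le hUM]
      have hFr := Sylow.normalizer_sup_eq_top Q
      rw [hQU] at hFr
      -- some normalizing element lies outside `M`
      have hgM : g ∉ M := by
        intro hgM
        have h1 : (g : G ⧸ N) ∈ M.map (QuotientGroup.mk' N) := ⟨g, hgM, rfl⟩
        rw [hM, Subgroup.map_sup, QuotientGroup.map_mk'_self, sup_bot_eq, MonoidHom.map_zpowers] at h1
        have h2 := orderOf_dvd_of_mem_zpowers h1
        rw [hq] at h2
        have h3' : orderOf ((QuotientGroup.mk' N) u) ∣ 3 := orderOf_dvd_of_pow_eq_one (by rw [← map_pow, hu3, map_one])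
        exact absurd (h2.trans h3') (by norm_num)
      obtain ⟨n, hn, hnM⟩ : ∃ n ∈ Subgroup.normalizer (U : Set G), n ∉ M := by
        by_contra h
        push Not at h
        exact hgM ((sup_le h le_rfl : _ ≤ M) (hFr ▸ Subgroup.mem_top g))
      have hnu : n * u * n⁻¹ ∈ U := (Subgroup.mem_normalizer_iff.mp hn u).mp (Subgroup.mem_zpowers u)
      obtain ⟨k, hk⟩ := Subgroup.mem_zpowers_iff.mp hnu
      have hk3 : u ^ k = u ∨ u ^ k = u⁻¹ := by
        have hmod : u ^ k = u ^ (k % 3) := by
          conv_lhs => rw [← Int.mul_ediv_add_emod k 3, zpow_add, zpow_mul, show u ^ (3 : ℤ) = 1 by rw [zpow_ofNat, hu3], one_zpow, one_mul]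
        rcases (show k % 3 = 0 ∨ k % 3 = 1 ∨ k % 3 = 2 by omega) with h | h | h
        · exfalso
          rw [hmod, h, zpow_zero] at hk
          exact hu1 (conj_eq_one_iff.mp hk.symm)
        · left; rw [hmod, h, zpow_one]
        · right; rw [hmod, h, zpow_ofNat]
          exact eq_inv_of_mul_eq_one_left (by rw [← pow_succ, hu3])
      rw [hk] at hk3
      have hnu' : n * u * n⁻¹ = u⁻¹ := by
        rcases hk3 with h | h
        · exfalso
          have hc : Commute u n := (mul_inv_eq_iff_eq_mul.mp h).symm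
          rcases cases_of_small hs n with h3' | h4'
          · apply hnM
            have h1 : (n : G ⧸ N) ∈ M.map (QuotientGroup.mk' N) := by
              have hco : Nat.Coprime 3 (M.map (QuotientGroup.mk' N)).index := by
                have h6 : Nat.card (G ⧸ N) = 6 := by rw [← Subgroup.index_eq_card, hi]
                have := Subgroup.card_mul_index (M.map (QuotientGroup.mk' N))
                have h3'' : Nat.card (M.map (QuotientGroup.mk' N)) = 3 := by
                  rw [hM, Subgroup.map_sup, QuotientGroup.map_mk'_self, sup_bot_eq, MonoidHom.map_zpowers, Nat.card_zpowers]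
                  exact orderOf_eq_prime (by rw [← map_pow, hu3, map_one]) (fun h => huN ((QuotientGroup.eq_one_iff u).mp h))
                rw [h3'', h6] at this
                rw [show (M.map (QuotientGroup.mk' N)).index = 2 by omega]; norm_num
              haveI : (M.map (QuotientGroup.mk' N)).Normal := hMn.map _ (QuotientGroup.mk'_surjective N)
              rw [← QuotientGroup.eq_one_iff (N := M.map (QuotientGroup.mk' N)), ← orderOf_eq_one_iff, ← Nat.dvd_one, ← hco.gcd_eq_one]
              refine Nat.dvd_gcd (orderOf_dvd_of_pow_eq_one ?_) ?_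
              · rw [← QuotientGroup.mk_pow, ← QuotientGroup.mk_pow, h3']; rfl
              · rw [Subgroup.index_eq_card]; exact orderOf_dvd_natCard _
            obtain ⟨m, hm, hmn⟩ := h1
            have h2 : m⁻¹ * n ∈ M := (le_sup_right : N ≤ M) (QuotientGroup.eq.mp hmn)
            have := M.mul_mem hm h2
            rwa [mul_inv_cancel_left] at this
          · rcases no_six hs hc hu3 h4' with h' | h'
            · exact hu1 h'
            · exact hnM (h' ▸ one_mem M)
        · exact h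
      have hn2 : n ^ 2 = 1 := by
        have hc2 : Commute u (n ^ 2) := by
          have : n ^ 2 * u * (n ^ 2)⁻¹ = u := by
            rw [pow_two, show n * n * u * (n * n)⁻¹ = n * (n * u * n⁻¹) * n⁻¹ by group, hnu', ← conj_inv, hnu', inv_inv]
          exact (mul_inv_eq_iff_eq_mul.mp this).symm
        rcases cases_of_small hs n with h3' | h4'
        · exfalso
          have h4 : n ^ 2 = n⁻¹ := eq_inv_of_mul_eq_one_left (by rw [← pow_succ, h3'])
          rw [h4] at hc2
          have h5 : n * u * n⁻¹ = u := mul_inv_eq_iff_eq_mul.mpr (Commute.inv_right_iff.mp hc2).eq.symm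
          rw [hnu', inv_eq_iff_mul_eq_one, ← pow_two] at h5
          exact hu1 (by rw [pow_succ, h5, one_mul] at hu3; exact hu3)
        · exact (no_six hs hc2 hu3 (by rw [← pow_mul, show 2 * 4 = 4 * 2 from rfl, pow_mul, h4', one_pow])).resolve_left hu1
      exact ⟨n, hn2, by rwa [inv_eq_of_mul_eq_one_right (show n * n = 1 by rw [← pow_two, hn2])] at hnu'⟩
    have htt : t * t = 1 := by rw [← pow_two, ht2]
    have ht' : t⁻¹ = t := inv_eq_of_mul_eq_one_right htt
    -- conjugation by the involutions `t uⁱ`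
    have hτ2 : ∀ i : ℕ, (t * u ^ i) * (t * u ^ i) = 1 := by
      intro i
      have h1 : t * u ^ i * t = (u⁻¹) ^ i := by
        have := conj_pow (i := i) (a := t) (b := u)
        rw [ht', htu] at this
        exact this.symm
      rw [← mul_assoc, h1, inv_pow, inv_mul_cancel]
    have hout : ∀ i : ℕ, t * u ^ i ∉ N := by
      intro i hsN
      have h1 : u * (t * u ^ i) * u⁻¹ ∈ N := (inferInstance : N.Normal).conj_mem _ hsN u
      have h2 : t * u ^ i * (u * (t * u ^ i) * u⁻¹) = u⁻¹ * u⁻¹ := by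
        have h3 : t * u ^ i * u * t = u⁻¹ * (t * u ^ i * t) := by
          calc t * u ^ i * u * t = t * (u * u ^ i) * t := by rw [← pow_succ', pow_succ]; group
            _ = (t * u * t) * (t * u ^ i * t) := by
              simp only [mul_assoc]; rw [← mul_assoc t t, htt, one_mul]
            _ = u⁻¹ * (t * u ^ i * t) := by rw [htu]
        calc t * u ^ i * (u * (t * u ^ i) * u⁻¹) = (t * u ^ i * u * t) * (u ^ i * u⁻¹) := by group
          _ = u⁻¹ * (t * u ^ i * (t * u ^ i)) * u⁻¹ := by rw [h3]; group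
          _ = u⁻¹ * u⁻¹ := by rw [hτ2 i, mul_one]
      have h4 := N.mul_mem hsN h1
      rw [h2] at h4
      apply huN
      have h5 : u = u⁻¹ * u⁻¹ := by
        rw [← mul_inv_rev]; exact eq_inv_of_mul_eq_one_left (by rw [← pow_two, ← pow_succ', hu3])
      rw [h5]; exact h4
    let τ : ℕ → MulAut N := fun i => MulAut.conjNormal (t * u ^ i)
    have hpow4 : ∀ (i : ℕ) (w : N), τ i w * w * (τ i w * w) = 1 := by
      intro i w
      apply Subtype.ext
      set s := t * u ^ i with hsdef
      have hs' : s⁻¹ = s := inv_eq_of_mul_eq_one_right (hτ2 i)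
      show (s * (w : G) * s⁻¹) * w * ((s * (w : G) * s⁻¹) * w) = 1
      rw [hs']
      have hval : (s * (w : G)) ^ 4 = 1 := by
        rcases cases_of_small hs (s * (w : G)) with h | h
        swap
        · exact h
        exfalso
        have h1 : ((s * (w : G) : G) : G ⧸ N) = (s : G ⧸ N) := by
          rw [QuotientGroup.eq, show (s * (w : G))⁻¹ * s = (w : G)⁻¹ by group]
          exact N.inv_mem w.2
        have h2 : (s : G ⧸ N) ^ 3 = 1 := by rw [← h1, ← QuotientGroup.mk_pow, h]; rfl
        rw [pow_succ, pow_two, ← QuotientGroup.mk_mul, hτ2 i, QuotientGroup.mk_one, one_mul] at h2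
        exact hout i ((QuotientGroup.eq_one_iff s).mp h2)
      calc s * (w : G) * s * w * (s * w * s * w) = (s * (w : G)) ^ 4 := by
            simp only [pow_succ, pow_zero, one_mul, mul_assoc]
        _ = 1 := hval
    have hαapply : ∀ i (y : N), τ i y = τ 0 ((α ^ i) y) := by
      intro i y
      apply Subtype.ext
      simp only [τ, hα, ← map_pow, MulAut.conjNormal_apply, pow_zero, mul_one]
      group
    have horbit : ∀ y : N, y * α y * (α ^ 2) y = 1 := H31.FpfThree.orbit_prod α hα3 hαf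
    have hτprod : ∀ y : N, τ 0 y * τ 1 y * τ 2 y = 1 := by
      intro y
      rw [hαapply 1, hαapply 2, ← map_mul, ← map_mul, pow_one, horbit, map_one]
    have hzz : ∀ z : N, z ∈ Subgroup.center N → z ^ 2 = 1 := by
      intro z hz
      have h0 : ∀ i, τ i (z ^ 2) = (z ^ 2)⁻¹ := by
        intro i
        refine eq_inv_of_mul_eq_one_left ?_
        have hc : Commute (τ i z) z := (Subgroup.mem_center_iff.mp hz (τ i z))
        rw [map_pow, ← hc.mul_pow, pow_two]
        exact hpow4 i z
      have h1 : τ 0 (α (z ^ 2)) = τ 0 (z ^ 2) := by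
        rw [← pow_one α, ← hαapply 1, h0, h0]
      exact hαf _ ((τ 0).injective h1)
    have hsq : ∀ w : N, w ^ 2 ∈ Subgroup.center N := by
      intro w
      rw [Subgroup.mem_center_iff]
      intro v
      have hc := hcen w v
      have h2 := hzz _ hc
      refine (commutatorElement_eq_one_iff_mul_comm.mp ?_).symm
      calc ⁅w ^ 2, v⁆ = w * ⁅w, v⁆ * w⁻¹ * ⁅w, v⁆ := by simp [commutatorElement_def, pow_two, mul_assoc]
        _ = ⁅w, v⁆ ^ 2 := by rw [Subgroup.mem_center_iff.mp hc w, mul_inv_cancel_right, pow_two]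
        _ = 1 := h2
    have hmul_left : ∀ a b w : N, ⁅a * b, w⁆ = ⁅a, w⁆ * ⁅b, w⁆ := by
      intro a b w
      calc ⁅a * b, w⁆ = a * ⁅b, w⁆ * a⁻¹ * ⁅a, w⁆ := by simp [commutatorElement_def, mul_assoc]
        _ = ⁅b, w⁆ * ⁅a, w⁆ := by rw [Subgroup.mem_center_iff.mp (hcen b w) a, mul_inv_cancel_right]
        _ = ⁅a, w⁆ * ⁅b, w⁆ := Subgroup.mem_center_iff.mp (hcen a w) _
    have hexp : ∀ w : N, w ^ 2 = 1 := by
      intro w
      have hq := hsq w
      have hi : ∀ i, τ i (w ^ 2) * w ^ 2 = ⁅τ i w, w⁆ := by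
        intro i
        have h1 := hpow4 i w
        set x := τ i w with hx
        rw [map_pow, ← hx]
        have h2 : x * w * (x * w) = ⁅w, x⁆ * (x ^ 2 * w ^ 2) := by
          have h3 : w * x = ⁅w, x⁆ * (x * w) := by rw [commutatorElement_def]; group
          calc x * w * (x * w) = x * (w * x) * w := by group
            _ = x * (⁅w, x⁆ * (x * w)) * w := by rw [h3]
            _ = (x * ⁅w, x⁆) * (x * (w * w)) := by group
            _ = ⁅w, x⁆ * (x ^ 2 * w ^ 2) := by rw [Subgroup.mem_center_iff.mp (hcen w x) x]; simp [pow_two, mul_assoc]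
        rw [h2] at h1
        rw [← commutatorElement_inv w x]
        exact eq_inv_of_mul_eq_one_right h1
      have h6 : (τ 0 (w ^ 2) * τ 1 (w ^ 2) * τ 2 (w ^ 2)) * (w ^ 2) ^ 3 = ⁅τ 0 w * τ 1 w * τ 2 w, w⁆ := by
        rw [hmul_left, hmul_left, ← hi 0, ← hi 1, ← hi 2]
        exact central_triple _ _ _ _ (fun y => Subgroup.mem_center_iff.mp hq y)
      rw [hτprod, hτprod, one_mul, commutatorElement_one_left] at h6
      exact htor _ h6
    refine ⟨⟨⟨fun x y => ?_⟩⟩, fun x hx => congrArg Subtype.val (hexp ⟨x, hx⟩)⟩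
    exact (commute_of_sq_eq_one_all hexp x y)

end H31.OrdersFour
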