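import Cfsg.Agent.H34.SmallCentralizer

/-!
A group of maximal class and an element `x` with centralizer of order `p²` and central `p`-th power
(after `Cfsg.Agent.H34.SmallCentralizer`, where `x` has order `p`).
-/

set_option autoImplicit false

open Subgroup
open scoped commutatorElement

namespace H31

open H34 (tau tau_mem pow_mul_iterate_tau)

universe u

variable {G : Type u} [Group G] [Finite G] {p n : ℕ} [hp : Fact p.Prime]

/-- The hypotheses: maximal class, and an element of order `p` with centralizer of order `p²`. -/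
structure QuasiCent (G : Type u) [Group G] (p n : ℕ) (x : G) : Prop where
  max : H30.MaxCls G p n
  three_le : 3 ≤ n
  pow_mem_center : x ^ p ∈ center G
  cent : Nat.card (centralizer ({x} : Set G)) = p ^ 2

namespace QuasiCent

variable {x : G}

open H30 (lcsT)

theorem conj_mul_inv_mem (g : G) : g * x * g⁻¹ * x⁻¹ ∈ lcsT G 1 := by
  rw [← commutatorElement_def, lcsT, Subgroup.lowerCentralSeries_succ, Subgroup.lowerCentralSeries_zero]
  exact commutator_mem_commutator (mem_top g) (mem_top x)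

theorem eq_of_conj_eq {a b : G ⧸ centralizer ({x} : Set G)}
    (h : a.out * x * a.out⁻¹ = b.out * x * b.out⁻¹) : a = b := by
  rw [← a.out_eq, ← b.out_eq]
  refine QuotientGroup.eq.2 (mem_centralizer_singleton_iff.2 ?_)
  calc a.out⁻¹ * b.out * x = a.out⁻¹ * (b.out * x * b.out⁻¹) * b.out := by group
    _ = x * (a.out⁻¹ * b.out) := by rw [← h]; group

theorem card_quot (h : QuasiCent G p n x) :
    Nat.card (G ⧸ centralizer ({x} : Set G)) = Nat.card (lcsT G 1) := by
  have h1 := Subgroup.card_eq_card_quotient_mul_card_subgroup (centralizer ({x} : Set G))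
  have h3 := h.three_le
  rw [h.max.card, h.cent, show n = (n - 2) + 2 by omega, pow_add] at h1
  rw [h.max.lcs_card le_rfl (by omega), show n - 1 - 1 = n - 2 by omega]
  exact (Nat.eq_of_mul_eq_mul_right (pow_pos hp.out.pos 2) h1).symm

theorem notMem (h : QuasiCent G p n x) : x ∉ lcsT G 1 := by
  intro hx
  have hmem : ∀ q : G ⧸ centralizer ({x} : Set G), q.out * x * q.out⁻¹ ∈ lcsT G 1 := fun q =>
    (show (lcsT G 1).Normal from inferInstance).conj_mem x hx q.out
  have hx1 : x ≠ 1 := by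
    rintro rfl
    have h1 := h.cent
    rw [show centralizer ({1} : Set G) = ⊤ from eq_top_iff.2 fun g _ =>
      mem_centralizer_singleton_iff.2 (by simp), card_top, h.max.card] at h1
    have := Nat.pow_right_injective hp.out.two_le h1
    have := h.three_le
    omega
  have hle := Nat.card_le_card_of_injective
    (fun q => (⟨⟨_, hmem q⟩, fun he => hx1 (conj_eq_one_iff.1 (congrArg Subtype.val he))⟩ :
      {y : lcsT G 1 // y ≠ 1}))
    fun a b hab => eq_of_conj_eq (congrArg Subtype.val (congrArg Subtype.val hab))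
  have hlt := Finite.card_subtype_lt (p := fun y : lcsT G 1 => y ≠ 1) (x := 1) (fun h => h rfl)
  rw [h.card_quot] at hle
  omega

/-- Every element of `γ₁ x` is conjugate to `x`. -/
theorem exists_conj (h : QuasiCent G p n x) {a : G} (ha : a ∈ lcsT G 1) :
    ∃ g : G, g * x * g⁻¹ = a * x := by
  let f : G ⧸ centralizer ({x} : Set G) → lcsT G 1 := fun q => ⟨_, conj_mul_inv_mem (x := x) q.out⟩
  have hf : Function.Injective f := fun a b hab =>
    eq_of_conj_eq (mul_right_cancel (congrArg Subtype.val hab))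
  obtain ⟨q, hq⟩ := ((Nat.bijective_iff_injective_and_card f).2 ⟨hf, h.card_quot⟩).2 ⟨a, ha⟩
  refine ⟨q.out, ?_⟩
  rw [← show q.out * x * q.out⁻¹ * x⁻¹ = a from congrArg Subtype.val hq, inv_mul_cancel_right]

theorem mul_pow_eq (h : QuasiCent G p n x) {a : G} (ha : a ∈ lcsT G 1) : (a * x) ^ p = x ^ p := by
  obtain ⟨g, hg⟩ := h.exists_conj ha
  rw [← hg, conj_pow, mem_center_iff.1 h.pow_mem_center g, mul_inv_cancel_right]

theorem cent_inf (h : QuasiCent G p n x) :
    centralizer ({x} : Set G) ⊓ lcsT G 1 = lcsT G (n - 2) := by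
  have h3 := h.three_le
  have hle : lcsT G (n - 2) ≤ centralizer ({x} : Set G) ⊓ lcsT G 1 := le_inf
    (fun y hy => mem_centralizer_singleton_iff.2
      (mem_center_iff.1 (h.max.lcs_pred_le_center hy) x).symm)
    (Subgroup.lowerCentralSeries_antitone _ (by omega))
  refine (eq_of_le_of_card_ge hle ?_).symm
  have hlt : centralizer ({x} : Set G) ⊓ lcsT G 1 < centralizer ({x} : Set G) :=
    lt_of_le_of_ne inf_le_left fun he => h.notMem (inf_eq_left.1 he (mem_centralizer_singleton_iff.2 rfl))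
  have h2 := H30.card_mul_le_of_lt h.max.isPGroup hlt
  rw [h.cent, sq] at h2
  rw [h.max.lcs_card (by omega) (by omega), show n - 1 - (n - 2) = 1 by omega, pow_one]
  exact Nat.le_of_mul_le_mul_left h2 hp.out.pos

theorem tau_eq_iff (a b : G) : tau x a = tau x b ↔ Commute (b * a⁻¹) x := by
  unfold tau
  constructor
  · intro h
    show b * a⁻¹ * x = x * (b * a⁻¹)
    calc b * a⁻¹ * x = b * (a⁻¹ * (x * a * x⁻¹)) * x * a⁻¹ := by group
      _ = x * (b * a⁻¹) := by rw [h]; group
  · intro h
    calc a⁻¹ * (x * a * x⁻¹) = b⁻¹ * (b * a⁻¹ * x) * a * x⁻¹ := by group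
      _ = b⁻¹ * (x * b * x⁻¹) := by rw [h.eq]; group

/-- `τ` maps `γ j` onto `γ (j + 1)`. -/
theorem exists_tau_eq (h : QuasiCent G p n x) {j : ℕ} (hj : 1 ≤ j) (hjn : j ≤ n - 2) {c : G}
    (hc : c ∈ lcsT G (j + 1)) : ∃ b ∈ lcsT G j, tau x b = c := by
  have h3 := h.three_le
  set L := lcsT G j
  set N := (centralizer ({x} : Set G)).subgroupOf L
  have hN : Nat.card N = p := by
    have e : centralizer ({x} : Set G) ⊓ L = lcsT G (n - 2) := by
      refine le_antisymm ((inf_le_inf le_rfl (Subgroup.lowerCentralSeries_antitone _ hj)).trans h.cent_inf.le)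
        (le_inf (h.cent_inf.ge.trans inf_le_left) (Subgroup.lowerCentralSeries_antitone _ hjn))
    rw [show N = (lcsT G (n - 2)).subgroupOf L by rw [← e, inf_subgroupOf_right],
      Nat.card_congr (subgroupOfEquivOfLe (Subgroup.lowerCentralSeries_antitone _ hjn)).toEquiv,
      h.max.lcs_card (by omega) (by omega), show n - 1 - (n - 2) = 1 by omega, pow_one]
  let f : L ⧸ N → lcsT G (j + 1) := fun q => ⟨tau x (q.out : G),
    show _ ∈ H11.gammaFil G (j + 1 + 1) from tau_mem (i := j + 1) q.out.2⟩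
  have hf : Function.Injective f := by
    intro a b hab
    have h1 := (tau_eq_iff _ _).1 (congrArg Subtype.val hab : tau x (a.out : G) = tau x (b.out : G))
    rw [← a.out_eq, ← b.out_eq]
    refine QuotientGroup.eq.2 ?_
    rw [Subgroup.mem_subgroupOf, mem_centralizer_singleton_iff]
    -- `b a⁻¹` is central below the top
    have h2 : (b.out : G) * (a.out : G)⁻¹ ∈ lcsT G (n - 2) := h.cent_inf.le
      ⟨mem_centralizer_singleton_iff.2 h1.eq,
        Subgroup.lowerCentralSeries_antitone _ hj (mul_mem b.out.2 (inv_mem a.out.2))⟩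
    have h4 := mem_center_iff.1 (h.max.lcs_pred_le_center h2) (a.out : G)⁻¹
    have h5 : (a.out : G)⁻¹ * (b.out : G) = (b.out : G) * (a.out : G)⁻¹ := by
      calc (a.out : G)⁻¹ * (b.out : G) = ((a.out : G)⁻¹ * ((b.out : G) * (a.out : G)⁻¹)) * a.out := by group
        _ = (b.out : G) * (a.out : G)⁻¹ := by rw [h4]; group
    push_cast
    rw [h5]
    exact h1.eq
  have hcard : Nat.card (L ⧸ N) = Nat.card (lcsT G (j + 1)) := by
    have h1 := Subgroup.card_eq_card_quotient_mul_card_subgroup N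
    rw [hN, h.max.lcs_card hj (by omega), show n - 1 - j = (n - 1 - (j + 1)) + 1 by omega, pow_succ] at h1
    rw [h.max.lcs_card (by omega) (by omega)]
    exact (Nat.eq_of_mul_eq_mul_right hp.out.pos h1).symm
  obtain ⟨q, hq⟩ := ((Nat.bijective_iff_injective_and_card f).2 ⟨hf, hcard⟩).2 ⟨c, hc⟩
  exact ⟨_, q.out.2, congrArg Subtype.val hq⟩

theorem tau_notMem (h : QuasiCent G p n x) {i : ℕ} (hi : 1 ≤ i) (hin : i + 3 ≤ n) {a : G}
    (ha : a ∈ lcsT G i) (han : a ∉ lcsT G (i + 1)) : tau x a ∉ lcsT G (i + 2) := by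
  intro hc
  obtain ⟨b, hb, hbe⟩ := h.exists_tau_eq (j := i + 1) (by omega) (by omega) hc
  have h2 : a * b⁻¹ ∈ lcsT G (n - 2) := h.cent_inf.le
    ⟨mem_centralizer_singleton_iff.2 ((tau_eq_iff b a).1 hbe).eq,
      (lcsT G 1).mul_mem (Subgroup.lowerCentralSeries_antitone _ hi ha)
        ((lcsT G 1).inv_mem (Subgroup.lowerCentralSeries_antitone _ (show 1 ≤ i + 1 by omega) hb))⟩
  have h4 := mul_mem (Subgroup.lowerCentralSeries_antitone _ (show i + 1 ≤ n - 2 by omega) h2) hb
  rw [inv_mul_cancel_right] at h4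
  exact han h4

theorem iterate_tau_mem (x : G) {i : ℕ} {a : G} (ha : a ∈ lcsT G i) :
    ∀ l, (tau x)^[l] a ∈ lcsT G (i + l)
  | 0 => ha
  | l + 1 => by
    rw [Function.iterate_succ_apply']
    exact show _ ∈ H11.gammaFil G (i + l + 1 + 1) from tau_mem (i := i + l + 1) (iterate_tau_mem x ha l)

theorem iterate_tau_notMem (h : QuasiCent G p n x) {i : ℕ} (hi : 1 ≤ i) {a : G}
    (ha : a ∈ lcsT G i) (han : a ∉ lcsT G (i + 1)) :
    ∀ l, i + l + 2 ≤ n → (tau x)^[l] a ∉ lcsT G (i + l + 1)
  | 0, _ => han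
  | l + 1, hl => by
    rw [Function.iterate_succ_apply']
    exact h.tau_notMem (i := i + l) (by omega) (by omega) (iterate_tau_mem x ha l)
      (iterate_tau_notMem h hi ha han l (by omega))

/-- The basic congruence for `p`-th powers. -/
theorem pow_congr (h : QuasiCent G p n x) : ∀ i, 1 ≤ i → ∀ a ∈ lcsT G i,
    a ^ p * (tau x)^[p - 1] a ∈ lcsT G (i + p) := by
  suffices key : ∀ d i, n - 1 ≤ i + d → 1 ≤ i → ∀ a ∈ lcsT G i,
      a ^ p * (tau x)^[p - 1] a ∈ lcsT G (i + p) from fun i => key n i (by omega)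
  intro d
  induction d with
  | zero =>
    intro i hi _ a ha
    rw [h.max.lcs_bot (by omega), Subgroup.mem_bot] at ha
    subst ha
    have ht : ∀ l, (tau x)^[l] (1 : G) = 1 := by
      intro l
      induction l with
      | zero => rfl
      | succ l ih => rw [Function.iterate_succ_apply', ih]; simp [tau]
    simp [ht]
  | succ d ih =>
    intro i hid hi a ha
    set q := QuotientGroup.mk' (lcsT G (i + p)) with hq
    have hmap : ∀ k, H11.gammaFil (G ⧸ lcsT G (i + p)) (k + 1) = (lcsT G k).map q := fun k =>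
      (H30.map_lcsT (lcsT G (i + p)) k).symm
    have hbot : H11.gammaFil (G ⧸ lcsT G (i + p)) (i + p + 1) = ⊥ := by
      rw [hmap, hq, QuotientGroup.map_mk'_self]
    have hexp : ∀ y ∈ H11.gammaFil (G ⧸ lcsT G (i + p)) (i + 2), y ^ p = 1 := by
      rw [hmap]
      rintro _ ⟨y, hy, rfl⟩
      rw [← map_pow, hq, QuotientGroup.mk'_apply, QuotientGroup.eq_one_iff]
      have h1 := ih (i + 1) (by omega) (by omega) y hy
      have h2 := iterate_tau_mem x hy (p - 1)
      have := hp.out.one_le
      rw [show i + 1 + (p - 1) = i + p by omega] at h2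
      simpa using mul_mem (Subgroup.lowerCentralSeries_antitone _ (show i + p ≤ i + 1 + p by omega) h1)
        (inv_mem h2)
    have hsemi : Function.Semiconj q (tau x) (tau (q x)) := fun y => by simp [tau]
    have hkey := pow_mul_iterate_tau (p := p) hi (x := q x) (a := q a)
      (by rw [hmap]; exact mem_map_of_mem _ ha)
      (by
        rw [← map_mul, ← map_pow, h.mul_pow_eq (Subgroup.lowerCentralSeries_antitone _ hi ha), map_pow])
      hbot hexp
    rw [← hsemi.iterate_right (p - 1) a, ← map_pow, ← map_mul, hq, QuotientGroup.mk'_apply,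
      QuotientGroup.eq_one_iff] at hkey
    exact hkey

theorem pow_mem (h : QuasiCent G p n x) {i : ℕ} (hi : 1 ≤ i) {a : G} (ha : a ∈ lcsT G i) :
    a ^ p ∈ lcsT G (i + (p - 1)) := by
  have := mul_mem (Subgroup.lowerCentralSeries_antitone _ (show i + (p - 1) ≤ i + p by omega)
    (h.pow_congr i hi a ha)) (inv_mem (iterate_tau_mem x ha (p - 1)))
  simpa using this

theorem pow_notMem (h : QuasiCent G p n x) {i : ℕ} (hi : 1 ≤ i) {a : G} (ha : a ∈ lcsT G i)
    (han : a ∉ lcsT G (i + 1)) (hin : i + (p - 1) + 2 ≤ n) : a ^ p ∉ lcsT G (i + (p - 1) + 1) := by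
  intro hp'
  refine h.iterate_tau_notMem hi ha han (p - 1) hin ?_
  have h1 := h.pow_congr i hi a ha
  have := hp.out.one_le
  rw [show i + p = i + (p - 1) + 1 by omega] at h1
  simpa using mul_mem (inv_mem hp') h1

theorem pow_pow_mem (h : QuasiCent G p n x) {i : ℕ} (hi : 1 ≤ i) {a : G} (ha : a ∈ lcsT G i)
    (han : a ∉ lcsT G (i + 1)) : ∀ s, i + s * (p - 1) + 2 ≤ n →
      a ^ p ^ s ∈ lcsT G (i + s * (p - 1)) ∧ a ^ p ^ s ∉ lcsT G (i + s * (p - 1) + 1)
  | 0, _ => by simpa using ⟨ha, han⟩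
  | s + 1, hs => by
    have hm : (s + 1) * (p - 1) = s * (p - 1) + (p - 1) := Nat.succ_mul _ _
    obtain ⟨h1, h2⟩ := pow_pow_mem h hi ha han s (by omega)
    rw [pow_succ, pow_mul, hm, ← add_assoc]
    exact ⟨h.pow_mem (by omega) h1, h.pow_notMem (by omega) h1 h2 (by omega)⟩

end QuasiCent

end H31
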