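import Mathlib
import Cfsg.Agent.H91.DihedralLift

/-! A concrete model of the wreath product of the dihedral group of order 8 by a group of order 2. -/

set_option autoImplicit false
set_option linter.style.haveILetI false

namespace H31.DWr

/-- Abbreviation for the dihedral group of order 8. -/
abbrev D := DihedralGroup 4

/-- `D ≀ C₂`: an element `(a, b, s)`, with `s` telling whether the factors are swapped. -/
structure W where
  /-- first coordinate -/
  fst : D
  /-- second coordinate -/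
  snd : D
  /-- the swap -/
  swap : Bool
deriving DecidableEq

/-- `W` as a product type. -/
def equivProd : W ≃ D × D × Bool where
  toFun w := (w.fst, w.snd, w.swap)
  invFun v := ⟨v.1, v.2.1, v.2.2⟩
  left_inv _ := rfl
  right_inv _ := rfl

instance : Fintype W := Fintype.ofEquiv _ equivProd.symm

instance : Mul W where
  mul u v := match u.swap with
    | false => ⟨u.fst * v.fst, u.snd * v.snd, v.swap⟩
    | true => ⟨u.fst * v.snd, u.snd * v.fst, !v.swap⟩

instance : One W where one := ⟨1, 1, false⟩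

instance : Inv W where
  inv u := match u.swap with
    | false => ⟨u.fst⁻¹, u.snd⁻¹, false⟩
    | true => ⟨u.snd⁻¹, u.fst⁻¹, true⟩

theorem mk_mul_false (a b : D) (v : W) : (⟨a, b, false⟩ : W) * v = ⟨a * v.fst, b * v.snd, v.swap⟩ := rfl

theorem mk_mul_true (a b : D) (v : W) : (⟨a, b, true⟩ : W) * v = ⟨a * v.snd, b * v.fst, !v.swap⟩ := rfl

theorem one_def : (1 : W) = ⟨1, 1, false⟩ := rfl

instance : Group W where
  mul_assoc := by
    rintro ⟨a, b, s⟩ ⟨c, d, t⟩ ⟨g, h, u⟩
    cases s <;> cases t <;> cases u <;> simp [mk_mul_false, mk_mul_true, mul_assoc]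
  one_mul := by
    rintro ⟨a, b, s⟩
    simp [one_def, mk_mul_false]
  mul_one := by
    rintro ⟨a, b, s⟩
    cases s <;> simp [one_def, mk_mul_false, mk_mul_true]
  inv_mul_cancel := by
    rintro ⟨a, b, s⟩
    cases s
    · show (⟨a⁻¹, b⁻¹, false⟩ : W) * ⟨a, b, false⟩ = 1
      simp [one_def, mk_mul_false]
    · show (⟨b⁻¹, a⁻¹, true⟩ : W) * ⟨a, b, true⟩ = 1
      simp [one_def, mk_mul_true]

theorem card_W : Nat.card W = 128 := by
  rw [Nat.card_eq_fintype_card, Fintype.card_congr equivProd, Fintype.card_prod, Fintype.card_prod,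
    DihedralGroup.card, Fintype.card_bool]

theorem isPGroup_W : IsPGroup 2 W := IsPGroup.of_card (n := 7) (by rw [card_W]; norm_num)

/-- reflection in the first factor -/
def e : W := ⟨.sr 0, 1, false⟩
/-- second reflection in the first factor -/
def f : W := ⟨.sr 1, 1, false⟩
/-- reflection in the second factor -/
def e' : W := ⟨1, .sr 0, false⟩
/-- second reflection in the second factor -/
def f' : W := ⟨1, .sr 1, false⟩
/-- the swap -/
def t : W := ⟨1, 1, true⟩
/-- central involution of the first factor -/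
def z : W := ⟨.r 2, 1, false⟩
/-- central involution of the second factor -/
def z' : W := ⟨1, .r 2, false⟩
/-- the central involution -/
def z0 : W := ⟨.r 2, .r 2, false⟩

/-- centre of `D` -/
def inA0 (a : D) : Prop := a = 1 ∨ a = .r 2
/-- first four-group of `D` -/
def inA1 (a : D) : Prop := a = 1 ∨ a = .r 2 ∨ a = .sr 0 ∨ a = .sr 2
/-- second four-group of `D` -/
def inA2 (a : D) : Prop := a = 1 ∨ a = .r 2 ∨ a = .sr 1 ∨ a = .sr 3

instance : DecidablePred inA0 := fun a => by unfold inA0; infer_instance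
instance : DecidablePred inA1 := fun a => by unfold inA1; infer_instance
instance : DecidablePred inA2 := fun a => by unfold inA2; infer_instance

/-- centre of the base -/
def inZ (w : W) : Prop := w.swap = false ∧ inA0 w.fst ∧ inA0 w.snd
/-- first normal subgroup of order 16 -/
def inV1 (w : W) : Prop := w.swap = false ∧ inA1 w.fst ∧ inA1 w.snd
/-- second normal subgroup of order 16 -/
def inV2 (w : W) : Prop := w.swap = false ∧ inA2 w.fst ∧ inA2 w.snd

instance : DecidablePred inZ := fun a => by unfold inZ; infer_instance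
instance : DecidablePred inV1 := fun a => by unfold inV1; infer_instance
instance : DecidablePred inV2 := fun a => by unfold inV2; infer_instance

theorem A1_mul : ∀ a b : D, inA1 a → inA1 b → inA1 (a * b) ∧ inA1 a⁻¹ := by decide +kernel
theorem A2_mul : ∀ a b : D, inA2 a → inA2 b → inA2 (a * b) ∧ inA2 a⁻¹ := by decide +kernel

/-- the subgroup `V₁` -/
def V1 : Subgroup W where
  carrier := {w | inV1 w}
  one_mem' := ⟨rfl, Or.inl rfl, Or.inl rfl⟩
  mul_mem' := by
    rintro ⟨a, b, s⟩ ⟨c, d, u⟩ ⟨hs, ha, hb⟩ ⟨hu, hc, hd⟩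
    cases hs
    cases hu
    exact ⟨rfl, (A1_mul _ _ ha hc).1, (A1_mul _ _ hb hd).1⟩
  inv_mem' := by
    rintro ⟨a, b, s⟩ ⟨hs, ha, hb⟩
    cases hs
    exact ⟨rfl, (A1_mul _ _ ha ha).2, (A1_mul _ _ hb hb).2⟩

/-- the subgroup `V₂` -/
def V2 : Subgroup W where
  carrier := {w | inV2 w}
  one_mem' := ⟨rfl, Or.inl rfl, Or.inl rfl⟩
  mul_mem' := by
    rintro ⟨a, b, s⟩ ⟨c, d, u⟩ ⟨hs, ha, hb⟩ ⟨hu, hc, hd⟩
    cases hs
    cases hu
    exact ⟨rfl, (A2_mul _ _ ha hc).1, (A2_mul _ _ hb hd).1⟩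
  inv_mem' := by
    rintro ⟨a, b, s⟩ ⟨hs, ha, hb⟩
    cases hs
    exact ⟨rfl, (A2_mul _ _ ha ha).2, (A2_mul _ _ hb hb).2⟩

theorem mem_V1 {w : W} : w ∈ V1 ↔ inV1 w := Iff.rfl
theorem mem_V2 {w : W} : w ∈ V2 ↔ inV2 w := Iff.rfl

theorem card_V1 : Nat.card V1 = 16 := by
  rw [show Nat.card V1 = Nat.card {w // inV1 w} from rfl, Nat.card_eq_fintype_card]
  decide +kernel

theorem card_V2 : Nat.card V2 = 16 := by
  rw [show Nat.card V2 = Nat.card {w // inV2 w} from rfl, Nat.card_eq_fintype_card]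
  decide +kernel

theorem V1_normal : ∀ u w : W, inV1 w → inV1 (u * w * u⁻¹) := by decide +kernel
theorem V2_normal : ∀ u w : W, inV2 w → inV2 (u * w * u⁻¹) := by decide +kernel

theorem V_elem : ∀ w : W, (inV1 w ∨ inV2 w) → w * w = 1 ∧ ∀ u : W, Commute w (u * w * u⁻¹) := by
  unfold Commute SemiconjBy
  decide +kernel

theorem V_of_sigma : ∀ w : W, w * w = 1 → (∀ u : W, w * (u * w * u⁻¹) = u * w * u⁻¹ * w) → inV1 w ∨ inV2 w := by
  decide +kernel

theorem V1_inter_V2 : ∀ w : W, (inV1 w ∧ inV2 w) ↔ inZ w := by decide +kernel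

theorem inZ_iff : ∀ w : W, inZ w ↔ (w = 1 ∨ w = z ∨ w = z' ∨ w = z0) := by decide +kernel

theorem center_W : ∀ w : W, (w * e = e * w ∧ w * f = f * w ∧ w * t = t * w) ↔ (w = 1 ∨ w = z0) := by
  decide +kernel

theorem base_centraliser : ∀ w : W, (w * e = e * w ∧ w * f = f * w ∧ w * e' = e' * w ∧ w * f' = f' * w) → inZ w := by
  decide +kernel

theorem z0_comm : ∀ w : W, z0 * w = w * z0 := by decide +kernel

/-- A subgroup of elementary abelian normal type of order 16 is one of the two. -/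
theorem V_unique (U : Subgroup W) (h16 : Nat.card U = 16) (h2 : ∀ w ∈ U, w * w = 1)
    (hc : ∀ w ∈ U, ∀ u : W, w * (u * w * u⁻¹) = u * w * u⁻¹ * w) : U = V1 ∨ U = V2 := by
  have hs : ∀ w ∈ U, w ∈ V1 ∨ w ∈ V2 := fun w hw => V_of_sigma w (h2 w hw) (hc w hw)
  by_cases h1 : U ≤ V1
  · exact Or.inl (Subgroup.eq_of_le_of_card_ge h1 (by rw [h16, card_V1]))
  · refine Or.inr (Subgroup.eq_of_le_of_card_ge (fun x hx => ?_) (by rw [h16, card_V2]))
    obtain ⟨y, hy, hy1⟩ := SetLike.not_le_iff_exists.mp h1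
    have hy2 := (hs y hy).resolve_left hy1
    by_contra hx2
    have hx1 := (hs x hx).resolve_right hx2
    rcases hs _ (U.mul_mem hx hy) with h | h
    · exact hy1 ((V1.mul_mem_cancel_left hx1).mp h)
    · exact hx2 ((V2.mul_mem_cancel_right hy2).mp h)

theorem normal_meets_center (K : Subgroup W) [K.Normal] (hK : K ≠ ⊥) : z0 ∈ K := by
  haveI : Fact (Nat.Prime 2) := ⟨Nat.prime_two⟩
  haveI : Nontrivial K := K.nontrivial_iff_ne_bot.mpr hK
  have hp : IsPGroup 2 (ConjAct W) := isPGroup_W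
  have h1 : (1 : K) ∈ MulAction.fixedPoints (ConjAct W) K := fun g => smul_one g
  have hdvd : 2 ∣ Nat.card K := by
    have hlt : 1 < Nat.card K := Finite.one_lt_card
    obtain ⟨n, hn⟩ := IsPGroup.iff_card.mp (isPGroup_W.to_subgroup K)
    rcases n with - | n
    · rw [hn] at hlt; norm_num at hlt
    · exact ⟨2 ^ n, by rw [hn, pow_succ']⟩
  obtain ⟨b, hb, hb1⟩ := hp.exists_fixed_point_of_prime_dvd_card_of_fixed_point K hdvd h1
  have hcomm : ∀ u : W, (b : W) * u = u * b := by
    intro u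
    have h := congrArg Subtype.val (hb (ConjAct.toConjAct u))
    rw [ConjAct.Subgroup.val_conj_smul, ConjAct.toConjAct_smul] at h
    exact (mul_inv_eq_iff_eq_mul.mp h).symm
  rcases (center_W b).mp ⟨hcomm _, hcomm _, hcomm _⟩ with h | h
  · exact absurd (Subtype.ext h.symm) hb1
  · exact h ▸ b.2

/-- Recognition of `D ≀ C₂`. -/
theorem nonempty_mulEquiv {G : Type*} [Group G] (p q x : G) (hp : p * p = 1) (hq : q * q = 1)
    (hx : x * x = 1) (h4 : (p * q) ^ 4 = 1) (hpp : p * (x * p * x) = x * p * x * p)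
    (hpq : p * (x * q * x) = x * q * x * p) (hqq : q * (x * q * x) = x * q * x * q)
    (hne : (p * q) ^ 2 * (x * (p * q) ^ 2 * x) ≠ 1) :
    ∃ φ : W →* G, Function.Injective φ ∧ φ e = p ∧ φ f = q ∧ φ t = x := by
  have hxi : x⁻¹ = x := inv_eq_of_mul_eq_one_right hx
  have hpi : p⁻¹ = p := inv_eq_of_mul_eq_one_right hp
  have hqi : q⁻¹ = q := inv_eq_of_mul_eq_one_right hq
  let φ := H91.dihedralLift (n := 4) (p * q) p h4 hp (by
    rw [hpi, mul_inv_rev, hpi, hqi, ← mul_assoc p p q, hp, one_mul])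
  have hφ : ∀ a, φ a ∈ Subgroup.closure ({p, q} : Set G) := by
    have hP : p ∈ Subgroup.closure ({p, q} : Set G) := Subgroup.subset_closure (Or.inl rfl)
    have hQ : q ∈ Subgroup.closure ({p, q} : Set G) := Subgroup.subset_closure (Or.inr rfl)
    rintro (i | i)
    · exact Subgroup.pow_mem _ (mul_mem hP hQ) _
    · exact mul_mem hP (Subgroup.pow_mem _ (mul_mem hP hQ) _)
  have hqp : q * (x * p * x) = x * p * x * q := by
    have := congrArg (fun w => x * w * x) hpq
    have h1 : ∀ w : G, x * (x * w) = w := fun w => by rw [← mul_assoc, hx, one_mul]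
    simp only [mul_assoc, h1, hx, mul_one] at this ⊢
    exact this.symm
  have hc : ∀ a ∈ Subgroup.closure ({p, q} : Set G), ∀ b ∈ Subgroup.closure ({p, q} : Set G),
      Commute a (x * b * x) := by
    intro a ha b hb
    induction hb using Subgroup.closure_induction with
    | mem b hb =>
      have ha' : a ∈ Subgroup.centralizer {x * b * x} := by
        refine (Subgroup.closure_le _).mpr ?_ ha
        rintro a (rfl | rfl) w rfl <;> rcases hb with rfl | rfl
        exacts [hpp.symm, hpq.symm, hqp.symm, hqq.symm]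
      exact (ha' _ rfl).symm
    | one => rw [mul_one, hx]; exact Commute.one_right _
    | mul b c _ _ hb hc =>
      rw [show x * (b * c) * x = x * b * x * (x * c * x) by
        simp only [mul_assoc]; rw [← mul_assoc x x, hx, one_mul]]
      exact hb.mul_right hc
    | inv b _ hb =>
      rw [show x * b⁻¹ * x = (x * b * x)⁻¹ by rw [mul_inv_rev, mul_inv_rev, hxi, mul_assoc]]
      exact hb.inv_right
  have hcc : ∀ a b : D, φ a * (x * φ b * x) = x * φ b * x * φ a := fun a b => hc _ (hφ a) _ (hφ b)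
  let Φ : W → G := fun w => φ w.fst * (x * φ w.snd * x) * (if w.swap then x else 1)
  have hxm : ∀ u v : G, x * (u * v) * x = x * u * x * (x * v * x) := fun u v => by
    simp only [mul_assoc]; rw [← mul_assoc x x, hx, one_mul]
  have hxx : ∀ u : G, x * (x * u * x) * x = u := fun u => by
    simp only [mul_assoc]; rw [hx, mul_one, ← mul_assoc, hx, one_mul]
  have hbase : ∀ a b c d : D, Φ ⟨a * c, b * d, false⟩ = Φ ⟨a, b, false⟩ * Φ ⟨c, d, false⟩ := by
    intro a b c d
    simp only [Φ, Bool.false_eq_true, if_false, mul_one, map_mul, hxm]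
    exact (Commute.mul_mul_mul_comm (a := φ a) (b := x * φ b * x) (c := φ c) (d := x * φ d * x) (hcc c b).symm).symm
  have hflip : ∀ a b : D, x * Φ ⟨a, b, false⟩ = Φ ⟨b, a, false⟩ * x := by
    intro a b
    simp only [Φ, Bool.false_eq_true, if_false, mul_one]
    calc x * (φ a * (x * φ b * x)) = x * φ a * x * (x * (x * φ b * x) * x) * x := by
          rw [← hxm]; simp only [mul_assoc]; rw [hx, mul_one]
      _ = _ := by rw [hxx, hcc]
  have hsw : ∀ a b : D, ∀ s : Bool, Φ ⟨a, b, s⟩ = Φ ⟨a, b, false⟩ * (if s then x else 1) := by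
    intro a b s
    simp [Φ]
  let Ψ : W →* G := MonoidHom.mk' Φ (by
    rintro ⟨a, b, s⟩ ⟨c, d, u⟩
    cases s
    · rw [mk_mul_false, hsw, hbase, hsw c d u, mul_assoc]
    · rw [mk_mul_true, hsw, hbase, hsw c d u, hsw a b true, if_pos rfl]
      rw [mul_assoc (Φ ⟨a, b, false⟩) x, ← mul_assoc x, hflip, mul_assoc (Φ ⟨d, c, false⟩), mul_assoc]
      congr 2
      cases u <;> simp [hx])
  have hval : ∀ a b : D, Ψ ⟨a, b, false⟩ = φ a * (x * φ b * x) := fun a b => by
    show Φ _ = _
    simp [Φ]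
  refine ⟨Ψ, ?_, ?_, ?_, ?_⟩
  · rw [← MonoidHom.ker_eq_bot_iff]
    by_contra hK
    apply hne
    have h := MonoidHom.mem_ker.mp (normal_meets_center Ψ.ker hK)
    rw [show z0 = ⟨.r 2, .r 2, false⟩ from rfl, hval] at h
    exact h
  · rw [show e = ⟨.sr 0, 1, false⟩ from rfl, hval, map_one, mul_one, hx, mul_one]
    show p * (p * q) ^ (0 : ZMod 4).val = p
    simp
  · rw [show f = ⟨.sr 1, 1, false⟩ from rfl, hval, map_one, mul_one, hx, mul_one]
    show p * (p * q) ^ (1 : ZMod 4).val = q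
    rw [show (1 : ZMod 4).val = 1 from rfl, pow_one, ← mul_assoc, hp, one_mul]
  · show Φ _ = x
    simp [Φ, t, hx]

/-- The recognition with the order known. -/
theorem nonempty_mulEquiv_of_card {G : Type*} [Group G] [Finite G] (hG : Nat.card G = 128) (p q x : G)
    (hp : p * p = 1) (hq : q * q = 1)
    (hx : x * x = 1) (h4 : (p * q) ^ 4 = 1) (hpp : p * (x * p * x) = x * p * x * p)
    (hpq : p * (x * q * x) = x * q * x * p) (hqq : q * (x * q * x) = x * q * x * q)
    (hne : (p * q) ^ 2 * (x * (p * q) ^ 2 * x) ≠ 1) : Nonempty (W ≃* G) := by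
  obtain ⟨φ, hφ, -⟩ := nonempty_mulEquiv p q x hp hq hx h4 hpp hpq hqq hne
  exact ⟨MulEquiv.ofBijective φ ((Nat.bijective_iff_injective_and_card φ).mpr ⟨hφ, by rw [card_W, hG]⟩)⟩

open Equiv in
/-- A Sylow 2-subgroup of the symmetric group of degree 8 is `D ≀ C₂`. -/
theorem sylow_perm_eight (T : Sylow 2 (Perm (Fin 8))) :
    Nonempty (W ≃* (T : Subgroup (Perm (Fin 8)))) := by
  haveI : Fact (Nat.Prime 2) := ⟨Nat.prime_two⟩
  obtain ⟨φ, hφ, -⟩ := nonempty_mulEquiv (G := Perm (Fin 8)) (swap 0 1) (swap 0 2 * swap 1 3)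
    (swap 0 4 * swap 1 5 * swap 2 6 * swap 3 7) (by decide) (by decide) (by decide) (by decide) (by decide)
    (by decide) (by decide) (by decide)
  obtain ⟨Q, hQ⟩ := (isPGroup_W.of_surjective φ.rangeRestrict φ.rangeRestrict_surjective).exists_le_sylow
  have hr : Nat.card φ.range = 128 := by
    rw [← Nat.card_congr (MonoidHom.ofInjective hφ).toEquiv, card_W]
  obtain ⟨k, hk⟩ := IsPGroup.iff_card.mp Q.2
  have hk' : k ≤ 7 := by
    by_contra hlt
    have h1 : (2 : ℕ) ^ 8 ∣ 40320 := by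
      have h2 : Nat.card (Perm (Fin 8)) = 40320 := by rw [Nat.card_perm, Nat.card_fin]; rfl
      rw [← h2]
      exact (pow_dvd_pow 2 (by omega : 8 ≤ k)).trans (hk ▸ Subgroup.card_subgroup_dvd_card _)
    norm_num at h1
  have hQe : φ.range = Q := Subgroup.eq_of_le_of_card_ge hQ (by
    rw [hr, hk]; exact le_trans (Nat.pow_le_pow_right (by norm_num) hk') (by norm_num))
  exact ⟨((MonoidHom.ofInjective hφ).trans (MulEquiv.subgroupCongr hQe)).trans (Q.equiv T)⟩

end H31.DWr
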