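import Mathlib
import Cfsg.Agent.H31.WreathModel

/-! Computed facts about `D ≀ C₂` and its automorphisms. -/

set_option autoImplicit false

namespace H31.DWr

/-- the base -/
def base : Subgroup W where
  carrier := {w | w.swap = false}
  one_mem' := rfl
  mul_mem' := by rintro ⟨a, b, s⟩ ⟨c, d, u⟩ hs hu; cases hs; cases hu; rfl
  inv_mem' := by rintro ⟨a, b, s⟩ hs; cases hs; rfl

theorem mem_base {w : W} : w ∈ base ↔ w.swap = false := Iff.rfl

theorem card_base : Nat.card base = 64 := by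
  rw [show Nat.card base = Nat.card {w : W // w.swap = false} from rfl, Nat.card_eq_fintype_card]
  decide +kernel

theorem card_Z : Nat.card (V1 ⊓ V2 : Subgroup W) = 4 := by
  rw [show Nat.card (V1 ⊓ V2 : Subgroup W) = Nat.card {w // inV1 w ∧ inV2 w} from rfl, Nat.card_eq_fintype_card]
  decide +kernel

theorem base_le (K : Subgroup W) (he : e ∈ K) (hf : f ∈ K) (he' : e' ∈ K) (hf' : f' ∈ K) : base ≤ K := by
  have hD : ∀ a : D, a = 1 ∨ a = .sr 0 ∨ a = .sr 1 ∨ a = .sr 0 * .sr 1 ∨ a = .sr 1 * .sr 0 ∨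
      a = .sr 0 * .sr 1 * .sr 0 ∨ a = .sr 1 * .sr 0 * .sr 1 ∨ a = .sr 0 * .sr 1 * (.sr 0 * .sr 1) := by decide
  have h1 : ∀ a : D, (⟨a, 1, false⟩ : W) ∈ K := by
    have hm : ∀ a b : D, (⟨a, 1, false⟩ : W) ∈ K → (⟨b, 1, false⟩ : W) ∈ K → (⟨a * b, 1, false⟩ : W) ∈ K := by
      intro a b ha hb
      have := K.mul_mem ha hb
      rwa [mk_mul_false, mul_one] at this
    intro a
    rcases hD a with h | h | h | h | h | h | h | h <;> subst h
    exacts [K.one_mem, he, hf, hm _ _ he hf, hm _ _ hf he, hm _ _ (hm _ _ he hf) he, hm _ _ (hm _ _ hf he) hf,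
      hm _ _ (hm _ _ he hf) (hm _ _ he hf)]
  have h2 : ∀ a : D, (⟨1, a, false⟩ : W) ∈ K := by
    have hm : ∀ a b : D, (⟨1, a, false⟩ : W) ∈ K → (⟨1, b, false⟩ : W) ∈ K → (⟨1, a * b, false⟩ : W) ∈ K := by
      intro a b ha hb
      have := K.mul_mem ha hb
      rwa [mk_mul_false, mul_one] at this
    intro a
    rcases hD a with h | h | h | h | h | h | h | h <;> subst h
    exacts [K.one_mem, he', hf', hm _ _ he' hf', hm _ _ hf' he', hm _ _ (hm _ _ he' hf') he',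
      hm _ _ (hm _ _ hf' he') hf', hm _ _ (hm _ _ he' hf') (hm _ _ he' hf')]
  rintro ⟨a, b, s⟩ hs
  cases hs
  have := K.mul_mem (h1 a) (h2 b)
  rwa [mk_mul_false, mul_one, one_mul] at this

theorem base_prod : ∀ w : W, w.swap = false → ∃ v₁ v₂, inV1 v₁ ∧ inV2 v₂ ∧ w = v₁ * v₂ := by
  have hD : ∀ a : D, ∃ a₁, inA1 a₁ ∧ ∃ a₂, inA2 a₂ ∧ a = a₁ * a₂ := by decide +kernel
  rintro ⟨a, b, s⟩ hs
  cases hs
  obtain ⟨a₁, ha₁, a₂, ha₂, rfl⟩ := hD a
  obtain ⟨b₁, hb₁, b₂, hb₂, rfl⟩ := hD b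
  exact ⟨⟨a₁, b₁, false⟩, ⟨a₂, b₂, false⟩, ⟨rfl, ha₁, hb₁⟩, ⟨rfl, ha₂, hb₂⟩, rfl⟩

theorem comm_sq : ∀ v : W, inV1 v → ∀ u : W, inV2 u → inZ (v * u * (v * u)) ∧ inZ (u * v * (u * v)) := by
  decide +kernel

theorem e_sq : ∀ u : W, inV2 u → e * u * (e * u) = 1 ∨ e * u * (e * u) = z := by decide +kernel
theorem f_sq : ∀ u : W, inV1 u → u * f * (u * f) = 1 ∨ u * f * (u * f) = z := by decide +kernel
theorem e'_sq : ∀ u : W, inV2 u → e' * u * (e' * u) = 1 ∨ e' * u * (e' * u) = z' := by decide +kernel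
theorem f'_sq : ∀ u : W, inV1 u → u * f' * (u * f') = 1 ∨ u * f' * (u * f') = z' := by decide +kernel

theorem find_e : ∀ v : W, inV1 v → ¬ inZ v →
    (∀ u : W, inV2 u → v * u * (v * u) = 1 ∨ v * u * (v * u) = z) → inZ (e * v) := by decide +kernel
theorem find_f : ∀ v : W, inV2 v → ¬ inZ v →
    (∀ u : W, inV1 u → u * v * (u * v) = 1 ∨ u * v * (u * v) = z) → inZ (f * v) := by decide +kernel
theorem find_e' : ∀ v : W, inV1 v → ¬ inZ v →
    (∀ u : W, inV2 u → v * u * (v * u) = 1 ∨ v * u * (v * u) = z') → inZ (e' * v) := by decide +kernel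
theorem find_f' : ∀ v : W, inV2 v → ¬ inZ v →
    (∀ u : W, inV1 u → u * v * (u * v) = 1 ∨ u * v * (u * v) = z') → inZ (f' * v) := by decide +kernel

theorem inZ_sq : ∀ w : W, inZ w → w * w = 1 ∧ ∀ u : W, u.swap = false → u * w = w * u := by decide +kernel

theorem gen_base : e.swap = false ∧ f.swap = false ∧ e'.swap = false ∧ f'.swap = false := ⟨rfl, rfl, rfl, rfl⟩

theorem gen_comm : inZ (e * f * e * f) ∧ inZ (e * e' * e * e') ∧ inZ (e * f' * e * f') ∧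
    inZ (f * e' * f * e') ∧ inZ (f * f' * f * f') ∧ inZ (e' * f' * e' * f') := by decide +kernel

theorem gen_mem : inV1 e ∧ ¬ inV2 e ∧ inV1 e' ∧ ¬ inV2 e' ∧ inV2 f ∧ ¬ inV1 f ∧ inV2 f' ∧ ¬ inV1 f' := by
  decide +kernel

theorem gen_rel : e * e = 1 ∧ f * f = 1 ∧ e' * e' = 1 ∧ f' * f' = 1 ∧ t * t = 1 ∧ t * e * t = e' ∧ t * f * t = f' ∧
    e * f * (e * f) = z ∧ z * z0 = z' ∧ t * z * t = z' ∧ t * z' * t = z ∧ z ≠ z' ∧ z0 ≠ 1 ∧ z ≠ 1 := by
  decide +kernel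

theorem outer_invol : ∀ w : W, w.swap = true → w * w = 1 →
    ∃ a : D, (⟨a, 1, false⟩ : W) * t * (⟨a, 1, false⟩ : W)⁻¹ = w := by decide +kernel

/-- An automorphism permutes the two subgroups. -/
theorem aut_perm (α : W ≃* W) :
    ((∀ w, inV1 (α w) ↔ inV1 w) ∧ ∀ w, inV2 (α w) ↔ inV2 w) ∨
      ((∀ w, inV2 (α w) ↔ inV1 w) ∧ ∀ w, inV1 (α w) ↔ inV2 w) := by
  have key : ∀ U : Subgroup W, (U = V1 ∨ U = V2) → U.map α.toMonoidHom = V1 ∨ U.map α.toMonoidHom = V2 := by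
    intro U hU
    have hel : ∀ w ∈ U, w * w = 1 ∧ ∀ u : W, Commute w (u * w * u⁻¹) := fun w hw =>
      V_elem w (by rcases hU with h | h <;> rw [h] at hw; exacts [Or.inl hw, Or.inr hw])
    refine V_unique _ ?_ ?_ ?_
    · rw [Subgroup.card_map_of_injective α.injective]
      rcases hU with h | h <;> rw [h]
      exacts [card_V1, card_V2]
    · rintro _ ⟨w, hw, rfl⟩
      show α w * α w = 1
      rw [← map_mul, (hel w hw).1, map_one]
    · rintro _ ⟨w, hw, rfl⟩ u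
      have h := ((hel w hw).2 (α.symm u)).map α.toMonoidHom
      simp only [MulEquiv.coe_toMonoidHom, map_mul, map_inv, MulEquiv.apply_symm_apply] at h
      exact h
  have hiff : ∀ U U' : Subgroup W, U.map α.toMonoidHom = U' → ∀ w, α w ∈ U' ↔ w ∈ U := by
    rintro U _ rfl w
    exact Subgroup.mem_map_iff_mem (f := α.toMonoidHom) α.injective
  have hne : (V1 : Subgroup W) ≠ V2 := fun h => gen_mem.2.1 (by
    have h1 : e ∈ V1 := gen_mem.1
    rwa [h] at h1)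
  have hinj := Subgroup.map_injective (f := α.toMonoidHom) α.injective
  rcases key V1 (Or.inl rfl) with h1 | h1 <;> rcases key V2 (Or.inr rfl) with h2 | h2
  · exact absurd (hinj (h1.trans h2.symm)) hne
  · exact Or.inl ⟨hiff V1 V1 h1, hiff V2 V2 h2⟩
  · exact Or.inr ⟨hiff V1 V2 h1, hiff V2 V1 h2⟩
  · exact absurd (hinj (h1.trans h2.symm)) hne

theorem aut_z0 (α : W ≃* W) : α z0 = z0 := by
  have h : ∀ u, α z0 * u = u * α z0 := by
    intro u
    obtain ⟨v, rfl⟩ := α.surjective u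
    rw [← map_mul, ← map_mul, z0_comm]
  rcases (center_W _).mp ⟨h _, h _, h _⟩ with h1 | h1
  · exact absurd ((map_eq_one_iff α α.injective).mp h1) gen_rel.2.2.2.2.2.2.2.2.2.2.2.2.1
  · exact h1

theorem aut_z (α : W ≃* W) : (α z = z ∧ α z' = z') ∨ (α z = z' ∧ α z' = z) := by
  obtain ⟨-, -, -, -, -, -, -, hz, hzz, -, -, -, -, hz1⟩ := gen_rel
  have hZ : inZ (α z) := by
    rw [← hz, map_mul, map_mul]
    rcases aut_perm α with ⟨h1, h2⟩ | ⟨h1, h2⟩
    · exact (comm_sq _ ((h1 e).mpr gen_mem.1) _ ((h2 f).mpr gen_mem.2.2.2.2.1)).1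
    · exact (comm_sq _ ((h2 f).mpr gen_mem.2.2.2.2.1) _ ((h1 e).mpr gen_mem.1)).2
  have hz' : α z' = α z * z0 := by rw [← hzz, map_mul, aut_z0]
  rcases (inZ_iff _).mp hZ with h | h | h | h
  · exact absurd ((map_eq_one_iff α α.injective).mp h) hz1
  · exact Or.inl ⟨h, by rw [hz', h, hzz]⟩
  · refine Or.inr ⟨h, ?_⟩
    rw [hz', h]
    decide +kernel
  · exact absurd (α.injective (h.trans (aut_z0 α).symm)) (by decide +kernel)

theorem aut_Z_fix (α : W ≃* W) (h : α z = z) : ∀ w, inZ w → α w = w := by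
  have h' : α z' = z' := by
    rcases aut_z α with ⟨-, h2⟩ | ⟨h2, -⟩
    · exact h2
    · exact absurd (h.symm.trans h2) gen_rel.2.2.2.2.2.2.2.2.2.2.2.1
  intro w hw
  rcases (inZ_iff w).mp hw with rfl | rfl | rfl | rfl
  exacts [map_one α, h, h', aut_z0 α]

end H31.DWr
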