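import Mathlib
import Cfsg.Prelude.Def_CaseTheorems
import Cfsg.Agent.H31.WreathFacts
import Cfsg.Agent.H31.TwoCentres

/-! `D ≀ C₂` as a proper subgroup of a 2-group of sectional rank at most four. -/

set_option autoImplicit false
set_option linter.style.haveILetI false

set_option linter.unusedSectionVars false

namespace H31.DWr

open H31.TwoCentres

variable {S : Type*} [Group S] [Finite S] {ι : W →* S}

theorem apply_comm (hι : Function.Injective ι) {u v : W} :
    ι u * ι v = ι v * ι u ↔ u * v = v * u := by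
  rw [← map_mul, ← map_mul, hι.eq_iff]

theorem mem_center_comm {c : S} (hc : ∀ w, c * ι w = ι w * c) (P : Subgroup S) (hP : P ≤ ι.range) (x : S)
    (hx : x ∈ P) : c * x * c⁻¹ ∈ P := by
  obtain ⟨w, rfl⟩ := hP hx
  rwa [hc, mul_inv_cancel_right]

/-- The centraliser is the centre. -/
theorem centraliser_eq (h2 : IsPGroup 2 S) (hr : Cfsg.SectionalPRankLE 2 4 S) (hι : Function.Injective ι) (c : S)
    (hc : ∀ w, c * ι w = ι w * c) : c = 1 ∨ c = ι z0 := by
  let i₁ : D →* W := MonoidHom.mk' (fun a => ⟨a, 1, false⟩) fun a b => by rw [mk_mul_false, mul_one]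
  let i₂ : D →* W := MonoidHom.mk' (fun a => ⟨1, a, false⟩) fun a b => by rw [mk_mul_false, mul_one]
  have hD : ∀ a : D, (∀ b : D, a * b = b * a) ↔ (a = 1 ∨ a = .r 2) := by decide +kernel
  have hcen : ∀ (i : D →* W), Function.Injective i → Cen (ι.comp i).range (ι (i (.r 2))) := by
    intro i hi
    have hii : Function.Injective (ι.comp i) := hι.comp hi
    refine ⟨⟨_, rfl⟩, fun h => ?_, fun x => ⟨?_, ?_⟩⟩
    · have := hii (h.trans (map_one (ι.comp i)).symm)
      exact absurd this (by decide)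
    · rintro ⟨⟨a, rfl⟩, h⟩
      rcases (hD a).mp (fun b => hii (by rw [map_mul, map_mul]; exact h _ ⟨b, rfl⟩)) with rfl | rfl
      exacts [Or.inl (map_one _), Or.inr rfl]
    · rintro (rfl | rfl)
      · exact ⟨one_mem _, fun y _ => by rw [one_mul, mul_one]⟩
      · refine ⟨⟨_, rfl⟩, ?_⟩
        rintro _ ⟨b, rfl⟩
        show ι.comp i (.r 2) * ι.comp i b = ι.comp i b * ι.comp i (.r 2)
        rw [← map_mul, ← map_mul, (hD _).mpr (Or.inr rfl)]
  have hi₁ : Function.Injective i₁ := fun a b h => congrArg W.fst h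
  have hi₂ : Function.Injective i₂ := fun a b h => congrArg W.snd h
  have hnc : ∀ (i : D →* W), Function.Injective i →
      ∃ a ∈ (ι.comp i).range, ∃ b ∈ (ι.comp i).range, a * b ≠ b * a := by
    intro i hi
    refine ⟨_, ⟨.sr 0, rfl⟩, _, ⟨.sr 1, rfl⟩, fun h => ?_⟩
    rw [← map_mul, ← map_mul] at h
    exact absurd ((hι.comp hi) h) (by decide)
  set A := (ι.comp i₁).range with hA
  set B := (ι.comp i₂).range with hB
  have hAr : A ≤ ι.range := by rintro _ ⟨a, rfl⟩; exact ⟨_, rfl⟩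
  have hBr : B ≤ ι.range := by rintro _ ⟨a, rfl⟩; exact ⟨_, rfl⟩
  set T := Subgroup.normalizer (A : Set S) ⊓ Subgroup.normalizer (B : Set S) with hT
  have hmemN : ∀ (P : Subgroup S) (g : S), (∀ x ∈ P, g * x * g⁻¹ ∈ P) → g ∈ Subgroup.normalizer (P : Set S) :=
    fun P g h => by
    rw [Subgroup.mem_normalizer_iff]
    refine fun x => ⟨h x, fun hx => ?_⟩
    have hle : P.map (MulAut.conj g).toMonoidHom = P := Subgroup.eq_of_le_of_card_ge
      (by rintro _ ⟨y, hy, rfl⟩; exact h y hy)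
      (Subgroup.card_map_of_injective (MulAut.conj g).injective).ge
    rw [← hle] at hx
    obtain ⟨y, hy, hyx⟩ := hx
    rwa [← (MulAut.conj g).injective (a₁ := y) (a₂ := x) hyx]
  have hAB : ∀ a ∈ A, ∀ b ∈ B, a * b = b * a := by
    rintro _ ⟨a, rfl⟩ _ ⟨b, rfl⟩
    show ι (i₁ a) * ι (i₂ b) = ι (i₂ b) * ι (i₁ a)
    rw [apply_comm hι]
    show (⟨a, 1, false⟩ : W) * ⟨1, b, false⟩ = ⟨1, b, false⟩ * ⟨a, 1, false⟩
    simp [mk_mul_false]
  have hAT : A ≤ T := fun a ha => ⟨Subgroup.le_normalizer ha, hmemN B a fun x hx => by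
    rw [hAB a ha x hx, mul_inv_cancel_right]; exact hx⟩
  have hBT : B ≤ T := fun b hb => ⟨hmemN A b fun x hx => by
    rw [← hAB x hx b hb, mul_inv_cancel_right]; exact hx, Subgroup.le_normalizer hb⟩
  obtain ⟨-, -, hcent⟩ := two_normal_in h2 hr T A B hAT hBT
    (fun s hs x hx => (Subgroup.mem_normalizer_iff.mp hs.1 x).mp hx)
    (fun s hs x hx => (Subgroup.mem_normalizer_iff.mp hs.2 x).mp hx) (hcen i₁ hi₁) (hcen i₂ hi₂)
    (fun h => gen_rel.2.2.2.2.2.2.2.2.2.2.2.1 (hι h)) (hnc i₁ hi₁) (hnc i₂ hi₂)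
  have hcT : c ∈ T := ⟨hmemN A c (mem_center_comm hc A hAr), hmemN B c (mem_center_comm hc B hBr)⟩
  have hcc := hcent c hcT (fun a ha => by obtain ⟨w, rfl⟩ := hAr ha; exact hc w)
    (fun a ha => by obtain ⟨w, rfl⟩ := hBr ha; exact hc w)
  have hz : i₁ (.r 2) = z := rfl
  have hz' : i₂ (.r 2) = z' := rfl
  rw [hz, hz', ← map_mul, show z * z' = z0 from rfl] at hcc
  have ht := hc t
  rcases hcc with h | h | h | h
  · exact Or.inl h
  · rw [h, apply_comm hι] at ht; exact absurd ht (by decide +kernel)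
  · rw [h, apply_comm hι] at ht; exact absurd ht (by decide +kernel)
  · exact Or.inr h

theorem center_eq (h2 : IsPGroup 2 S) (hr : Cfsg.SectionalPRankLE 2 4 S) (hι : Function.Injective ι) (x : S) :
    x ∈ Subgroup.center S ↔ (x = 1 ∨ x = ι z0) := by
  haveI : Fact (Nat.Prime 2) := ⟨Nat.prime_two⟩
  have h : ∀ x ∈ Subgroup.center S, x = 1 ∨ x = ι z0 := fun x hx =>
    centraliser_eq h2 hr hι x fun w => ((Subgroup.mem_center_iff.mp hx) _).symm
  refine ⟨h x, ?_⟩
  haveI : Nontrivial S := nontrivial_of_ne (ι z0) 1 fun e =>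
    gen_rel.2.2.2.2.2.2.2.2.2.2.2.2.1 (hι (e.trans (map_one ι).symm))
  haveI := h2.center_nontrivial
  obtain ⟨⟨c, hc⟩, hc1⟩ := exists_ne (1 : Subgroup.center S)
  rcases h c hc with rfl | rfl
  · exact absurd rfl hc1
  · rintro (rfl | rfl)
    exacts [one_mem _, hc]

omit [Finite S] in
theorem exists_aut (hι : Function.Injective ι) {g : S} (hg : g ∈ Subgroup.normalizer (ι.range : Set S)) :
    ∃ α : W ≃* W, ∀ w, ι (α w) = g * ι w * g⁻¹ := by
  let e₀ := MonoidHom.ofInjective hι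
  have hm : ∀ w, g * ι w * g⁻¹ ∈ ι.range := fun w => (Subgroup.mem_normalizer_iff.mp hg _).mp ⟨w, rfl⟩
  choose a ha using fun w => MonoidHom.mem_range.mp (hm w)
  let φ : W →* W := MonoidHom.mk' a fun u v => hι (by rw [ha, map_mul, map_mul, ha, ha]; group)
  have hφ : Function.Injective φ := fun u v h => hι (by
    have h1 : g * ι u * g⁻¹ = g * ι v * g⁻¹ := by rw [← ha, ← ha]; exact congrArg ι h
    exact mul_left_cancel (mul_right_cancel h1))
  exact ⟨MulEquiv.ofBijective φ (Finite.injective_iff_bijective.mp hφ), ha⟩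

omit [Finite S] in
/-- The same element shifted on the right by an element of the subgroup. -/
theorem aut_mul {g : S} {α : W ≃* W} (hα : ∀ w, ι (α w) = g * ι w * g⁻¹) (u : W) :
    ∀ w, ι (((MulAut.conj u).trans α) w) = g * ι u * ι w * (g * ι u)⁻¹ := by
  intro w
  show ι (α (u * w * u⁻¹)) = _
  rw [hα, map_mul, map_mul, map_inv]
  group

omit [Finite S] in
theorem mul_mem_norm {g : S} (hg : g ∈ Subgroup.normalizer (ι.range : Set S)) (hgP : g ∉ ι.range) (u : W) :
    g * ι u ∈ Subgroup.normalizer (ι.range : Set S) ∧ g * ι u ∉ ι.range :=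
  ⟨mul_mem hg (Subgroup.le_normalizer ⟨u, rfl⟩), fun h => hgP ((Subgroup.mul_mem_cancel_right ι.range (MonoidHom.mem_range.mpr ⟨u, rfl⟩)).mp h)⟩

/-- An element outside, with square inside, cannot fix both subgroups. -/
theorem no_fix (hr : Cfsg.SectionalPRankLE 2 4 S) (hι : Function.Injective ι) {g : S}
    (hgP : g ∉ ι.range) (hgg : g * g ∈ ι.range) (α : W ≃* W) (hα : ∀ w, ι (α w) = g * ι w * g⁻¹)
    (hV : (∀ w, inV1 (α w) ↔ inV1 w) ∧ ∀ w, inV2 (α w) ↔ inV2 w) (hz : α z = z) : False := by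
  haveI : Fact (Nat.Prime 2) := ⟨Nat.prime_two⟩
  have hfix := aut_Z_fix α hz
  have hz' : α z' = z' := hfix _ ((inZ_iff _).mpr (Or.inr (Or.inr (Or.inl rfl))))
  have hnZ : ∀ w, inV1 w ∧ ¬ inV2 w ∨ inV2 w ∧ ¬ inV1 w → ¬ inZ (α w) := by
    intro w hw hZ
    obtain ⟨a, b⟩ := (V1_inter_V2 _).mpr hZ
    rw [hV.1] at a
    rw [hV.2] at b
    tauto
  obtain ⟨ge1, ge2, ge'1, ge'2, gf1, gf2, gf'1, gf'2⟩ := gen_mem
  have he : inZ (e * α e) := by
    refine find_e _ ((hV.1 e).mpr ge1) (hnZ e (Or.inl ⟨ge1, ge2⟩)) fun u hu => ?_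
    obtain ⟨u, rfl⟩ := α.surjective u
    rw [← map_mul, ← map_mul]
    rcases e_sq u ((hV.2 u).mp hu) with h | h <;> rw [h]
    exacts [Or.inl (map_one α), Or.inr hz]
  have hf : inZ (f * α f) := by
    refine find_f _ ((hV.2 f).mpr gf1) (hnZ f (Or.inr ⟨gf1, gf2⟩)) fun u hu => ?_
    obtain ⟨u, rfl⟩ := α.surjective u
    rw [← map_mul, ← map_mul]
    rcases f_sq u ((hV.1 u).mp hu) with h | h <;> rw [h]
    exacts [Or.inl (map_one α), Or.inr hz]
  have he' : inZ (e' * α e') := by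
    refine find_e' _ ((hV.1 e').mpr ge'1) (hnZ e' (Or.inl ⟨ge'1, ge'2⟩)) fun u hu => ?_
    obtain ⟨u, rfl⟩ := α.surjective u
    rw [← map_mul, ← map_mul]
    rcases e'_sq u ((hV.2 u).mp hu) with h | h <;> rw [h]
    exacts [Or.inl (map_one α), Or.inr hz']
  have hf' : inZ (f' * α f') := by
    refine find_f' _ ((hV.2 f').mpr gf'1) (hnZ f' (Or.inr ⟨gf'1, gf'2⟩)) fun u hu => ?_
    obtain ⟨u, rfl⟩ := α.surjective u
    rw [← map_mul, ← map_mul]
    rcases f'_sq u ((hV.1 u).mp hu) with h | h <;> rw [h]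
    exacts [Or.inl (map_one α), Or.inr hz']
  obtain ⟨ree, rff, ree', rff', -⟩ := gen_rel
  obtain ⟨u, hu⟩ := MonoidHom.mem_range.mp hgg
  have hconj : ∀ w, α (α w) = u * w * u⁻¹ := fun w => hι (by
    rw [hα, hα, map_mul, map_mul, map_inv, hu]; group)
  have hsq : ∀ x : W, x * x = 1 → inZ (x * α x) → u * x = x * u := by
    intro x hx hxz
    have h1 : α x = x * (x * α x) := by rw [← mul_assoc, hx, one_mul]
    have h3 : α (α x) = x := by
      rw [h1, map_mul, hfix _ hxz]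
      nth_rw 1 [h1]
      rw [mul_assoc, (inZ_sq _ hxz).1, mul_one]
    rw [hconj] at h3
    exact mul_inv_eq_iff_eq_mul.mp h3
  have huZ : inZ u := base_centraliser u ⟨hsq e ree he, hsq f rff hf, hsq e' ree' he', hsq f' rff' hf'⟩
  set Zs : Subgroup S := (V1 ⊓ V2 : Subgroup W).map ι with hZs
  have hmemZ : ∀ w, inZ w → ι w ∈ Zs := fun w hw => ⟨w, (V1_inter_V2 w).mpr hw, rfl⟩
  set gens : Set S := {g, ι e, ι f, ι e', ι f'} with hgens
  set H := Subgroup.closure gens with hH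
  have hsub : ∀ x ∈ gens, x ∈ H := fun x hx => Subgroup.subset_closure hx
  have hgH : g ∈ H := hsub g (Or.inl rfl)
  have hBH : base.map ι ≤ H := by
    rw [Subgroup.map_le_iff_le_comap]
    exact base_le _ (hsub _ (Or.inr (Or.inl rfl))) (hsub _ (Or.inr (Or.inr (Or.inl rfl))))
      (hsub _ (Or.inr (Or.inr (Or.inr (Or.inl rfl))))) (hsub _ (Or.inr (Or.inr (Or.inr (Or.inr rfl)))))
  have hcen : ∀ x ∈ H, ∀ c ∈ Zs, x * c = c * x := by
    intro x hx c hc
    obtain ⟨w, hw, rfl⟩ := hc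
    have hwZ := (V1_inter_V2 w).mp hw
    have hle : H ≤ Subgroup.centralizer {ι w} := by
      rw [hH, Subgroup.closure_le]
      rintro y (rfl | rfl | rfl | rfl | rfl) c rfl
      · have := hα w
        rw [hfix w hwZ] at this
        exact mul_inv_eq_iff_eq_mul.mp this.symm |>.symm
      all_goals exact (apply_comm hι).mpr ((inZ_sq w hwZ).2 _ rfl).symm
    exact ((hle hx) _ rfl).symm
  have hZsH : Zs ≤ H := le_trans (Subgroup.map_mono fun w hw => hw.1.1) hBH
  set N := Zs.subgroupOf H with hN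
  haveI : N.Normal := ⟨fun n hn x => by
    have h := hcen x x.2 n (Subgroup.mem_subgroupOf.mp hn)
    rw [Subgroup.mem_subgroupOf] at hn ⊢
    simpa [h] using hn⟩
  set π := QuotientGroup.mk' N with hπ
  have hπ1 : ∀ a : H, (a : S) ∈ Zs → π a = 1 := fun a ha =>
    (QuotientGroup.eq_one_iff a).mpr (Subgroup.mem_subgroupOf.mpr ha)
  have hgen : ∀ x y : H, (x : S) ∈ gens → (y : S) ∈ gens → Commute (π x) (π y) ∧ π x * π x = 1 := by
    intro x y hx hy
    refine ⟨?_, ?_⟩
    · rw [← commutatorElement_eq_one_iff_commute, ← map_commutatorElement]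
      refine hπ1 _ ?_
      simp only [commutatorElement_def, Subgroup.coe_mul, Subgroup.coe_inv]
      have hgg' : ∀ k : W, k.swap = false → k * k = 1 → inZ (k * α k) →
          g * ι k * g⁻¹ * (ι k)⁻¹ ∈ Zs ∧ ι k * g * (ι k)⁻¹ * g⁻¹ ∈ Zs := by
        intro k hks hk hkz
        have h1 : g * ι k * g⁻¹ * (ι k)⁻¹ = ι (α k * k⁻¹) := by rw [map_mul, map_inv, hα]
        have h2 : α k * k⁻¹ = k * α k := by
          have hc := (inZ_sq _ hkz).2
          rw [inv_eq_of_mul_eq_one_right hk]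
          calc α k * k = k * (k * α k) * k := by rw [← mul_assoc k k, hk, one_mul]
            _ = k * α k := by
              rw [mul_assoc, ← hc k hks, ← mul_assoc, hk, one_mul]
        rw [h2] at h1
        refine ⟨h1 ▸ hmemZ _ hkz, ?_⟩
        rw [show ι k * g * (ι k)⁻¹ * g⁻¹ = (g * ι k * g⁻¹ * (ι k)⁻¹)⁻¹ by group]
        exact Zs.inv_mem (h1 ▸ hmemZ _ hkz)
      obtain ⟨c1, c2, c3, c4, c5, c6⟩ := gen_comm
      have hpair : ∀ k l : W, k * k = 1 → l * l = 1 → inZ (k * l * k * l) →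
          ι k * ι l * (ι k)⁻¹ * (ι l)⁻¹ ∈ Zs ∧ ι l * ι k * (ι l)⁻¹ * (ι k)⁻¹ ∈ Zs := by
        intro k l hk hl hkl
        have h1 : ι k * ι l * (ι k)⁻¹ * (ι l)⁻¹ = ι (k * l * k * l) := by
          rw [← map_inv, ← map_inv, inv_eq_of_mul_eq_one_right hk, inv_eq_of_mul_eq_one_right hl]
          simp only [map_mul]
        refine ⟨h1 ▸ hmemZ _ hkl, ?_⟩
        rw [show ι l * ι k * (ι l)⁻¹ * (ι k)⁻¹ = (ι k * ι l * (ι k)⁻¹ * (ι l)⁻¹)⁻¹ by group]
        exact Zs.inv_mem (h1 ▸ hmemZ _ hkl)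
      rcases hx with hx | hx | hx | hx | hx <;> rcases hy with hy | hy | hy | hy | hy <;> rw [hx, hy] <;>
        first
          | (simp only [mul_inv_cancel_right, mul_inv_cancel]; exact one_mem Zs)
          | exact (hgg' e rfl ree he).1
          | exact (hgg' e rfl ree he).2
          | exact (hgg' f rfl rff hf).1
          | exact (hgg' f rfl rff hf).2
          | exact (hgg' e' rfl ree' he').1
          | exact (hgg' e' rfl ree' he').2
          | exact (hgg' f' rfl rff' hf').1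
          | exact (hgg' f' rfl rff' hf').2
          | exact (hpair _ _ ree rff c1).1
          | exact (hpair _ _ ree rff c1).2
          | exact (hpair _ _ ree ree' c2).1
          | exact (hpair _ _ ree ree' c2).2
          | exact (hpair _ _ ree rff' c3).1
          | exact (hpair _ _ ree rff' c3).2
          | exact (hpair _ _ rff ree' c4).1
          | exact (hpair _ _ rff ree' c4).2
          | exact (hpair _ _ rff rff' c5).1
          | exact (hpair _ _ rff rff' c5).2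
          | exact (hpair _ _ ree' rff' c6).1
          | exact (hpair _ _ ree' rff' c6).2
    · rw [← map_mul]
      refine hπ1 _ ?_
      rw [Subgroup.coe_mul]
      rcases hx with hx | hx | hx | hx | hx <;> rw [hx]
      · rw [← hu]; exact hmemZ u huZ
      · rw [← map_mul, ree, map_one]; exact one_mem _
      · rw [← map_mul, rff, map_one]; exact one_mem _
      · rw [← map_mul, ree', map_one]; exact one_mem _
      · rw [← map_mul, rff', map_one]; exact one_mem _
  have hext : ∀ L : Subgroup H, (∀ x : H, (x : S) ∈ gens → x ∈ L) → ∀ x : H, x ∈ L := by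
    intro L hL x
    have hle : H ≤ L.map H.subtype := by
      refine (Subgroup.closure_le _).mpr ?_
      exact fun y hy => ⟨⟨y, hsub y hy⟩, hL _ hy, rfl⟩
    obtain ⟨y, hy, hyx⟩ := hle x.2
    exact Subtype.ext hyx ▸ hy
  have hc1 : ∀ x y : H, (x : S) ∈ gens → Commute (π x) (π y) := fun x y hx =>
    hext ((Subgroup.centralizer {π x}).comap π)
      (fun y hy => Subgroup.mem_comap.mpr fun c hc => by rw [hc]; exact (hgen x y hx hy).1) y _ rfl
  have hc2 : ∀ x y : H, Commute (π x) (π y) := fun x y =>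
    hext ((Subgroup.centralizer {π x}).comap π)
      (fun y hy => Subgroup.mem_comap.mpr fun c hc => by rw [hc]; exact (hc1 y x hy).symm) y _ rfl
  let L : Subgroup H :=
    { carrier := {x | π x * π x = 1}
      one_mem' := by simp
      mul_mem' := fun {a b} ha hb => by
        show π (a * b) * π (a * b) = 1
        rw [map_mul, (hc2 b a).mul_mul_mul_comm, ha, hb, one_mul]
      inv_mem' := fun {a} ha => by
        show π a⁻¹ * π a⁻¹ = 1
        rw [map_inv, ← mul_inv_rev, ha, inv_one] }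
  have hsq2 : ∀ x : H, π x * π x = 1 := hext L fun x hx => (hgen x x hx hx).2
  have hQ := pRankLE_of_section hr H.subtype H.subtype_injective π (QuotientGroup.mk'_surjective N) ⊤
    ⟨⟨fun a b => by
      obtain ⟨x, hx⟩ := QuotientGroup.mk'_surjective N a.1
      obtain ⟨y, hy⟩ := QuotientGroup.mk'_surjective N b.1
      exact Subtype.ext (by show a.1 * b.1 = b.1 * a.1; rw [← hx, ← hy]; exact (hc2 x y).eq)⟩⟩
    (fun a _ => by
      obtain ⟨x, rfl⟩ := QuotientGroup.mk'_surjective N a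
      rw [pow_two]; exact hsq2 x)
  rw [Subgroup.card_top] at hQ
  have hB64 : Nat.card (base.map ι) = 64 := by rw [Subgroup.card_map_of_injective hι, card_base]
  have hlt : base.map ι < H := lt_of_le_of_ne hBH fun h => hgP (by
    rw [← h] at hgH
    obtain ⟨w, -, hw⟩ := hgH
    exact ⟨w, hw⟩)
  have hcard : 128 ≤ Nat.card H := by
    obtain ⟨k, hk⟩ := Subgroup.card_dvd_of_le hBH
    rw [hB64] at hk
    rcases k with - | - | k
    · exact absurd hk Nat.card_pos.ne'
    · exact absurd (Subgroup.eq_of_le_of_card_ge hBH (by rw [hB64, hk])) hlt.ne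
    · omega
  have hN4 : Nat.card N = 4 := by
    rw [Nat.card_congr (Subgroup.subgroupOfEquivOfLe hZsH).toEquiv, hZs, Subgroup.card_map_of_injective hι, card_Z]
  have := Subgroup.card_eq_card_quotient_mul_card_subgroup N
  rw [hN4] at this
  omega

/-- An element of both normalisers lies in the subgroup. -/
theorem mem_range_of_fix (h2 : IsPGroup 2 S) (hr : Cfsg.SectionalPRankLE 2 4 S) (hι : Function.Injective ι) (g : S)
    (α : W ≃* W) (hα : ∀ w, ι (α w) = g * ι w * g⁻¹)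
    (hV : ∀ w, inV1 (α w) ↔ inV1 w) : g ∈ ι.range := by
  classical
  by_contra hgP
  have key : ∀ (k : S) (β : W ≃* W), (∀ w, ι (β w) = k * ι w * k⁻¹) → (∀ w, inV1 (β w) ↔ inV1 w) → k ∉ ι.range →
      k * k ∈ ι.range → False := by
    intro k β hβ hV1 hk hkk
    have hkn : k ∈ Subgroup.normalizer (ι.range : Set S) := by
      rw [Subgroup.mem_normalizer_iff]
      refine fun x => ⟨?_, ?_⟩
      · rintro ⟨w, rfl⟩; exact ⟨β w, hβ w⟩
      · rintro ⟨w, hw⟩
        obtain ⟨v, rfl⟩ := β.surjective w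
        rw [hβ] at hw
        exact ⟨v, mul_left_cancel (mul_right_cancel hw)⟩
    have hV2 : ∀ γ : W ≃* W, (∀ w, inV1 (γ w) ↔ inV1 w) → ∀ w, inV2 (γ w) ↔ inV2 w := by
      intro γ h1
      rcases aut_perm γ with ⟨-, h⟩ | ⟨h, -⟩
      · exact h
      · exfalso
        rcases aut_perm γ with ⟨-, h'⟩ | ⟨-, h'⟩
        · exact gen_mem.2.1 ((h' e).mp ((h e).mpr gen_mem.1))
        · exact gen_mem.2.1 ((h' e).mp ((h1 e).mpr gen_mem.1))
    rcases aut_z β with ⟨hz, -⟩ | ⟨-, hz⟩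
    · exact no_fix hr hι hk hkk β hβ ⟨hV1, hV2 β hV1⟩ hz
    · have h1 : ∀ w, inV1 (((MulAut.conj t).trans β) w) ↔ inV1 w := fun w => by
        show inV1 (β (t * w * t⁻¹)) ↔ _
        rw [hV1]
        refine ⟨fun h => ?_, V1_normal t w⟩
        have := V1_normal t⁻¹ _ h
        rwa [show t⁻¹ * (t * w * t⁻¹) * t⁻¹⁻¹ = w by group] at this
      have h3 : k * ι t * (k * ι t) ∈ ι.range := by
        rw [show k * ι t * (k * ι t) = (k * ι t * k⁻¹) * (k * k) * ι t by group]
        exact mul_mem (mul_mem ((Subgroup.mem_normalizer_iff.mp hkn _).mp ⟨t, rfl⟩) hkk) ⟨t, rfl⟩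
      refine no_fix hr hι (mul_mem_norm hkn hk t).2 h3 _ (aut_mul hβ t) ⟨h1, hV2 _ h1⟩ ?_
      show β (t * z * t⁻¹) = z
      rw [inv_eq_of_mul_eq_one_right gen_rel.2.2.2.2.1, gen_rel.2.2.2.2.2.2.2.2.2.1, hz]
  obtain ⟨m, hm⟩ := IsPGroup.iff_orderOf.mp h2 g
  have hex : ∃ i, g ^ (2 ^ i) ∈ ι.range := ⟨m, by rw [← hm, pow_orderOf_eq_one]; exact one_mem _⟩
  obtain ⟨j, hj⟩ : ∃ j, Nat.find hex = j + 1 := ⟨Nat.find hex - 1, by
    have : Nat.find hex ≠ 0 := fun h => hgP (by have := Nat.find_spec hex; rwa [h, pow_zero, pow_one] at this)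
    omega⟩
  have hit : ∀ n : ℕ, ∃ β : W ≃* W, (∀ w, ι (β w) = g ^ n * ι w * (g ^ n)⁻¹) ∧ ∀ w, inV1 (β w) ↔ inV1 w := by
    intro n
    induction n with
    | zero => exact ⟨MulEquiv.refl W, fun w => by simp, fun w => Iff.rfl⟩
    | succ n ih =>
      obtain ⟨β, hβ, hβV⟩ := ih
      refine ⟨β.trans α, fun w => ?_, fun w => (hV _).trans (hβV w)⟩
      show ι (α (β w)) = _
      rw [hα, hβ, pow_succ']
      group
  obtain ⟨β, hβ, hβV⟩ := hit (2 ^ j)
  refine key _ β hβ hβV (Nat.find_min hex (by omega)) ?_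
  have := Nat.find_spec hex
  rwa [hj, pow_succ, pow_mul, pow_two] at this

theorem mem_range_iff_fix (h2 : IsPGroup 2 S) (hr : Cfsg.SectionalPRankLE 2 4 S) (hι : Function.Injective ι) {g : S}
    {α : W ≃* W} (hα : ∀ w, ι (α w) = g * ι w * g⁻¹) : g ∈ ι.range ↔ ∀ w, inV1 (α w) ↔ inV1 w := by
  refine ⟨?_, mem_range_of_fix h2 hr hι g α hα⟩
  rintro ⟨u, rfl⟩ w
  have h : α w = u * w * u⁻¹ := hι (by rw [hα, map_mul, map_mul, map_inv])
  rw [h]
  refine ⟨fun hw => ?_, V1_normal u w⟩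
  have := V1_normal u⁻¹ _ hw
  rwa [show u⁻¹ * (u * w * u⁻¹) * u⁻¹⁻¹ = w by group] at this

/-- An element of the normaliser outside the subgroup interchanges the two subgroups. -/
theorem swaps (h2 : IsPGroup 2 S) (hr : Cfsg.SectionalPRankLE 2 4 S) (hι : Function.Injective ι) {g : S}
    (hgP : g ∉ ι.range) {α : W ≃* W} (hα : ∀ w, ι (α w) = g * ι w * g⁻¹) :
    (∀ w, inV2 (α w) ↔ inV1 w) ∧ ∀ w, inV1 (α w) ↔ inV2 w := by
  rcases aut_perm α with ⟨h, -⟩ | h
  · exact absurd ((mem_range_iff_fix h2 hr hι hα).mpr h) hgP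
  · exact h

theorem exists_outside (h2 : IsPGroup 2 S) (hne : ι.range ≠ ⊤) :
    ∃ g ∈ Subgroup.normalizer (ι.range : Set S), g ∉ ι.range := by
  haveI : Fact (Nat.Prime 2) := ⟨Nat.prime_two⟩
  haveI := h2.isNilpotent
  exact SetLike.exists_of_lt (Group.normalizerCondition_of_isNilpotent _ (lt_top_iff_ne_top.mpr hne))

theorem relIndex_two (h2 : IsPGroup 2 S) (hr : Cfsg.SectionalPRankLE 2 4 S) (hι : Function.Injective ι)
    (hne : ι.range ≠ ⊤) : ι.range.relIndex (Subgroup.normalizer (ι.range : Set S)) = 2 := by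
  obtain ⟨g, hg, hgP⟩ := exists_outside h2 hne
  rw [Subgroup.relIndex, Subgroup.index_eq_two_iff]
  refine ⟨⟨g, hg⟩, fun b => ?_⟩
  simp only [Subgroup.mem_subgroupOf, Subgroup.coe_mul]
  by_cases hb : (b : S) ∈ ι.range
  · exact Or.inr ⟨hb, fun h => hgP ((Subgroup.mul_mem_cancel_left _ hb).mp h)⟩
  · refine Or.inl ⟨?_, hb⟩
    obtain ⟨α, hα⟩ := exists_aut hι hg
    obtain ⟨β, hβ⟩ := exists_aut hι b.2
    have hαβ : ∀ w, ι ((α.trans β) w) = (b : S) * g * ι w * ((b : S) * g)⁻¹ := fun w => by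
      show ι (β (α w)) = _
      rw [hβ, hα]
      group
    refine (mem_range_iff_fix h2 hr hι hαβ).mpr fun w => ?_
    show inV1 (β (α w)) ↔ _
    rw [(swaps h2 hr hι hb hβ).2, (swaps h2 hr hι hgP hα).1]

theorem normalizer_map_eq (h2 : IsPGroup 2 S) (hr : Cfsg.SectionalPRankLE 2 4 S) (hι : Function.Injective ι)
    (U : Subgroup W) (hU : U = V1 ∨ U = V2) : Subgroup.normalizer (U.map ι : Set S) = ι.range := by
  haveI : Fact (Nat.Prime 2) := ⟨Nat.prime_two⟩
  set V := U.map ι with hV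
  have hUn : ∀ u w, w ∈ U → u * w * u⁻¹ ∈ U := by
    rcases hU with rfl | rfl
    exacts [V1_normal, V2_normal]
  have hle : ι.range ≤ Subgroup.normalizer (V : Set S) := by
    rintro _ ⟨u, rfl⟩
    rw [Subgroup.mem_normalizer_iff]
    refine fun x => ⟨?_, ?_⟩
    · rintro ⟨w, hw, rfl⟩
      exact ⟨_, hUn u w hw, by rw [map_mul, map_mul, map_inv]⟩
    · rintro ⟨w, hw, hwx⟩
      refine ⟨_, hUn u⁻¹ w hw, ?_⟩
      rw [map_mul, map_mul, inv_inv, map_inv, hwx]
      group
  refine le_antisymm ?_ hle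
  by_contra hlt
  set T := Subgroup.normalizer (V : Set S) with hT
  haveI := (h2.to_subgroup T).isNilpotent
  have hne : ι.range.subgroupOf T ≠ ⊤ := fun h => hlt (Subgroup.subgroupOf_eq_top.mp h)
  obtain ⟨g, hgN, hgP⟩ := SetLike.exists_of_lt
    (Group.normalizerCondition_of_isNilpotent _ (lt_top_iff_ne_top.mpr hne))
  have hgN' : (g : S) ∈ Subgroup.normalizer (ι.range : Set S) := by
    rw [Subgroup.mem_normalizer_iff] at hgN ⊢
    intro x
    refine ⟨fun hx => (hgN ⟨x, hle hx⟩).mp hx, fun hx => ?_⟩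
    have hxT : x ∈ T := by
      have := T.mul_mem (T.mul_mem (T.inv_mem g.2) (hle hx)) g.2
      rwa [show (g : S)⁻¹ * (g * x * (g : S)⁻¹) * g = x by group] at this
    exact (hgN ⟨x, hxT⟩).mpr hx
  obtain ⟨α, hα⟩ := exists_aut hι hgN'
  have hfix : ∀ w, w ∈ U → α w ∈ U := by
    intro w hw
    have h : (g : S) * ι w * (g : S)⁻¹ ∈ V := (Subgroup.mem_normalizer_iff.mp g.2 _).mp ⟨w, hw, rfl⟩
    rw [← hα] at h
    exact (Subgroup.mem_map_iff_mem hι).mp h
  have hs := swaps h2 hr hι hgP hα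
  rcases hU with rfl | rfl
  · exact gen_mem.2.1 ((hs.2 e).mp (hfix e gen_mem.1))
  · exact gen_mem.2.2.2.2.2.1 ((hs.1 f).mp (hfix f gen_mem.2.2.2.2.1))

theorem t_inv : t⁻¹ = t := inv_eq_of_mul_eq_one_right gen_rel.2.2.2.2.1

theorem v_facts : ∀ v : W, inZ (f * v) →
    (∀ w : W, inV1 w → w.swap = false) ∧
    v * v = 1 ∧ e * v * (e * v) = z ∧ e * (t * v * t) = t * v * t * e ∧ v * (t * v * t) = t * v * t * v ∧
    e * e' * (v * (e * e')) = v * z ∧ e * e' * (e * (e * e')) = e ∧ t * (e * e') = e * e' * t ∧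
    v * (e * e') * v * (e * e') ≠ 1 := by
  decide +kernel

theorem conj_facts : ∀ v : W, inZ (f * v) → ∀ u : W, u * e = e * u → u * v = v * u → u * t = t * u →
    u = 1 ∨ u = z0 := by decide +kernel

theorem orbit_e : ∀ u : W, u * z * u⁻¹ = z → u * e * u⁻¹ = e ∨ u * e * u⁻¹ = e * z := by decide +kernel

theorem beta_facts : ∀ a : D,
    (⟨a, 1, false⟩ : W)⁻¹ * z * (⟨a, 1, false⟩ : W)⁻¹⁻¹ = z := by decide +kernel

/-- An element outside commuting with the swap, interchanging `e` and a second reflection `v`. -/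
theorem normal_form (h2 : IsPGroup 2 S) (hr : Cfsg.SectionalPRankLE 2 4 S) (hι : Function.Injective ι)
    (hne : ι.range ≠ ⊤) :
    ∃ (g : S) (v : W), g ∈ Subgroup.normalizer (ι.range : Set S) ∧ inZ (f * v) ∧ g * ι t = ι t * g ∧
      g * ι e * g⁻¹ = ι v ∧ g * ι v * g⁻¹ = ι e ∧ (g * g = 1 ∨ g * g = ι z0) := by
  obtain ⟨g₀, hg₀, hg₀P⟩ := exists_outside h2 hne
  obtain ⟨g, hg, hgP, α, hα, hz⟩ : ∃ g ∈ Subgroup.normalizer (ι.range : Set S), g ∉ ι.range ∧
      ∃ α : W ≃* W, (∀ w, ι (α w) = g * ι w * g⁻¹) ∧ α z = z := by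
    obtain ⟨α, hα⟩ := exists_aut hι hg₀
    rcases aut_z α with ⟨hz, -⟩ | ⟨-, hz⟩
    · exact ⟨g₀, hg₀, hg₀P, α, hα, hz⟩
    · refine ⟨_, (mul_mem_norm hg₀ hg₀P t).1, (mul_mem_norm hg₀ hg₀P t).2, _, aut_mul hα t, ?_⟩
      show α (t * z * t⁻¹) = z
      rw [t_inv, gen_rel.2.2.2.2.2.2.2.2.2.1, hz]
  have hsw : (α t).swap = true := by
    rcases Bool.eq_false_or_eq_true (α t).swap with h | h
    · exact h
    · exfalso
      obtain ⟨v₁, v₂, h1, h3, h4⟩ := base_prod _ h
      obtain ⟨hs1, hs2⟩ := swaps h2 hr hι hgP hα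
      obtain ⟨u₁, rfl⟩ := α.surjective v₁
      obtain ⟨u₂, rfl⟩ := α.surjective v₂
      rw [← map_mul, α.injective.eq_iff] at h4
      have := base.mul_mem (show u₁ ∈ base from ((hs2 u₁).mp h1).1) (show u₂ ∈ base from ((hs1 u₂).mp h3).1)
      rw [← h4] at this
      exact absurd (mem_base.mp this) (by decide)
  obtain ⟨a, ha⟩ := outer_invol _ hsw (by rw [← map_mul, gen_rel.2.2.2.2.1, map_one])
  set β : W := ⟨a, 1, false⟩ with hβ
  set g₁ := ι β⁻¹ * g with hg₁
  have hg₁N : g₁ ∈ Subgroup.normalizer (ι.range : Set S) := mul_mem (Subgroup.le_normalizer ⟨_, rfl⟩) hg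
  have hg₁P : g₁ ∉ ι.range := fun h => hgP ((Subgroup.mul_mem_cancel_left _ (MonoidHom.mem_range.mpr ⟨_, rfl⟩)).mp h)
  obtain ⟨α₁, hα₁⟩ := exists_aut hι hg₁N
  have hrel : ∀ w, α₁ w = β⁻¹ * α w * β⁻¹⁻¹ := fun w => hι (by
    simp only [hα₁, map_mul, map_inv, hα, hg₁]
    group)
  have ht : α₁ t = t := by rw [hrel, ← ha]; group
  have hz₁ : α₁ z = z := by rw [hrel, hz, beta_facts a]
  obtain ⟨hs1, hs2⟩ := swaps h2 hr hι hg₁P hα₁
  set v := α₁ e with hv
  have hvV : inV2 v := (hs1 e).mpr gen_mem.1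
  have hvZ : inZ (f * v) := by
    refine find_f v hvV (fun hZ => gen_mem.2.1 ((hs2 e).mp ((V1_inter_V2 _).mpr hZ).1)) fun u hu => ?_
    obtain ⟨u, rfl⟩ := α₁.surjective u
    rw [hv, ← map_mul, ← map_mul]
    have hu2 := (hs2 u).mp hu
    rcases e_sq u hu2 with h | h
    · left
      rw [show u * e * (u * e) = e⁻¹ * (e * u * (e * u)) * e by group, h, mul_one, inv_mul_cancel, map_one]
    · right
      rw [show u * e * (u * e) = e⁻¹ * (e * u * (e * u)) * e by group, h, show e⁻¹ * z * e = z by decide +kernel, hz₁]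
  obtain ⟨-, hvv, hev, hc1, hc2, hshift, hee, hte, -⟩ := v_facts v hvZ
  have htg : g₁ * ι t = ι t * g₁ := by
    have := hα₁ t
    rw [ht] at this
    exact mul_inv_eq_iff_eq_mul.mp this.symm
  have hkey : ∀ (k : S) (γ : W ≃* W), k ∈ Subgroup.normalizer (ι.range : Set S) → k ∉ ι.range →
      (∀ w, ι (γ w) = k * ι w * k⁻¹) → k * ι t = ι t * k → γ e = v → γ v = e →
      ∃ (g : S) (v : W), g ∈ Subgroup.normalizer (ι.range : Set S) ∧ inZ (f * v) ∧ g * ι t = ι t * g ∧
      g * ι e * g⁻¹ = ι v ∧ g * ι v * g⁻¹ = ι e ∧ (g * g = 1 ∨ g * g = ι z0) := by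
    intro k γ hk hkP hγ hkt he hv'
    refine ⟨k, v, hk, hvZ, hkt, by rw [← hγ, he], by rw [← hγ, hv'], ?_⟩
    have hkk : k * k ∈ ι.range := by
      have hmem : (⟨k, hk⟩ : Subgroup.normalizer (ι.range : Set S)) * ⟨k, hk⟩ ∈
          ι.range.subgroupOf (Subgroup.normalizer (ι.range : Set S)) :=
        (Subgroup.mul_mem_iff_of_index_two (relIndex_two h2 hr hι hne)).mpr Iff.rfl
      exact hmem
    obtain ⟨u, hu⟩ := MonoidHom.mem_range.mp hkk
    have hconj : ∀ w, γ (γ w) = u * w * u⁻¹ := fun w => hι (by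
      rw [hγ, hγ, map_mul, map_mul, map_inv, hu]; group)
    have hue : u * e = e * u := mul_inv_eq_iff_eq_mul.mp (by rw [← hconj, he, hv'])
    have huv : u * v = v * u := mul_inv_eq_iff_eq_mul.mp (by rw [← hconj, hv', he])
    have hut : u * t = t * u := (apply_comm hι).mp (by
      rw [hu, mul_assoc, hkt, ← mul_assoc, hkt, mul_assoc])
    rcases conj_facts v hvZ u hue huv hut with h | h
    · left; rw [← hu, h, map_one]
    · right; rw [← hu, h]
  have hsq : ∃ u, ι u = g₁ * g₁ := MonoidHom.mem_range.mp (by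
    have hmem : (⟨g₁, hg₁N⟩ : Subgroup.normalizer (ι.range : Set S)) * ⟨g₁, hg₁N⟩ ∈
        ι.range.subgroupOf (Subgroup.normalizer (ι.range : Set S)) :=
      (Subgroup.mul_mem_iff_of_index_two (relIndex_two h2 hr hι hne)).mpr Iff.rfl
    exact hmem)
  obtain ⟨u, hu⟩ := hsq
  have hconj : ∀ w, α₁ (α₁ w) = u * w * u⁻¹ := fun w => hι (by
    rw [hα₁, hα₁, map_mul, map_mul, map_inv, hu]; group)
  have horb : α₁ v = e ∨ α₁ v = e * z := by
    rw [hv, hconj]
    exact orbit_e u (by rw [← hconj, hz₁, hz₁])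
  rcases horb with h | h
  · exact hkey g₁ α₁ hg₁N hg₁P hα₁ htg hv.symm h
  · have hci : (e * e')⁻¹ = e * e' := by decide +kernel
    refine hkey _ _ (mul_mem_norm hg₁N hg₁P (e * e')).1 (mul_mem_norm hg₁N hg₁P (e * e')).2 (aut_mul hα₁ (e * e')) ?_ ?_ ?_
    · rw [mul_assoc, ← map_mul, ← hte, map_mul, ← mul_assoc, htg, mul_assoc]
    · show α₁ (e * e' * e * (e * e')⁻¹) = v
      rw [hci, mul_assoc (e * e'), hee]
    · show α₁ (e * e' * v * (e * e')⁻¹) = e
      rw [hci, mul_assoc (e * e'), hshift, map_mul, h, hz₁, mul_assoc]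
      decide +kernel

theorem card_range (hι : Function.Injective ι) : Nat.card ι.range = 128 := by
  rw [← Nat.card_congr (MonoidHom.ofInjective hι).toEquiv, card_W]

theorem q_facts : ∀ v : W, inZ (f * v) →
    e * v * (e' * (t * v * t)) * (e * v * (e' * (t * v * t))) = z0 ∧
    e * v * (e' * (t * v * t)) * (e * (e * v * (e' * (t * v * t))) * e) = z' := by
  decide +kernel

/-- The quotient of the normaliser by the centre. -/
theorem quotient_iso (h2 : IsPGroup 2 S) (hr : Cfsg.SectionalPRankLE 2 4 S) (hι : Function.Injective ι)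
    (hne : ι.range ≠ ⊤) [((Subgroup.center S).subgroupOf (Subgroup.normalizer (ι.range : Set S))).Normal] :
    Nonempty (W ≃* (Subgroup.normalizer (ι.range : Set S) ⧸
      (Subgroup.center S).subgroupOf (Subgroup.normalizer (ι.range : Set S)))) := by
  obtain ⟨g, v, hgN, hv, hgt, hge, hgv, hgg⟩ := normal_form h2 hr hι hne
  set M := Subgroup.normalizer (ι.range : Set S) with hM
  set C := (Subgroup.center S).subgroupOf M with hC
  set π := QuotientGroup.mk' C with hπ
  have hcard : Nat.card (M ⧸ C) = 128 := by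
    have h1 : Nat.card C = 2 := by
      rw [Nat.card_congr (Subgroup.subgroupOfEquivOfLe (Subgroup.center_le_normalizer _)).toEquiv, Nat.card_eq_two_iff]
      refine ⟨1, ⟨ι z0, (center_eq h2 hr hι _).mpr (Or.inr rfl)⟩, fun h => ?_, ?_⟩
      · exact gen_rel.2.2.2.2.2.2.2.2.2.2.2.2.1 (hι ((congrArg Subtype.val h.symm).trans (map_one ι).symm))
      · refine Set.eq_univ_of_forall fun x => ?_
        rcases (center_eq h2 hr hι _).mp x.2 with h | h
        · exact Or.inl (Subtype.ext h)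
        · exact Or.inr (Subtype.ext h)
    have h3 := Subgroup.card_eq_card_quotient_mul_card_subgroup C
    have h4 := Subgroup.card_mul_index (ι.range.subgroupOf M)
    rw [Nat.card_congr (Subgroup.subgroupOfEquivOfLe Subgroup.le_normalizer).toEquiv, card_range hι] at h4
    rw [show (ι.range.subgroupOf M).index = 2 from relIndex_two h2 hr hι hne] at h4
    rw [h1, ← h4] at h3
    omega
  let ρ : W →* M := ι.codRestrict M fun w => Subgroup.le_normalizer ⟨w, rfl⟩
  let G : M := ⟨g, hgN⟩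
  have hz0 : π (ρ z0) = 1 := (QuotientGroup.eq_one_iff _).mpr
    (Subgroup.mem_subgroupOf.mpr ((center_eq h2 hr hι _).mpr (Or.inr rfl)))
  have hGG : π G * π G = 1 := by
    rw [← map_mul]
    refine (QuotientGroup.eq_one_iff _).mpr (Subgroup.mem_subgroupOf.mpr ((center_eq h2 hr hι _).mpr ?_))
    exact hgg
  have hz' : π (ρ z') ≠ 1 := by
    intro h
    have h' := Subgroup.mem_subgroupOf.mp ((QuotientGroup.eq_one_iff _).mp h)
    rcases (center_eq h2 hr hι _).mp h' with h1 | h1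
    · exact absurd (hι (h1.trans (map_one ι).symm)) (by decide +kernel)
    · exact absurd (hι h1) (by decide +kernel)
  let τ := π.comp ρ
  set E := τ e with hE
  set T := τ t with hT
  set Γ := π G with hΓ
  have hτ : ∀ a b : W, τ a * τ b = τ (a * b) := fun a b => (map_mul τ a b).symm
  have hGE : Γ * τ e * Γ⁻¹ = τ v := by
    show π G * π (ρ e) * (π G)⁻¹ = π (ρ v)
    rw [← map_mul, ← map_inv, ← map_mul]
    exact congrArg π (Subtype.ext hge)
  have hGV : Γ * τ v * Γ⁻¹ = τ e := by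
    show π G * π (ρ v) * (π G)⁻¹ = π (ρ e)
    rw [← map_mul, ← map_inv, ← map_mul]
    exact congrArg π (Subtype.ext hgv)
  have hGT : Γ * T = T * Γ := by
    show π G * π (ρ t) = π (ρ t) * π G
    rw [← map_mul, ← map_mul]
    exact congrArg π (Subtype.ext hgt)
  have hGi : Γ⁻¹ = Γ := inv_eq_of_mul_eq_one_right hGG
  obtain ⟨ree, -, ree', -, rtt, rte, -⟩ := gen_rel
  have hTT : T * T = 1 := by rw [hT, hτ, rtt, map_one]
  have hEE : E * E = 1 := by rw [hE, hτ, ree, map_one]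
  have hGE' : Γ * τ e' * Γ⁻¹ = τ (t * v * t) := by
    rw [← rte, map_mul, map_mul, map_mul, map_mul, ← hT, ← hGE]
    calc Γ * (T * τ e * T) * Γ⁻¹ = (Γ * T) * τ e * (T * Γ⁻¹) := by simp only [mul_assoc]
      _ = _ := by
        rw [show T * Γ⁻¹ = Γ⁻¹ * T by rw [hGi, hGT], hGT]
        simp only [mul_assoc]
  obtain ⟨-, hvv, hev, hc1, hc2, -, -, -, -⟩ := v_facts v hv
  obtain ⟨hsqz, hz'rel⟩ := q_facts v hv
  -- the three generators
  set A := τ (e * t * e) with hA
  set B := T * Γ with hB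
  have hxAx : E * A * E = T := by
    rw [hA, hE, hτ, hτ]
    exact congrArg τ (by decide +kernel)
  have hxBx : E * B * E = τ (e * (t * v * t)) * B := by
    have h1 : Γ * E = τ v * Γ := mul_inv_eq_iff_eq_mul.mp hGE
    rw [hB, hE] at *
    calc τ e * (T * Γ) * τ e = τ e * T * (Γ * τ e) := by simp only [mul_assoc]
      _ = τ (e * t * v) * Γ := by rw [h1, hT, hτ, ← mul_assoc, hτ]
      _ = τ (e * (t * v * t) * t) * Γ := by
        congr 2
        simp only [mul_assoc, rtt, mul_one]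
      _ = _ := by rw [map_mul τ _ t, ← hT, mul_assoc]
  have hAT : A * T = T * A := by rw [hA, hT, hτ, hτ]; exact congrArg τ (by decide +kernel)
  have hBB : B * B = 1 := by
    rw [hB, mul_assoc, ← mul_assoc Γ, hGT, mul_assoc, hGG, mul_one, hTT]
  have hBT : B * T = T * B := by rw [hB, mul_assoc, hGT]
  have hpq : A * (E * B * E) = E * B * E * A := by
    have h := congrArg (fun w => E * w * E) hBT
    have hAe : A = E * T * E := by
      rw [← hxAx, show E * (E * A * E) * E = (E * E) * A * (E * E) by simp only [mul_assoc], hEE, one_mul, mul_one]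
    have hm : ∀ a b : M ⧸ C, E * a * E * (E * b * E) = E * (a * b) * E := fun a b => by
      simp only [mul_assoc]; rw [← mul_assoc E E, hEE, one_mul]
    rw [hAe, hm, hm]
    exact h.symm
  have hconjB : B * τ (e * (t * v * t)) * B⁻¹ = τ (e * (t * v * t)) := by
    have h1 : Γ * τ (e * (t * v * t)) * Γ⁻¹ = τ (v * e') := by
      have h3 : Γ * τ (t * v * t) * Γ⁻¹ = τ e' := by
        rw [← hGE', hGi]
        calc Γ * (Γ * τ e' * Γ) * Γ = (Γ * Γ) * τ e' * (Γ * Γ) := by simp only [mul_assoc]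
          _ = _ := by rw [hGG, one_mul, mul_one]
      rw [map_mul τ e, show Γ * (τ e * τ (t * v * t)) * Γ⁻¹ = (Γ * τ e * Γ⁻¹) * (Γ * τ (t * v * t) * Γ⁻¹) by group,
        hGE, h3, ← map_mul]
    rw [hB, show T * Γ * τ (e * (t * v * t)) * (T * Γ)⁻¹ = T * (Γ * τ (e * (t * v * t)) * Γ⁻¹) * T⁻¹ by group, h1,
      inv_eq_of_mul_eq_one_right hTT, hT, hτ, hτ]
    refine congrArg τ ?_
    have key : ∀ w : W, inZ (f * w) → t * (w * e') * t = e * (t * w * t) := by decide +kernel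
    exact key v hv
  have hqq : B * (E * B * E) = E * B * E * B := by
    rw [hxBx, ← mul_assoc, mul_inv_eq_iff_eq_mul.mp hconjB]
  have hAB : A * B = τ (e * e') * Γ := by
    rw [hA, hB, ← mul_assoc, hT, hτ]
    exact congrArg (fun w => τ w * Γ) (by decide +kernel)
  have hABsq : (A * B) ^ 2 = τ (e * v * (e' * (t * v * t))) := by
    rw [pow_two, hAB, show τ (e * e') * Γ * (τ (e * e') * Γ) = τ (e * e') * (Γ * τ (e * e') * Γ⁻¹) * (Γ * Γ) by group,
      hGG, mul_one, map_mul τ e e', show Γ * (τ e * τ e') * Γ⁻¹ = (Γ * τ e * Γ⁻¹) * (Γ * τ e' * Γ⁻¹) by group,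
      hGE, hGE', ← map_mul, ← map_mul, ← map_mul]
    refine congrArg τ ?_
    have key : ∀ w : W, inZ (f * w) → e * e' * (w * (t * w * t)) = e * w * (e' * (t * w * t)) := by decide +kernel
    exact key v hv
  refine nonempty_mulEquiv_of_card hcard A B E ?_ hBB hEE ?_ ?_ hpq hqq ?_
  · rw [hA, hτ]
    rw [show e * t * e * (e * t * e) = 1 by decide +kernel, map_one]
  · rw [show (4 : ℕ) = 2 * 2 from rfl, pow_mul, hABsq, pow_two, hτ, hsqz]
    exact hz0
  · rw [hxAx, hAT]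
  · rw [hABsq, hE, hτ, hτ, hτ, hz'rel]
    exact hz'

end H31.DWr
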